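import Cfsg.Agent.Lib.Blocks.Order95040.Sylow
import Cfsg.Agent.Lib.Perm.RationalValue

/-!
# Congruences between rational character values
-/

set_option autoImplicit false

namespace CfsgLib.Blocks.Order95040

open Cfsg CfsgLib CfsgLib.Char CfsgLib.CharIntegral
open scoped Classical

variable {G : Type*} [Group G] [Fintype G]

/-- If the values at `g ^ (k A + B)` for `0 < k < p` are one integer `u`, where `g ^ (p A) = 1`, then
`u` is congruent modulo `p` to the integer value at `g ^ B`. -/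
theorem value_congr {p A B : ℕ} (hp : p ≠ 0) {g : G} (hA : orderOf g ∣ p * A)
    (χ : IrrCharacter G) {u v : ℤ}
    (hu : ∀ k, 0 < k → k < p → (χ : G → ℂ) (g ^ (k * A + B)) = (u : ℂ))
    (hv : (χ : G → ℂ) (g ^ B) = (v : ℂ)) : (p : ℤ) ∣ v - u := by
  obtain ⟨n, ρ, hρ, hρc'⟩ := χ.2
  have hρc := hρc'.symm
  obtain ⟨μ, hμ, -, hpow, -⟩ := exists_eigenvalues ρ g
  set S := Finset.univ.filter fun i => μ i ^ A = 1
  have hint : IsIntegral ℤ (∑ i ∈ S, μ i ^ B - (u : ℂ)) := by
    refine IsIntegral.sub (IsIntegral.sum _ fun i _ => IsIntegral.pow ?_ _) isIntegral_algebraMap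
    exact ⟨Polynomial.X ^ orderOf g - 1, Polynomial.monic_X_pow_sub_C 1 (orderOf_pos g).ne',
      by simp [hμ i]⟩
  have hsum : ∑ k ∈ Finset.range p, (χ : G → ℂ) (g ^ (k * A + B)) =
      (p : ℂ) * ∑ i ∈ S, μ i ^ B := by
    simp only [hρc, hpow]
    rw [Finset.sum_comm, Finset.mul_sum, Finset.sum_filter]
    refine Finset.sum_congr rfl fun i _ => ?_
    have hroot : (μ i ^ A) ^ p = 1 := by
      obtain ⟨c, hc⟩ := hA
      rw [← pow_mul, mul_comm, hc, pow_mul, hμ i, one_pow]
    have hg := Order7920.geom_root hroot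
    simp only [pow_add, pow_mul', ← Finset.sum_mul, hg]
    split_ifs with h <;> simp
  obtain ⟨q, rfl⟩ : ∃ q, p = q + 1 := ⟨p - 1, by omega⟩
  rw [Finset.sum_range_succ', zero_mul, zero_add, hv,
    Finset.sum_congr rfl fun k hk => hu (k + 1) (Nat.succ_pos k)
      (by have := Finset.mem_range.1 hk; omega), Finset.sum_const, Finset.card_range,
    nsmul_eq_mul] at hsum
  obtain ⟨N, hN⟩ : ∃ N : ℕ, N = (v - u).natAbs := ⟨_, rfl⟩
  rw [← Int.natAbs_dvd_natAbs, Int.natAbs_natCast, ← hN]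
  refine CharIntegral.dvd_of_isIntegral_div hp ?_
  have h1 : ((v - u : ℤ) : ℂ) / ((q + 1 : ℕ) : ℂ) = ∑ i ∈ S, μ i ^ B - (u : ℂ) := by
    have hne : ((q + 1 : ℕ) : ℂ) ≠ 0 := Nat.cast_ne_zero.2 hp
    rw [div_eq_iff hne]
    push_cast at hsum ⊢
    linear_combination hsum
  rw [← h1] at hint
  rcases Int.natAbs_eq (v - u) with e | e
  · rw [e, ← hN, Int.cast_natCast] at hint
    exact hint
  · rw [e, ← hN, Int.cast_neg, Int.cast_natCast, neg_div] at hint
    simpa using hint.neg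

/-- An integer value from conjugacy with all powers prime to the order. -/
theorem exists_int_value (χ : IrrCharacter G) {g : G}
    (h : ∀ m : ℕ, m.Coprime (orderOf g) → IsConj (g ^ m) g) :
    ∃ u : ℤ, (χ : G → ℂ) g = (u : ℂ) := by
  refine CfsgLib.Perm.RationalValue.exists_eq_int (IsIrr.isCharacter χ.2) g fun m hm => ?_
  obtain ⟨c, hc⟩ := isConj_iff.1 (h m (Nat.Coprime.coprime_dvd_right (orderOf_dvd_natCard g) hm))
  have h2 := IsIrr.isClassFunction χ.2 (g ^ m) c
  rw [hc] at h2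
  exact h2.symm

end CfsgLib.Blocks.Order95040
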