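import Mathlib.RepresentationTheory.Basic
import Mathlib.LinearAlgebra.FreeModule.PID
import Mathlib.LinearAlgebra.Matrix.ToLin
import Mathlib.RingTheory.Localization.Module
import Mathlib.Analysis.Complex.Basic
import Mathlib.Tactic

/-!
# An integral basis from a vector with integer coordinates
-/

set_option autoImplicit false

namespace CfsgLib.Blocks.Order95040

open scoped Classical

theorem exists_intBasis {G : Type*} [Group G] [Fintype G] {V : Type*} [AddCommGroup V]
    [Module ℂ V] [FiniteDimensional ℂ V] (ρ : Representation ℂ G V) {ι κ : Type*} [Finite ι]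
    [Fintype κ] (W : ι → V) (f : κ → V →ₗ[ℂ] ℂ)
    (hint : ∀ j g i, ∃ k : ℤ, f j (ρ g (W i)) = k)
    (sep : ∀ u, (∀ j g, f j (ρ g u) = 0) → u = 0)
    (hspan : Submodule.span ℂ (Set.range fun p : G × ι => ρ p.1 (W p.2)) = ⊤) :
    ∃ b : Module.Basis (Fin (Module.finrank ℂ V)) ℂ V, ∀ A : V →ₗ[ℂ] V,
      (∀ g i, A (ρ g (W i)) ∈
        Submodule.span ℤ (Set.range fun p : G × ι => ρ p.1 (W p.2))) →
      ∃ M : Matrix (Fin (Module.finrank ℂ V)) (Fin (Module.finrank ℂ V)) ℤ,
        LinearMap.toMatrix b b A = M.map (Int.castRingHom ℂ) := by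
  set S := Set.range fun p : G × ι => ρ p.1 (W p.2)
  set L := Submodule.span ℤ S with hL
  have hL' : ∀ u ∈ L, ∀ p : κ × G, ∃ k : ℤ, f p.1 (ρ p.2 u) = k := by
    intro u hu
    induction hu using Submodule.span_induction with
    | mem x hx =>
      obtain ⟨⟨a, i⟩, rfl⟩ := hx
      intro g
      obtain ⟨k, hk⟩ := hint g.1 (g.2 * a) i
      exact ⟨k, by rw [← hk, map_mul]; rfl⟩
    | zero => intro g; exact ⟨0, by simp⟩
    | add x y _ _ hx hy =>
      intro g
      obtain ⟨k, hk⟩ := hx g
      obtain ⟨l, hl⟩ := hy g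
      exact ⟨k + l, by simp [hk, hl]⟩
    | smul a x _ hx =>
      intro g
      obtain ⟨k, hk⟩ := hx g
      exact ⟨a * k, by simp [hk, zsmul_eq_mul]⟩
  choose k hk using fun (u : L) (g : κ × G) => hL' u u.2 g
  have hk' : ∀ (u : L) j g, f j (ρ g (u : V)) = (k u (j, g) : ℂ) := fun u j g => hk u (j, g)
  have : Module.IsTorsionFree ℤ V := Module.IsTorsionFree.trans_faithfulSMul ℤ ℂ V
  have : Module.Finite ℤ L := Module.Finite.iff_fg.2 (Submodule.fg_span (Set.finite_range _))
  let e := Module.finBasis ℤ L
  have hind : LinearIndependent ℂ fun i => ((e i : L) : V) := by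
    have h1 : LinearIndependent ℤ fun i => (fun g => ((k (e i) g : ℤ) : ℚ)) := by
      rw [Fintype.linearIndependent_iff]
      intro c hc i
      have h0 : ((∑ j, c j • e j : L) : V) = 0 := sep _ fun jj gg => by
        have h := congrArg (fun q : ℚ => ((q : ℚ) : ℂ)) (congrFun hc (jj, gg))
        simp only [Finset.sum_apply, Pi.smul_apply, Pi.zero_apply, Rat.cast_sum, Rat.cast_zero,
          zsmul_eq_mul, Rat.cast_mul, Rat.cast_intCast] at h
        rw [← h]
        simp [map_sum, hk', zsmul_eq_mul]
      exact Fintype.linearIndependent_iff.1 e.linearIndependent c (Subtype.ext h0) i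
    rw [LinearIndependent.iff_fractionRing ℤ ℚ] at h1
    obtain ⟨B, hB⟩ := LinearMap.exists_leftInverse_of_injective
      (Fintype.linearCombination ℚ fun i => (fun g => ((k (e i) g : ℤ) : ℚ)))
      (LinearMap.ker_eq_bot.2 h1.fintypeLinearCombination_injective)
    rw [Fintype.linearIndependent_iff]
    intro c hc i
    have hg : ∀ g, ∑ j, c j * (k (e j) g : ℂ) = 0 := fun g => by
      have h := congrArg (fun u => f g.1 (ρ g.2 u)) hc
      simpa [map_sum, hk] using h
    have hcoef : ∀ j, ∑ g, ((k (e j) g : ℤ) : ℚ) * B (Pi.single g 1) i =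
        if j = i then 1 else 0 := fun j => by
      have h := LinearMap.congr_fun hB (Pi.single j 1)
      rw [LinearMap.comp_apply, Fintype.linearCombination_apply_single, one_smul,
        pi_eq_sum_univ' (fun g => ((k (e j) g : ℤ) : ℚ)), map_sum, LinearMap.id_apply] at h
      have h' := congrFun h i
      simp only [Finset.sum_apply, map_smul, Pi.smul_apply, smul_eq_mul, Pi.single_apply] at h'
      rw [show (if j = i then (1 : ℚ) else 0) = if i = j then 1 else 0 by simp [eq_comm], ← h']
    have hsum : ∑ g, (∑ j, c j * (k (e j) g : ℂ)) * (B (Pi.single g 1) i : ℚ) = 0 := by simp [hg]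
    simp only [Finset.sum_mul, mul_assoc] at hsum
    rw [Finset.sum_comm] at hsum
    simp only [← Finset.mul_sum] at hsum
    have hcast : ∀ j, ∑ g, (k (e j) g : ℂ) * ((B (Pi.single g 1) i : ℚ) : ℂ) =
        if j = i then 1 else 0 := fun j => by
      rw [show (if j = i then (1 : ℂ) else 0) = (((if j = i then 1 else 0) : ℚ) : ℂ) by
        split_ifs <;> simp, ← hcoef j]
      push_cast
      rfl
    simpa [hcast] using hsum
  have htop : ⊤ ≤ Submodule.span ℂ (Set.range fun i => ((e i : L) : V)) := by
    rw [← hspan, Submodule.span_le]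
    intro x hx
    have h := e.sum_repr ⟨x, Submodule.subset_span hx⟩
    rw [show x = ((⟨x, Submodule.subset_span hx⟩ : L) : V) from rfl, ← h, Submodule.coe_sum]
    refine Submodule.sum_mem _ fun i _ => ?_
    rw [Submodule.coe_smul]
    exact zsmul_mem (Submodule.subset_span (R := ℂ) (Set.mem_range_self i)) _
  let b0 := Module.Basis.mk hind htop
  have hcard := Module.finrank_eq_card_basis b0
  rw [Fintype.card_fin] at hcard
  let b := b0.reindex (finCongr hcard.symm)
  refine ⟨b, fun A hA => ?_⟩
  have hA' : ∀ u ∈ L, A u ∈ L := by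
    intro u hu
    induction hu using Submodule.span_induction with
    | mem x hx => obtain ⟨⟨a, i⟩, rfl⟩ := hx; exact hA a i
    | zero => simp
    | add x y _ _ hx hy => rw [map_add]; exact L.add_mem hx hy
    | smul a x _ hx => rw [map_zsmul]; exact zsmul_mem hx _
  refine ⟨Matrix.of fun i j => e.repr ⟨A (e (finCongr hcard j)), hA' _ (e _).2⟩ (finCongr hcard i), ?_⟩
  ext i j
  rw [LinearMap.toMatrix_apply, Matrix.map_apply, Matrix.of_apply]
  have h := congrArg (fun u : L => (u : V))
    (e.sum_repr ⟨A (e (finCongr hcard j)), hA' _ (e _).2⟩)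
  have hb : ∀ l, b (finCongr hcard.symm l) = (e l : V) := fun l => by simp [b, b0]
  rw [show b j = (e (finCongr hcard j) : V) by rw [← hb]; simp]
  simp only [Submodule.coe_sum, Submodule.coe_smul] at h
  conv_lhs => rw [← h, map_sum, Finsupp.finsetSum_apply]
  simp only [← hb, map_zsmul, Module.Basis.repr_self, Finsupp.smul_apply, Finsupp.single_apply,
    zsmul_eq_mul, eq_intCast]
  rw [Finset.sum_eq_single (finCongr hcard i)]
  · simp
  · intro l _ hl
    rw [if_neg]
    · simp
    · intro e'; exact hl (by rw [← e']; simp)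
  · simp

end CfsgLib.Blocks.Order95040
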