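import Cfsg.Agent.Lib.Blocks.Order95040.Values
import Cfsg.Agent.Lib.Blocks.Order95040.Lattice
import Mathlib.RepresentationTheory.Basic
import Mathlib.LinearAlgebra.Matrix.Charpoly.LinearMap

/-!
# An eleven-dimensional representation over the field of two elements
-/

set_option autoImplicit false

namespace CfsgLib.Blocks.Order95040

open Cfsg CfsgLib CfsgLib.Char CfsgLib.CharIntegral
open scoped Classical

/-- Reduction modulo two. -/
noncomputable abbrev red {n : ℕ} :
    Matrix (Fin n) (Fin n) ℤ →+* Matrix (Fin n) (Fin n) (ZMod 2) :=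
  (Int.castRingHom (ZMod 2)).mapMatrix

/-- A matrix of trace zero and order eleven with trace of square zero is not congruent to one
modulo two, in dimensions not divisible by four. -/
theorem red_ne_one {n : ℕ} (hn : ¬ 4 ∣ n) (Z : Matrix (Fin n) (Fin n) ℤ)
    (h1 : Z.trace = 0) (h2 : (Z * Z).trace = 0) : red Z ≠ 1 := by
  intro h
  have hN : ∀ i j, (2 : ℤ) ∣ (Z - 1) i j := fun i j => by
    rw [← Nat.cast_ofNat, ← ZMod.intCast_zmod_eq_zero_iff_dvd]
    have := congrFun (congrFun (show red (Z - 1) = 0 by rw [map_sub, map_one, h, sub_self]) i) j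
    simpa using this
  choose N hN using hN
  have hZ : Z = 1 + (2 : ℤ) • Matrix.of N := by
    ext i j
    simp only [Matrix.add_apply, Matrix.smul_apply, Matrix.of_apply, smul_eq_mul, ← hN]
    simp [Matrix.sub_apply]
  set M := Matrix.of N
  have e1 : (n : ℤ) + 2 * M.trace = 0 := by
    rw [← h1, hZ, Matrix.trace_add, Matrix.trace_smul, Matrix.trace_one]; simp
  have e2 : (n : ℤ) + 4 * M.trace + 4 * (M * M).trace = 0 := by
    rw [← h2, hZ]
    simp only [mul_add, add_mul, one_mul, mul_one, Matrix.smul_mul, Matrix.mul_smul,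
      Matrix.trace_add, Matrix.trace_smul, Matrix.trace_one, smul_eq_mul, Fintype.card_fin]
    ring
  apply hn
  omega

theorem exists_hom_restrict {G : Type*} [Group G] {n : ℕ}
    (R : G →* Matrix (Fin n) (Fin n) (ZMod 2)) (U : Submodule (ZMod 2) (Fin n → ZMod 2))
    (hU : ∀ g, ∀ x ∈ U, (R g).mulVec x ∈ U) (g0 : G) (h0 : ∃ x ∈ U, (R g0).mulVec x ≠ x) {d : ℕ}
    (hd : Module.finrank (ZMod 2) U = d) :
    ∃ φ : G →* Matrix (Fin d) (Fin d) (ZMod 2), φ g0 ≠ 1 := by
  let b := (Module.finBasis (ZMod 2) U).reindex (finCongr hd)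
  let L : G →* Module.End (ZMod 2) U :=
    { toFun := fun g => ((R g).mulVecLin).restrict fun x hx => hU g x hx
      map_one' := LinearMap.ext fun x => Subtype.ext (by
        show (R 1).mulVec x.1 = x.1
        rw [map_one, Matrix.one_mulVec])
      map_mul' := fun g h => LinearMap.ext fun x => Subtype.ext (by
        show (R (g * h)).mulVec x.1 = (R g).mulVec ((R h).mulVec x.1)
        rw [map_mul, Matrix.mulVec_mulVec]) }
  refine ⟨(LinearMap.toMatrixAlgEquiv b).toRingEquiv.toRingHom.toMonoidHom.comp L, fun h => ?_⟩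
  obtain ⟨x, hx, hne⟩ := h0
  have h1 : L g0 = 1 := (LinearMap.toMatrixAlgEquiv b).injective (h.trans (map_one _).symm)
  apply hne
  have := congrArg Subtype.val (LinearMap.congr_fun h1 ⟨x, hx⟩)
  exact this

theorem ker_eq_range_of_sq {K V : Type*} [Field K] [AddCommGroup V] [Module K V]
    [FiniteDimensional K V] (u : V →ₗ[K] V) (h : LinearMap.ker u = LinearMap.range u) :
    2 * Module.finrank K (LinearMap.range u) = Module.finrank K V := by
  have := u.finrank_range_add_finrank_ker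
  rw [h] at this
  omega

/-- A commuting square root of `2`, `3` or `6` halves a representation modulo two. -/
theorem exists_half {G : Type*} [Group G] {n : ℕ} (R : G →* Matrix (Fin (2 * n)) (Fin (2 * n)) ℤ)
    (T : Matrix (Fin (2 * n)) (Fin (2 * n)) ℤ) {m : ℕ} (hm : m = 2 ∨ m = 3 ∨ m = 6)
    (hT : T * T = (m : ℤ) • 1) (hc : ∀ g, R g * T = T * R g) {z : G} (hz : z ^ 11 = 1)
    (hz1 : red (R z) ≠ 1) :
    ∃ φ : G →* Matrix (Fin n) (Fin n) (ZMod 2), φ z ≠ 1 := by
  set c : ℤ := ((m % 2 : ℕ) : ℤ) with hcdef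
  obtain ⟨o, ho, hoo⟩ : ∃ o : ℤ, (m : ℤ) - c * c = 2 * o ∧ ¬ (2 : ℤ) ∣ o := by
    rcases hm with rfl | rfl | rfl
    · exact ⟨1, by norm_num [hcdef], by norm_num⟩
    · exact ⟨1, by norm_num [hcdef], by norm_num⟩
    · exact ⟨3, by norm_num [hcdef], by norm_num⟩
  set U : Matrix (Fin (2 * n)) (Fin (2 * n)) ℤ := T - c • 1 with hU
  set u := (red U).mulVecLin with hu
  have hUU : U * U + (2 * c) • U = (2 * o) • 1 := by
    rw [← ho, hU]
    simp only [sub_mul, mul_sub, Matrix.smul_mul, Matrix.mul_smul, one_mul, mul_one, hT, smul_sub,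
      smul_smul]
    module
  have hred2 : ∀ (a : ℤ) (X : Matrix (Fin (2 * n)) (Fin (2 * n)) ℤ), red ((2 * a) • X) = 0 := by
    intro a X
    ext i j
    have h2 : ((2 : ℤ) : ZMod 2) = 0 := rfl
    simp only [RingHom.mapMatrix_apply, Matrix.map_apply, Matrix.smul_apply, smul_eq_mul,
      map_mul, Matrix.zero_apply, eq_intCast, h2, zero_mul]
  have husq : red U * red U = 0 := by
    have h := congrArg red hUU
    rw [map_add, map_mul, hred2, hred2, add_zero] at h
    exact h
  have hker : LinearMap.ker u = LinearMap.range u := by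
    refine le_antisymm (fun x hx => ?_) ?_
    · -- lift `x` and divide by two
      let X : Fin (2 * n) → ℤ := fun i => ((x i).val : ℤ)
      have hX : ∀ i, ((X i : ℤ) : ZMod 2) = x i := fun i => by simp [X]
      have hmv : ∀ (A : Matrix (Fin (2 * n)) (Fin (2 * n)) ℤ) (Y : Fin (2 * n) → ℤ),
          (fun i => (((A.mulVec Y) i : ℤ) : ZMod 2)) =
            (red A).mulVec fun i => ((Y i : ℤ) : ZMod 2) := fun A Y => by
        funext i
        exact (Int.castRingHom (ZMod 2)).map_mulVec A Y i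
      have hdiv : ∀ i, (2 : ℤ) ∣ (U.mulVec X) i := fun i => by
        rw [← Nat.cast_ofNat, ← ZMod.intCast_zmod_eq_zero_iff_dvd]
        have h := congrFun (hmv U X) i
        rw [show (fun i => ((X i : ℤ) : ZMod 2)) = x from funext hX] at h
        exact h.trans (congrFun (show (red U).mulVec x = 0 from hx) i)
      choose Y hY using hdiv
      refine ⟨fun i => ((Y i : ℤ) : ZMod 2), ?_⟩
      show (red U).mulVec _ = x
      have hUX : U.mulVec X = (2 : ℤ) • Y := funext fun i => by rw [hY i]; rfl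
      have h1 : U.mulVec ((2 : ℤ) • Y) + (2 * c) • ((2 : ℤ) • Y) = (2 * o) • X := by
        rw [← hUX, Matrix.mulVec_mulVec, ← Matrix.smul_mulVec, ← Matrix.add_mulVec, hUU,
          Matrix.smul_mulVec, Matrix.one_mulVec]
      rw [← hmv]
      funext i
      have h2 := congrFun h1 i
      simp only [Matrix.mulVec_smul, Pi.add_apply, Pi.smul_apply, smul_eq_mul] at h2
      have h3 : U.mulVec Y i = o * X i - 2 * c * Y i := by linarith
      rw [h3]
      have h4 : ((o : ℤ) : ZMod 2) = 1 := by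
        rcases Int.emod_two_eq_zero_or_one o with h | h
        · exact absurd (Int.dvd_of_emod_eq_zero h) hoo
        · rw [← ZMod.intCast_mod o 2]; simp [h]
      have h5 : ((2 : ℤ) : ZMod 2) = 0 := rfl
      push_cast
      rw [h4, hX i, show (2 : ZMod 2) = 0 from rfl]
      simp
    · rintro _ ⟨y, rfl⟩
      show (red U).mulVec ((red U).mulVec y) = 0
      rw [Matrix.mulVec_mulVec, husq, Matrix.zero_mulVec]
  have hdim : Module.finrank (ZMod 2) (LinearMap.range u) = n := by
    have h := ker_eq_range_of_sq u hker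
    rw [Module.finrank_fin_fun] at h
    omega
  let Rb : G →* Matrix (Fin (2 * n)) (Fin (2 * n)) (ZMod 2) := red.toMonoidHom.comp R
  have hcomm : ∀ g x, u ((Rb g).mulVec x) = (Rb g).mulVec (u x) := fun g x => by
    show (red U).mulVec ((red (R g)).mulVec x) = (red (R g)).mulVec ((red U).mulVec x)
    rw [Matrix.mulVec_mulVec, Matrix.mulVec_mulVec, ← map_mul, ← map_mul]
    congr 2
    simp [hU, sub_mul, mul_sub, hc g, Int.cast_comm]
  refine exists_hom_restrict Rb (LinearMap.range u) ?_ z ?_ hdim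
  · rintro g _ ⟨y, rfl⟩
    exact ⟨(Rb g).mulVec y, hcomm g y⟩
  · by_contra hno
    push Not at hno
    apply hz1
    set A := red (R z)
    have hfix : ∀ x, A.mulVec (A.mulVec x) = x := fun x => by
      have h1 : A.mulVec x - x ∈ LinearMap.range u := by
        rw [← hker, LinearMap.mem_ker, map_sub, sub_eq_zero, show A.mulVec x = (Rb z).mulVec x from
          rfl, hcomm]
        exact hno _ ⟨x, rfl⟩
      have h2 := hno _ h1
      rw [show (Rb z) = A from rfl, Matrix.mulVec_sub] at h2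
      have h3 : ∀ a : Fin (2 * n) → ZMod 2, a + a = 0 := fun a => funext fun i => by
        simp only [Pi.add_apply, Pi.zero_apply]
        exact CharTwo.add_self_eq_zero (a i)
      have h4 : A.mulVec (A.mulVec x) = A.mulVec x + A.mulVec x - x := by
        rw [eq_sub_iff_add_eq] at *
        linear_combination h2
      rw [h4, h3, zero_sub]
      exact (neg_eq_of_add_eq_zero_left (h3 x))
    have hA2 : A ^ 2 = 1 := Matrix.ext_of_mulVec_single fun i => by
      rw [pow_two, ← Matrix.mulVec_mulVec, hfix, Matrix.one_mulVec]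
    have hA11 : A ^ 11 = 1 := by rw [← map_pow, ← map_pow, hz, map_one, map_one]
    calc A = A ^ 11 := by rw [show (11 : ℕ) = 2 * 5 + 1 from rfl, pow_succ, pow_mul, hA2, one_pow,
          one_mul]
      _ = 1 := hA11

/-- An intertwiner-compatible integral matrix form of a representation. -/
theorem exists_matHom {G : Type*} [Group G] {V : Type*} [AddCommGroup V] [Module ℂ V]
    (ρ : Representation ℂ G V) {n : ℕ} (b : Module.Basis (Fin n) ℂ V)
    (hM : ∀ g, ∃ M : Matrix (Fin n) (Fin n) ℤ,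
      LinearMap.toMatrix b b (ρ g) = M.map (Int.castRingHom ℂ)) :
    ∃ R : G →* Matrix (Fin n) (Fin n) ℤ,
      ∀ g, (R g).map (Int.castRingHom ℂ) = LinearMap.toMatrix b b (ρ g) := by
  choose M hM using hM
  have hinj : Function.Injective
      fun M : Matrix (Fin n) (Fin n) ℤ => M.map (Int.castRingHom ℂ) :=
    Matrix.map_injective Int.cast_injective
  refine ⟨{ toFun := M, map_one' := hinj ?_, map_mul' := fun g h => hinj ?_ }, fun g => (hM g).symm⟩
  · show (M 1).map _ = (1 : Matrix (Fin n) (Fin n) ℤ).map _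
    rw [← hM, map_one, LinearMap.toMatrix_one, Matrix.map_one _ (map_zero _) (map_one _)]
  · show (M (g * h)).map _ = (M g * M h).map _
    rw [← hM, map_mul, LinearMap.toMatrix_mul, hM, hM, Matrix.map_mul]

variable {G : Type*} [Group G] [Fintype G] [IsSimpleGroup G] (hG : Nat.card G = 95040)
include hG

/-- A nontrivial representation of dimension eleven over the field of two elements. -/
theorem exists_mod2 {z : G} (hz : orderOf z = 11) :
    ∃ φ : G →* Matrix (Fin 11) (Fin 11) (ZMod 2), φ z ≠ 1 := by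
  obtain ⟨D⟩ := exists_elevenData hG hz
  obtain ⟨F⟩ := exists_fiveData hG D
  obtain ⟨K⟩ := exists_degData hG F
  set B := Subgroup.normalizer ((Subgroup.zpowers z : Subgroup G) : Set G) with hB
  have hB55 : Nat.card B = 55 := D.hnorm
  have hz2 : 11 ∣ orderOf (z * z) := by
    rw [← pow_two, orderOf_pow, hz]; norm_num
  have hvan : ∀ χ : IrrCharacter G, deg χ = 11 →
      (χ : G → ℂ) z = 0 ∧ (χ : G → ℂ) (z * z) = 0 := fun χ hd =>
    ⟨vanish hG (p := 11) (n := 1) (by norm_num) (by norm_num) (by norm_num)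
      (by rw [hd]; norm_num) (by rw [hz]),
    vanish hG (p := 11) (n := 1) (by norm_num) (by norm_num) (by norm_num)
      (by rw [hd]; norm_num) hz2⟩
  have hrep : ∀ χ : IrrCharacter G, deg χ = 11 → ∃ (ρ : Representation ℂ G (Fin 11 → ℂ))
      (w : Fin 11 → ℂ) (f : (Fin 11 → ℂ) →ₗ[ℂ] ℂ), ρ.character = (χ : G → ℂ) ∧
      (∀ g, 55 * f (ρ g w) = ∑ b : B, (χ : G → ℂ) (g * b)) ∧
      (∀ u, (∀ g, f (ρ g u) = 0) → u = 0) ∧
      Submodule.span ℂ (Set.range fun g => ρ g w) = ⊤ := by
    intro χ hd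
    obtain ⟨n, ρ, hρ, hρc⟩ := χ.2
    obtain rfl : n = 11 := (deg_eq_finrank hρc.symm).symm.trans hd
    have := hρ
    obtain ⟨w, f, h1, h2, h3⟩ := exists_fixed ρ B (by
      rw [hρc]; exact sum_normalizer hG K hd hB)
    refine ⟨ρ, w, f, hρc, fun g => ?_, h2, h3⟩
    rw [h1, hρc, hB55, Nat.cast_ofNat, ← mul_assoc, mul_inv_cancel₀ (by norm_num), one_mul]
  by_cases hall : ∀ g, ∃ i : ℤ, (K.c1 : G → ℂ) g - (K.c2 : G → ℂ) g = i
  · have hint : ∀ g, ∃ i : ℤ, (K.c1 : G → ℂ) g = i := fun g => by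
      obtain ⟨k, hk, -⟩ := sum_int hG K g
      obtain ⟨i, hi⟩ := hall g
      have hI : IsIntegral ℤ ((K.c1 : G → ℂ) g) := by
        obtain ⟨n, ρ, -, hρ⟩ := K.c1.2
        rw [← hρ]
        exact CfsgLib.CharIntegral.isIntegral_character ρ g
      have h : (K.c1 : G → ℂ) g = algebraMap ℚ ℂ (((k + i : ℤ) : ℚ) / 2) := by
        rw [eq_ratCast]; push_cast; rw [← hk, ← hi]; ring
      rw [h] at hI
      obtain ⟨j, hj⟩ := IsIntegrallyClosed.isIntegral_iff.mp
        ((isIntegral_algebraMap_iff (algebraMap ℚ ℂ).injective).1 hI)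
      exact ⟨j, by rw [h, ← hj]; simp⟩
    choose I hI using hint
    obtain ⟨ρ, w, f, hc, hf, hsep, hspan⟩ := hrep K.c1 K.d1
    obtain ⟨b, hb⟩ := exists_intBasis ρ (ι := Unit) (κ := Unit) (fun _ => w)
      (fun _ => (55 : ℂ) • f)
      (fun _ g _ => ⟨∑ b : B, I (g * b), by simp [hf, hI]⟩)
      (fun u hu => hsep u fun g => by simpa using hu () g)
      (by rw [← hspan]; congr 1; ext x; simp)
    have hfr : Module.finrank ℂ (Fin 11 → ℂ) = 11 := Module.finrank_fin_fun ℂ
    set b' := b.reindex (finCongr hfr) with hb'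
    obtain ⟨R, hR⟩ := exists_matHom ρ b' fun g => by
      obtain ⟨M, hM⟩ := hb (ρ g) fun a i =>
        Submodule.subset_span ⟨(g * a, i), by simp⟩
      exact ⟨M.submatrix (finCongr hfr).symm (finCongr hfr).symm, by
        rw [hb', ← Matrix.submatrix_map, ← hM]; ext i j; simp [LinearMap.toMatrix_apply]⟩
    have htr : ∀ g, ((R g).trace : ℂ) = (K.c1 : G → ℂ) g := fun g => by
      rw [← hc]
      show (Int.castRingHom ℂ) (R g).trace = LinearMap.trace ℂ _ (ρ g)
      rw [AddMonoidHom.map_trace, LinearMap.trace_eq_matrix_trace ℂ b', ← hR]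
    refine ⟨red.toMonoidHom.comp R, red_ne_one (by norm_num) (R z) ?_ ?_⟩
    · exact_mod_cast (htr z).trans (hvan _ K.d1).1
    · rw [← map_mul]; exact_mod_cast (htr (z * z)).trans (hvan _ K.d1).2
  push Not at hall
  obtain ⟨g0, hg0⟩ := hall
  obtain ⟨m, r, hm, hr, hrδ⟩ := exists_sqrt hG K (g0 := g0) (by simpa using hg0)
  obtain ⟨ρ1, w1, f1, hc1, hf1, hsep1, hspan1⟩ := hrep K.c1 K.d1
  obtain ⟨ρ2, w2, f2, hc2, hf2, hsep2, hspan2⟩ := hrep K.c2 K.d2
  have hr0 : r ≠ 0 := fun e => by rw [e] at hr; rcases hm with rfl | rfl | rfl <;> norm_num at hr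
  choose S hS using fun g => (⟨_, (sum_int hG K g).choose_spec.1⟩ :
    ∃ i : ℤ, (K.c1 : G → ℂ) g + (K.c2 : G → ℂ) g = i)
  choose J hJ using hrδ
  set ρ := ρ1.prod ρ2
  set Θ : ((Fin 11 → ℂ) × (Fin 11 → ℂ)) →ₗ[ℂ] ((Fin 11 → ℂ) × (Fin 11 → ℂ)) :=
    LinearMap.prodMap (r • LinearMap.id) (-(r • LinearMap.id)) with hΘ
  set W : Bool → (Fin 11 → ℂ) × (Fin 11 → ℂ) := fun i => if i then Θ (w1, w2) else (w1, w2)
  set f : ((Fin 11 → ℂ) × (Fin 11 → ℂ)) →ₗ[ℂ] ℂ := (55 : ℂ) • f1.coprod f2
  have hρ : ∀ g x, ρ g x = (ρ1 g x.1, ρ2 g x.2) := fun g x => rfl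
  have hΘρ : ∀ g x, Θ (ρ g x) = ρ g (Θ x) := fun g x => by simp [hΘ, hρ]
  have hΘΘ : ∀ x, Θ (Θ x) = (m : ℤ) • x := fun x => by
    rw [← Int.cast_smul_eq_zsmul ℂ, Int.cast_natCast, ← hr]
    ext i <;> simp [hΘ, pow_two, mul_assoc]
  have hfW : ∀ g, f (ρ g (w1, w2)) = ((∑ b : B, S (g * b) : ℤ) : ℂ) ∧
      f (ρ g (Θ (w1, w2))) = ((∑ b : B, J (g * b) : ℤ) : ℂ) := fun g => by
    push_cast
    simp only [← hS, ← hJ, Finset.sum_add_distrib, Finset.sum_sub_distrib, ← Finset.mul_sum,
      mul_sub, ← hf1, ← hf2]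
    constructor
    · simp [f, hρ, mul_add]
    · simp [f, hρ, hΘ]; ring
  obtain ⟨b, hb⟩ := exists_intBasis ρ (κ := Bool) W (fun j => if j then f ∘ₗ Θ else f)
    (fun j g i => by
      cases j <;> cases i
      · exact ⟨_, (hfW g).1⟩
      · exact ⟨_, (hfW g).2⟩
      · exact ⟨_, by simp only [W, if_true]; rw [LinearMap.comp_apply, hΘρ]; exact (hfW g).2⟩
      · refine ⟨(m : ℤ) * ∑ b : B, S (g * b), ?_⟩
        simp only [W, if_true]
        rw [LinearMap.comp_apply, hΘρ, hΘΘ, map_zsmul, map_zsmul, (hfW g).1, zsmul_eq_mul]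
        push_cast
        rfl)
    (fun u hu => by
      have h1 : ∀ g, f1 (ρ1 g u.1) + f2 (ρ2 g u.2) = 0 := fun g => by
        simpa [f, hρ, ← mul_add] using hu false g
      have h2 : ∀ g, f1 (ρ1 g u.1) - f2 (ρ2 g u.2) = 0 := fun g => by
        have h := hu true g
        simpa [f, hρ, hΘ, sub_eq_add_neg, ← mul_add, ← mul_neg, hr0] using h
      exact Prod.ext (hsep1 _ fun g => by linear_combination (h1 g + h2 g) / 2)
        (hsep2 _ fun g => by linear_combination (h1 g - h2 g) / 2))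
    (by
      set P := Submodule.span ℂ (Set.range fun p : G × Bool => ρ p.1 (W p.2))
      have hmem : ∀ g, ρ g (w1, w2) ∈ P ∧ ρ g (Θ (w1, w2)) ∈ P := fun g =>
        ⟨Submodule.subset_span ⟨(g, false), rfl⟩, Submodule.subset_span ⟨(g, true), rfl⟩⟩
      have hl : ∀ g, ((ρ1 g w1, 0) : (Fin 11 → ℂ) × (Fin 11 → ℂ)) ∈ P := fun g => by
        have h := P.smul_mem (2 * r)⁻¹ (P.add_mem (P.smul_mem r (hmem g).1) (hmem g).2)
        convert h using 1
        ext i <;> simp [hρ, hΘ] <;> field_simp <;> ring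
      have hr' : ∀ g, ((0, ρ2 g w2) : (Fin 11 → ℂ) × (Fin 11 → ℂ)) ∈ P := fun g => by
        have h := P.sub_mem (hmem g).1 (hl g)
        simpa [hρ] using h
      refine eq_top_iff.2 fun x _ => ?_
      have hx1 : x.1 ∈ P.comap (LinearMap.inl ℂ _ _) :=
        by
        have hsub : Submodule.span ℂ (Set.range fun g => ρ1 g w1) ≤ P.comap (LinearMap.inl ℂ _ _) :=
          Submodule.span_le.2 (Set.range_subset_iff.2 fun g => hl g)
        rw [hspan1] at hsub
        exact hsub trivial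
      have hx2 : x.2 ∈ P.comap (LinearMap.inr ℂ _ _) :=
        by
        have hsub : Submodule.span ℂ (Set.range fun g => ρ2 g w2) ≤ P.comap (LinearMap.inr ℂ _ _) :=
          Submodule.span_le.2 (Set.range_subset_iff.2 fun g => hr' g)
        rw [hspan2] at hsub
        exact hsub trivial
      have h := P.add_mem hx1 hx2
      simpa using h)
  have hfr : Module.finrank ℂ ((Fin 11 → ℂ) × (Fin 11 → ℂ)) = 2 * 11 := by simp
  set b' := b.reindex (finCongr hfr) with hb'
  have hmat : ∀ A, (∀ g i, A (ρ g (W i)) ∈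
      Submodule.span ℤ (Set.range fun p : G × Bool => ρ p.1 (W p.2))) →
      ∃ M : Matrix (Fin (2 * 11)) (Fin (2 * 11)) ℤ,
        LinearMap.toMatrix b' b' A = M.map (Int.castRingHom ℂ) := fun A hA => by
    obtain ⟨M, hM⟩ := hb A hA
    exact ⟨M.submatrix (finCongr hfr).symm (finCongr hfr).symm, by
      rw [hb', ← Matrix.submatrix_map, ← hM]; ext i j; simp [LinearMap.toMatrix_apply]⟩
  obtain ⟨R, hR⟩ := exists_matHom ρ b' fun g => hmat _ fun a i =>
    Submodule.subset_span ⟨(g * a, i), by simp⟩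
  obtain ⟨T, hT⟩ := hmat Θ fun g i => by
    rw [hΘρ]
    cases i
    · exact Submodule.subset_span ⟨(g, true), rfl⟩
    · simp only [W, if_true]
      rw [hΘΘ, map_zsmul]
      exact zsmul_mem (Submodule.subset_span (Set.mem_range_self (g, false))) _
  have hinj : Function.Injective
      fun M : Matrix (Fin (2 * 11)) (Fin (2 * 11)) ℤ => M.map (Int.castRingHom ℂ) :=
    Matrix.map_injective Int.cast_injective
  have htr : ∀ g, ((R g).trace : ℂ) = (S g : ℂ) := fun g => by
    rw [← hS, ← hc1, ← hc2]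
    show (Int.castRingHom ℂ) (R g).trace = _
    rw [AddMonoidHom.map_trace, hR, ← LinearMap.trace_eq_matrix_trace ℂ b']
    exact LinearMap.trace_prodMap' (ρ1 g) (ρ2 g)
  refine exists_half R T hm (hinj ?_) (fun g => hinj ?_) (by rw [← hz]; exact pow_orderOf_eq_one z)
    (red_ne_one (by norm_num) (R z) ?_ ?_)
  · show (T * T).map _ = _
    rw [Matrix.map_mul, ← hT, ← LinearMap.toMatrix_mul,
      show Θ * Θ = (m : ℤ) • 1 from LinearMap.ext hΘΘ, map_zsmul, LinearMap.toMatrix_one]
    ext i j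
    rcases eq_or_ne i j with rfl | hij
    · simp [Matrix.map_apply, Matrix.smul_apply, ← Matrix.diagonal_natCast]
    · simp [Matrix.map_apply, Matrix.smul_apply, ← Matrix.diagonal_natCast, hij]
  · show (R g * T).map _ = (T * R g).map _
    rw [Matrix.map_mul, Matrix.map_mul, hR, ← hT, ← LinearMap.toMatrix_mul, ← LinearMap.toMatrix_mul]
    congr 1
    exact LinearMap.ext fun x => (hΘρ g x).symm
  · have h := hS z
    rw [(hvan _ K.d1).1, (hvan _ K.d2).1, add_zero] at h
    exact_mod_cast (htr z).trans h.symm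
  · rw [← map_mul]
    have h := hS (z * z)
    rw [(hvan _ K.d1).2, (hvan _ K.d2).2, add_zero] at h
    exact_mod_cast (htr (z * z)).trans h.symm

end CfsgLib.Blocks.Order95040
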