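import Cfsg.Agent.Lib.Blocks.Order7920.Mult
import Cfsg.Agent.Lib.Blocks.Order7920.Local
import Cfsg.Agent.Lib.Blocks.PrimeSylow.Principal
import Cfsg.Agent.Lib.Char.DefectZero
import Cfsg.Agent.Lib.Char.Brauer
import Cfsg.Agent.Lib.Char.Complete
import Cfsg.Agent.Lib.Char.Central
import Cfsg.Agent.Lib.ZStar.PrincipalBlock

/-!
# Simple groups of order 95040: general facts about characters and Sylow subgroups
-/

set_option autoImplicit false

namespace CfsgLib.Blocks.Order95040

open Cfsg CfsgLib CfsgLib.Char CfsgLib.CharIntegral CfsgLib.Blocks.PrimeSylow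
open scoped Classical ComplexConjugate commutatorElement

variable {G : Type*} [Group G] [Fintype G] [IsSimpleGroup G]

/-- The degree of a character. -/
noncomputable abbrev deg (χ : IrrCharacter G) : ℕ := charDegree (χ : G → ℂ)

/-- The order of the centralizer of an element. -/
noncomputable abbrev cent (g : G) : ℕ := Nat.card (Subgroup.centralizer ({g} : Set G))

omit [IsSimpleGroup G] in
theorem deg_cast (χ : IrrCharacter G) : (χ : G → ℂ) 1 = (deg χ : ℂ) := apply_one_eq_charDegree χ

omit [IsSimpleGroup G] in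
theorem deg_trivChar : deg (trivChar G) = 1 :=
  charDegree_eq (by rw [trivChar_apply, Nat.cast_one])

omit [IsSimpleGroup G] in
theorem deg_eq_finrank {χ : IrrCharacter G} {n : ℕ} {ρ : Representation ℂ G (Fin n → ℂ)}
    (e : (χ : G → ℂ) = ρ.character) : deg χ = n := by
  refine charDegree_eq ?_
  rw [e, Representation.char_one, Module.finrank_fin_fun]

theorem eq_one_or_all {χ : IrrCharacter G} {g : G} (h : (χ : G → ℂ) g = (χ : G → ℂ) 1) :
    g = 1 ∨ ∀ z : G, (χ : G → ℂ) z = (χ : G → ℂ) 1 := by
  rcases Subgroup.Normal.eq_bot_or_eq_top (normal_charKer χ) with h1 | h1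
  · have : g ∈ charKer χ := h
    rw [h1, Subgroup.mem_bot] at this
    exact Or.inl this
  · exact Or.inr fun z => (show z ∈ charKer χ by rw [h1]; trivial)

variable (hG : Nat.card G = 95040)
include hG

omit [Fintype G] in
theorem commutator_eq_top : commutator G = ⊤ := by
  refine (Subgroup.Normal.eq_bot_or_eq_top (inferInstance : (commutator G).Normal)).resolve_left
    fun h => ?_
  have hc : ∀ a b : G, a * b = b * a := fun a b =>
    commutatorElement_eq_one_iff_mul_comm.1 (Subgroup.mem_bot.1
      (h ▸ Subgroup.commutator_mem_commutator (Subgroup.mem_top a) (Subgroup.mem_top b) :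
        ⁅a, b⁆ ∈ (⊥ : Subgroup G)))
  let _ : CommGroup G := { ‹Group G› with mul_comm := hc }
  have := IsSimpleGroup.prime_card (α := G)
  rw [hG] at this
  exact absurd this (by norm_num)

omit [Fintype G] in
theorem center_eq_bot : Subgroup.center G = ⊥ := by
  refine (Subgroup.Normal.eq_bot_or_eq_top (inferInstance : (Subgroup.center G).Normal)).resolve_right
    fun h => ?_
  let _ : CommGroup G := { ‹Group G› with mul_comm := fun a b =>
    (Subgroup.mem_center_iff.1 (h ▸ Subgroup.mem_top b : b ∈ Subgroup.center G) a) }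
  have := IsSimpleGroup.prime_card (α := G)
  rw [hG] at this
  exact absurd this (by norm_num)

omit [Fintype G] in
theorem hom_eq_one (l : G →* ℂˣ) : l = 1 := by
  refine MonoidHom.ext fun g => ?_
  exact (Abelianization.commutator_subset_ker l) (by rw [commutator_eq_top hG]; trivial)

theorem deg_one {χ : IrrCharacter G} (h : deg χ = 1) : χ = trivChar G := by
  obtain ⟨l, hl⟩ := exists_linear_of_degree_one (IsIrr.isCharacter χ.2)
    (by rw [deg_cast, h, Nat.cast_one])
  exact irr_ext fun g => by rw [hl, hom_eq_one hG l, trivChar_apply]; rfl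

/-- A nontrivial irreducible character is faithful. -/
theorem faithful {χ : IrrCharacter G} (hχ : χ ≠ trivChar G) {g : G}
    (h : (χ : G → ℂ) g = (χ : G → ℂ) 1) : g = 1 := by
  refine (eq_one_or_all h).resolve_right fun hall => ?_
  obtain ⟨n, ρ, hρ, hρc'⟩ := χ.2
  have hρc := hρc'.symm
  have := hρ
  have hone : ∀ z, ρ z = 1 := fun z => by
    have hz : z ∈ charKer χ := hall z
    have h1 : ρ.character z = (Module.finrank ℂ (Fin n → ℂ) : ℂ) := by
      rw [← ρ.char_one, ← hρc]
      exact hz
    exact (CfsgLib.CharIntegral.character_eq_finrank_iff ρ z).1 h1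
  have hdet : deg χ = 1 := by
    have hsum := sum_character_mul_character_inv ρ
    simp only [Representation.character, hone] at hsum
    rw [show LinearMap.trace ℂ (Fin n → ℂ) (1 : Module.End ℂ (Fin n → ℂ)) = (n : ℂ) by
      rw [show (1 : Module.End ℂ (Fin n → ℂ)) = LinearMap.id from rfl, LinearMap.trace_id,
        Module.finrank_fin_fun]] at hsum
    rw [Finset.sum_const, Finset.card_univ, nsmul_eq_mul, ← Nat.card_eq_fintype_card] at hsum
    have hG0 : (Nat.card G : ℂ) ≠ 0 := Nat.cast_ne_zero.2 Nat.card_pos.ne'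
    have h1 : ((n * n : ℕ) : ℂ) = ((1 : ℕ) : ℂ) := by
      push_cast
      exact mul_left_cancel₀ hG0 (by rw [hsum, mul_one])
    have h2 : n * n = 1 := by exact_mod_cast h1
    rw [deg_eq_finrank hρc]
    exact Nat.eq_one_of_mul_eq_one_right h2
  exact hχ (deg_one hG hdet)

omit [IsSimpleGroup G] in
theorem deg_facts (χ : IrrCharacter G) :
    deg χ ∣ 95040 ∧ deg χ ≤ 308 ∧ 0 < deg χ := by
  have hd : deg χ ∣ 95040 := hG ▸ charDegree_dvd_card χ
  refine ⟨hd, ?_, charDegree_pos χ⟩
  have := Fintype.ofFinite (IrrCharacter G)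
  have h := sum_sq_degree (G := G)
  rw [hG] at h
  simp only [deg_cast] at h
  have h' : ∑ ψ : IrrCharacter G, deg ψ ^ 2 = 95040 := by exact_mod_cast h
  have := Finset.single_le_sum (fun ψ _ => Nat.zero_le (deg ψ ^ 2)) (Finset.mem_univ χ)
  by_contra hlt
  nlinarith

omit [IsSimpleGroup G] in
/-- A character of defect zero vanishes at the singular elements. -/
theorem vanish {p n : ℕ} (hp : p.Prime) (hn : p ^ n ∣ 95040) (hn' : ¬ p ^ (n + 1) ∣ 95040)
    {χ : IrrCharacter G} (hd : p ^ n ∣ deg χ) {x : G} (hx : p ∣ orderOf x) :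
    (χ : G → ℂ) x = 0 := by
  obtain ⟨m, ρ, hρ, hρc'⟩ := χ.2
  have hρc := hρc'.symm
  have := hρ
  rw [hρc]
  exact CfsgLib.Char.character_eq_zero_of_defect_zero
    (fun θ hθ hE => CfsgLib.Brauer.isGeneralizedCharacter_of_elementary hθ hE) ρ (p := p) (n := n)
    hp (hG ▸ hn) (hG ▸ hn') (by rwa [Module.finrank_fin_fun, ← deg_eq_finrank hρc]) hx

omit [IsSimpleGroup G] in
theorem card_sylow {p : ℕ} [Fact p.Prime] (hp : p = 11 ∨ p = 5) (P : Sylow p G) :
    Nat.card (P : Subgroup G) = p := by
  have h : ∀ m, 95040 = p * m → ¬ p ∣ m → (95040 : ℕ).factorization p = 1 := fun m e hm => by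
    rw [e, Nat.factorization_mul (Fact.out : p.Prime).ne_zero (fun m0 => by simp [m0] at e),
      Finsupp.add_apply, (Fact.out : p.Prime).factorization_self,
      Nat.factorization_eq_zero_of_not_dvd hm]
  rw [P.card_eq_multiplicity, hG]
  rcases hp with rfl | rfl
  · rw [h 8640 (by norm_num) (by norm_num), pow_one]
  · rw [h 19008 (by norm_num) (by norm_num), pow_one]

omit [Fintype G] [IsSimpleGroup G] in
theorem cent_dvd (g : G) : cent g ∣ 95040 :=
  hG ▸ Subgroup.card_subgroup_dvd_card _

omit [Fintype G] [IsSimpleGroup G] in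
theorem cent_mul_index (g : G) :
    cent g * (Subgroup.centralizer ({g} : Set G)).index = 95040 :=
  hG ▸ Subgroup.card_mul_index _

omit [IsSimpleGroup G] in
/-- Class sums act as algebraic integers: the divisibility it gives at a rational value. -/
theorem dvd_index_mul (χ : IrrCharacter G) {g : G} {v : ℤ} (hv : (χ : G → ℂ) g = (v : ℂ)) :
    (deg χ : ℤ) ∣ ((95040 / cent g : ℕ) : ℤ) * v := by
  obtain ⟨n, ρ, hρ, hρc'⟩ := χ.2
  have hρc := hρc'.symm
  have := hρ
  have hK : 95040 / cent g = (Subgroup.centralizer ({g} : Set G)).index := by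
    rw [← cent_mul_index hG g, Nat.mul_div_cancel_left _ Nat.card_pos]
  have h := isIntegral_central ρ g
  rw [← hρc, hv, show Module.finrank ℂ (Fin n → ℂ) = deg χ by
    rw [Module.finrank_fin_fun, deg_eq_finrank hρc]] at h
  rw [hK]
  set K := (Subgroup.centralizer ({g} : Set G)).index
  have hd0 : deg χ ≠ 0 := (charDegree_pos χ).ne'
  rw [← Int.natAbs_dvd_natAbs, Int.natAbs_natCast, Int.natAbs_mul, Int.natAbs_natCast]
  refine dvd_of_isIntegral_div hd0 ?_
  rcases Int.natAbs_eq v with e | e
  · rw [e, Int.cast_natCast] at h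
    rwa [Nat.cast_mul]
  · rw [e, Int.cast_neg, Int.cast_natCast, mul_neg, neg_div] at h
    rw [Nat.cast_mul]
    simpa using h.neg

/-- The eigenvalues at an involution. -/
theorem involution_eigen {t : G} (ht : orderOf t = 2) {χ : IrrCharacter G} {n : ℕ}
    {ρ : Representation ℂ G (Fin n → ℂ)} (hρc : (χ : G → ℂ) = ρ.character) :
    ∃ (b : Module.Basis (Fin (Module.finrank ℂ (Fin n → ℂ))) ℂ (Fin n → ℂ))
      (ε : Fin (Module.finrank ℂ (Fin n → ℂ)) → ℂ),
      (∀ i, ρ t (b i) = ε i • b i) ∧
      Even (Finset.univ.filter fun i => ε i = (-1 : ℂ)).card ∧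
      (χ : G → ℂ) t = (deg χ : ℂ) - 2 * (Finset.univ.filter fun i => ε i = (-1 : ℂ)).card := by
  obtain ⟨b, ε, hb, hε⟩ := exists_eigenbasis ρ t
  rw [ht] at hε
  have hdeg : deg χ = n := deg_eq_finrank hρc
  set S := Finset.univ.filter fun i => ε i = (-1 : ℂ) with hS
  have hpm : ∀ i, i ∉ S → ε i = 1 := fun i hi => by
    rcases sq_eq_one_iff.1 (hε i) with h | h
    · exact h
    · exact absurd (show i ∈ S from Finset.mem_filter.2 ⟨Finset.mem_univ i, h⟩) hi
  have hmat : LinearMap.toMatrix b b (ρ t) = Matrix.diagonal ε := by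
    ext i j
    rw [LinearMap.toMatrix_apply, hb, map_smul, Finsupp.smul_apply, b.repr_self, Matrix.diagonal]
    simp only [Matrix.of_apply, Finsupp.single_apply]
    split_ifs with h1 h2 <;> simp_all
  have hdet : LinearMap.det (ρ t) = 1 := by
    rw [← CharExt.detHom_apply, hom_eq_one hG (CharExt.detHom ρ)]
    rfl
  rw [← LinearMap.det_toMatrix b, hmat, Matrix.det_diagonal,
    ← Finset.prod_filter_mul_prod_filter_not Finset.univ (fun i => ε i = (-1 : ℂ)),
    Finset.prod_congr rfl fun i hi => (Finset.mem_filter.1 hi).2, Finset.prod_const,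
    Finset.prod_eq_one fun i hi => hpm i fun h => absurd ((Finset.mem_filter.1 h).2)
      (show ¬ ε i = (-1 : ℂ) from (Finset.mem_filter.1 hi).2), mul_one] at hdet
  refine ⟨b, ε, hb, (neg_one_pow_eq_one_iff_even (by norm_num)).1 hdet, ?_⟩
  have hfr : Module.finrank ℂ (Fin n → ℂ) = n := Module.finrank_fin_fun ℂ
  rw [hρc, Representation.character, LinearMap.trace_eq_matrix_trace ℂ b, hmat,
    Matrix.trace_diagonal]
  have h2 : ∀ i, ε i = 1 + (if i ∈ S then (-2 : ℂ) else 0) := fun i => by
    split_ifs with h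
    · rw [(Finset.mem_filter.1 h).2]; norm_num
    · rw [hpm i h, add_zero]
  rw [Finset.sum_congr rfl fun i _ => h2 i, Finset.sum_add_distrib, Finset.sum_ite_mem,
    Finset.univ_inter, Finset.sum_const, Finset.sum_const, Finset.card_univ, Fintype.card_fin,
    nsmul_eq_mul, nsmul_eq_mul, hdeg]
  rw [show ((Module.finrank ℂ (Fin n → ℂ) : ℕ) : ℂ) = (n : ℂ) by rw [hfr]]
  ring

/-- The value at an involution: an integer congruent to the degree modulo four, of smaller modulus
than the degree unless the character is trivial. -/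
theorem value_involution {t : G} (ht : orderOf t = 2) (χ : IrrCharacter G) :
    ∃ v : ℤ, (χ : G → ℂ) t = (v : ℂ) ∧ ((deg χ : ℤ) - v) % 4 = 0 ∧
      (χ ≠ trivChar G → v.natAbs < deg χ) := by
  obtain ⟨n, ρ, hρ, hρc'⟩ := χ.2
  obtain ⟨b, ε, hb, ⟨k, hk⟩, hval⟩ := involution_eigen hG ht (χ := χ) hρc'.symm
  set S := Finset.univ.filter fun i => ε i = (-1 : ℂ) with hS
  have hfr : Module.finrank ℂ (Fin n → ℂ) = deg χ := by
    rw [Module.finrank_fin_fun, deg_eq_finrank hρc'.symm]
  have hle : S.card ≤ deg χ := by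
    refine le_trans S.card_le_univ (le_of_eq ?_)
    rw [Fintype.card_fin, hfr]
  refine ⟨(deg χ : ℤ) - 2 * S.card, by rw [hval]; push_cast; ring, by omega, fun hne => ?_⟩
  have ht1 : t ≠ 1 := fun e => by simp [e] at ht
  have h0 : S.card ≠ 0 := fun h => ht1 (faithful hG hne (by
    rw [hval, h, deg_cast]; simp))
  have hd : S.card ≠ deg χ := fun h => by
    have hall : ∀ i, ε i = -1 := fun i => by
      have hu : S = Finset.univ := Finset.eq_univ_of_card _ (by rw [h, Fintype.card_fin, hfr])
      exact (Finset.mem_filter.1 (hu ▸ Finset.mem_univ i : i ∈ S)).2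
    have hneg : ρ t = -1 := b.ext fun i => by rw [hb i, hall i, neg_one_smul]; rfl
    have hz : t ∈ Subgroup.center G := Subgroup.mem_center_iff.2 fun g => by
      refine mul_inv_eq_one.1 (faithful hG hne ?_)
      have h1 : ρ (g * t) = ρ (t * g) := by
        rw [map_mul, map_mul, hneg]
        exact ((Commute.one_right (ρ g)).neg_right).eq
      rw [← hρc', Representation.character, Representation.character, map_mul, h1, ← map_mul,
        mul_inv_cancel]
    rw [center_eq_bot hG, Subgroup.mem_bot] at hz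
    exact ht1 hz
  omega

end CfsgLib.Blocks.Order95040
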