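import Cfsg.Agent.Lib.Blocks.Order95040.Eleven
import Cfsg.Agent.Lib.Perm.PrimeOrderCount

/-!
# Order 95040 with the element order counts of the simple group
-/

set_option autoImplicit false

namespace CfsgLib.Blocks.Order95040

open Cfsg CfsgLib
open scoped Classical Pointwise

/-- The conjugation action of a subgroup on a subgroup it normalizes has few fixed points when
centralizers are small, so the order is congruent to one. -/
theorem card_mod_eq_one {G : Type*} [Group G] [Finite G] {p : ℕ} [Fact p.Prime] {z : G}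
    (hz : orderOf z = p) (R : Subgroup G) (hn : z ∈ Subgroup.normalizer (R : Set G))
    (hC : ∀ g ∈ R, Commute g z → g = 1) : Nat.card R % p = 1 := by
  let S := Subgroup.zpowers z
  have hS : IsPGroup p S := IsPGroup.of_card (n := 1) (by rw [Nat.card_zpowers, hz, pow_one])
  have hSn : ∀ s : S, (s : G) ∈ Subgroup.normalizer (R : Set G) := fun s =>
    (Subgroup.zpowers_le.2 hn) s.2
  let act : MulAction S R :=
    { smul := fun s r => ⟨(s : G) * r * (s : G)⁻¹,
        (Subgroup.mem_normalizer_iff.1 (hSn s) r).1 r.2⟩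
      one_smul := fun r => Subtype.ext (by show ((1 : S) : G) * r * ((1 : S) : G)⁻¹ = r; simp)
      mul_smul := fun s t r => Subtype.ext (by
        show ((s * t : S) : G) * r * ((s * t : S) : G)⁻¹ = s * (t * r * (t : G)⁻¹) * (s : G)⁻¹
        rw [Subgroup.coe_mul]; group) }
  have h := hS.card_modEq_card_fixedPoints (α := R)
  have h1 : Nat.card (MulAction.fixedPoints S R) = 1 := by
    refine Nat.card_eq_one_iff_unique.2 ⟨⟨fun a b => Subtype.ext (Subtype.ext ?_)⟩, ⟨⟨1, fun s =>
      Subtype.ext (by show (s : G) * ((1 : R) : G) * (s : G)⁻¹ = ((1 : R) : G); simp)⟩⟩⟩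
    have key : ∀ c : MulAction.fixedPoints S R, ((c.1 : R) : G) = 1 := fun c => by
      have e : z * ((c.1 : R) : G) * z⁻¹ = ((c.1 : R) : G) :=
        congrArg Subtype.val (c.2 ⟨z, Subgroup.mem_zpowers z⟩)
      exact hC _ c.1.2 (mul_inv_eq_iff_eq_mul.1 e).symm
    rw [key a, key b]
  rw [h1] at h
  rw [h, Nat.one_mod_eq_one.2 (Fact.out : p.Prime).ne_one]

/-- The positive numbers of elements of the various orders, in the simple group. -/
theorem counts_simple {M : Type*} [Group M] [Finite M] [IsSimpleGroup M]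
    (hM : Nat.card M = 95040) {c n : ℕ} (hcn : c = Nat.card {g : M // orderOf g = n}) :
    c = 1 ∨ 11 ∣ c ∨ c = 17280 := by
  have := Fintype.ofFinite M
  have : Fact (Nat.Prime 11) := ⟨by norm_num⟩
  obtain ⟨z, hz⟩ := exists_prime_orderOf_dvd_card' (G := M) 11 (by rw [hM]; norm_num)
  obtain ⟨D⟩ := exists_elevenData hM hz
  by_cases h1 : n = 1
  · left
    rw [hcn, h1, Nat.card_eq_one_iff_unique]
    exact ⟨⟨fun a b => Subtype.ext
      ((orderOf_eq_one_iff.1 a.2).trans (orderOf_eq_one_iff.1 b.2).symm)⟩,
      ⟨⟨1, orderOf_one⟩⟩⟩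
  by_cases h11 : n = 11
  · right; right
    obtain ⟨Q, hQz⟩ := exists_sylow_mem hz
    have hQ := card_sylow hM (Or.inl rfl) Q
    have hQe : (Q : Subgroup M) = Subgroup.zpowers z :=
      (Subgroup.eq_of_le_of_card_ge (Subgroup.zpowers_le.2 hQz)
        (by rw [hQ, Nat.card_zpowers, hz])).symm
    have hmul := (Subgroup.normalizer ((Q : Subgroup M) : Set M)).index_mul_card
    rw [show (Subgroup.normalizer ((Q : Subgroup M) : Set M)).index = Nat.card (Sylow 11 M) from
      (Sylow.card_eq_index_normalizer Q).symm, hM] at hmul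
    have h55 : Nat.card (Subgroup.normalizer ((Q : Subgroup M) : Set M)) = 55 := by
      rw [hQe]; exact D.hnorm
    rw [h55] at hmul
    rw [hcn, h11, CfsgLib.Perm.card_orderOf_eq_prime Q hQ]
    omega
  right; left
  let S := Subgroup.zpowers z
  let act : MulAction S {g : M // orderOf g = n} :=
    { smul := fun s g => ⟨(s : M) * g * (s : M)⁻¹, by
        rw [CfsgLib.Perm.orderOf_conj_eq]; exact g.2⟩
      one_smul := fun g => Subtype.ext (by show ((1 : S) : M) * g * ((1 : S) : M)⁻¹ = g; simp)
      mul_smul := fun s t g => Subtype.ext (by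
        show ((s * t : S) : M) * g * ((s * t : S) : M)⁻¹ = s * (t * g * (t : M)⁻¹) * (s : M)⁻¹
        rw [Subgroup.coe_mul]; group) }
  have hS : IsPGroup 11 S := IsPGroup.of_card (n := 1) (by rw [Nat.card_zpowers, hz, pow_one])
  have h := hS.card_modEq_card_fixedPoints (α := {g : M // orderOf g = n})
  have h0 : Nat.card (MulAction.fixedPoints S {g : M // orderOf g = n}) = 0 := by
    rw [Nat.card_eq_zero]
    refine Or.inl ⟨fun a => ?_⟩
    have e : z * (a.1 : M) * z⁻¹ = (a.1 : M) :=
      congrArg Subtype.val (a.2 ⟨z, Subgroup.mem_zpowers z⟩)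
    have hm : (a.1 : M) ∈ Subgroup.centralizer ({z} : Set M) :=
      Subgroup.mem_centralizer_singleton_iff.2 (mul_inv_eq_iff_eq_mul.1 e).symm
    have hd := Subgroup.orderOf_dvd_natCard _ hm
    rw [show Nat.card (Subgroup.centralizer ({z} : Set M)) = 11 from D.hcent, a.1.2] at hd
    rcases (Nat.dvd_prime (by norm_num : Nat.Prime 11)).1 hd with h | h
    · exact h1 h
    · exact h11 h
  rw [h0, ← hcn] at h
  exact Nat.modEq_zero_iff_dvd.1 h

/-- A group of order 95040 with only such counts is simple. -/
theorem isSimple_of_counts {G : Type*} [Group G] [Finite G] (hG : Nat.card G = 95040)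
    (hcnt : ∀ c n : ℕ, 0 < c → c = Nat.card {g : G // orderOf g = n} →
      c = 1 ∨ 11 ∣ c ∨ c = 17280) : IsSimpleGroup G := by
  have := Fintype.ofFinite G
  have : Fact (Nat.Prime 11) := ⟨by norm_num⟩
  have : Fact (Nat.Prime 5) := ⟨Nat.prime_five⟩
  obtain ⟨Q⟩ : Nonempty (Sylow 11 G) := inferInstance
  have hQ := card_sylow hG (Or.inl rfl) Q
  have hn11 : Nat.card (Sylow 11 G) = 1728 := by
    have hm : Nat.card (Sylow 11 G) % 11 = 1 := card_sylow_modEq_one 11 G
    rcases hcnt _ 11 (Nat.mul_pos (by norm_num) Nat.card_pos)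
      (CfsgLib.Perm.card_orderOf_eq_prime Q hQ).symm with h | h | h
    · omega
    · have h' : 11 ∣ Nat.card (Sylow 11 G) :=
        (show Nat.Coprime 11 (11 - 1) by norm_num).dvd_of_dvd_mul_left h
      omega
    · omega
  have hnorm : ∀ z : G, orderOf z = 11 →
      ∀ g : G, Commute g z → orderOf g ∣ 55 := fun z hz g hg => by
    obtain ⟨R, hR⟩ := exists_sylow_mem hz
    have hRe : (R : Subgroup G) = Subgroup.zpowers z :=
      (Subgroup.eq_of_le_of_card_ge (Subgroup.zpowers_le.2 hR)
        (by rw [card_sylow hG (Or.inl rfl) R, Nat.card_zpowers, hz])).symm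
    have hmul := (Subgroup.normalizer ((R : Subgroup G) : Set G)).index_mul_card
    rw [show (Subgroup.normalizer ((R : Subgroup G) : Set G)).index = Nat.card (Sylow 11 G) from
      (Sylow.card_eq_index_normalizer R).symm, hG, hn11] at hmul
    have h55 : Nat.card (Subgroup.normalizer ((R : Subgroup G) : Set G)) = 55 := by omega
    have hmem : g ∈ Subgroup.normalizer ((R : Subgroup G) : Set G) := by
      refine Subgroup.centralizer_le_normalizer _ (Subgroup.mem_centralizer_iff.2 fun x hx => ?_)
      rw [hRe] at hx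
      obtain ⟨i, rfl⟩ := Subgroup.mem_zpowers_iff.1 hx
      exact (hg.symm.zpow_left i).eq
    exact h55 ▸ Subgroup.orderOf_dvd_natCard _ hmem
  -- normal subgroups of order prime to eleven are trivial
  have hsmall : ∀ K : Subgroup G, K.Normal → ¬ 11 ∣ Nat.card K → K = ⊥ := by
    intro K hK h11
    have hidx : 11 ∣ K.index := by
      have h := K.index_mul_card
      rw [hG] at h
      exact ((Nat.Prime.coprime_iff_not_dvd (by norm_num : Nat.Prime 11)).2 h11).dvd_of_dvd_mul_right
        (h.symm ▸ by norm_num)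
    have hq : ∀ q, (q = 2 ∨ q = 3) → ¬ q ∣ Nat.card K := by
      intro q hq hqK
      have : Fact q.Prime := ⟨by rcases hq with rfl | rfl <;> norm_num⟩
      obtain ⟨P⟩ : Nonempty (Sylow q K) := inferInstance
      set R := (P : Subgroup K).map K.subtype with hR
      have hN := Sylow.normalizer_sup_eq_top P
      have hrel : K.index ∣ Nat.card (Subgroup.normalizer (R : Set G)) := by
        rw [← Subgroup.relIndex_top_right K, ← hN, Subgroup.relIndex_sup_right]
        exact Subgroup.index_dvd_card _ |>.trans (dvd_of_eq rfl)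
      obtain ⟨⟨z, hzN⟩, hz⟩ := exists_prime_orderOf_dvd_card'
        (G := Subgroup.normalizer (R : Set G)) 11 (hidx.trans hrel)
      rw [← Subgroup.orderOf_coe] at hz
      obtain ⟨a, ha⟩ := P.isPGroup'.exists_card_eq
      have hRcard : Nat.card R = q ^ a := by
        rw [hR, ← ha]
        exact (Nat.card_congr ((P : Subgroup K).equivMapOfInjective K.subtype
          K.subtype_injective).toEquiv).symm
      have h1 := card_mod_eq_one hz R hzN fun g hg hc => by
        have hd1 := hnorm z hz g hc
        have hd2 := Subgroup.orderOf_dvd_natCard _ hg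
        rw [hRcard] at hd2
        refine orderOf_eq_one_iff.1 (Nat.eq_one_of_dvd_coprimes ?_ hd1 hd2)
        exact Nat.Coprime.pow_right _ (by rcases hq with rfl | rfl <;> norm_num)
      rw [hRcard] at h1
      have hle : q ^ a ∣ 95040 := by
        rw [← hG, ← hRcard]; exact Subgroup.card_subgroup_dvd_card R
      have hpos : a ≠ 0 := fun e => by
        have := P.dvd_card_of_dvd_card hqK
        rw [ha, e, pow_zero] at this
        exact (Fact.out : q.Prime).not_dvd_one this
      have hbound : a < 7 := by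
        by_contra hlt
        have h7 : q ^ 7 ∣ 95040 := (pow_dvd_pow q (Nat.le_of_not_lt hlt)).trans hle
        rcases hq with rfl | rfl <;> norm_num at h7
      rcases hq with rfl | rfl <;> interval_cases a <;> first | exact absurd rfl hpos | omega | (revert hle; norm_num)
    have hdvd : Nat.card K ∣ 5 := by
      have h := Subgroup.card_subgroup_dvd_card K
      rw [hG, show (95040 : ℕ) = 5 * (2 ^ 6 * 3 ^ 3 * 11) by norm_num] at h
      refine Nat.Coprime.dvd_of_dvd_mul_right ?_ h
      refine ((Nat.Coprime.mul_left (Nat.Coprime.mul_left ?_ ?_) ?_).symm)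
      · exact Nat.Coprime.pow_left _ ((Nat.Prime.coprime_iff_not_dvd Nat.prime_two).2 (hq 2 (Or.inl rfl)))
      · exact Nat.Coprime.pow_left _
          ((Nat.Prime.coprime_iff_not_dvd Nat.prime_three).2 (hq 3 (Or.inr rfl)))
      · exact (Nat.Prime.coprime_iff_not_dvd (by norm_num : Nat.Prime 11)).2 h11
    rcases (Nat.dvd_prime Nat.prime_five).1 hdvd with h | h
    · exact Subgroup.card_eq_one.1 h
    exfalso
    obtain ⟨P5⟩ : Nonempty (Sylow 5 G) := inferInstance
    have hall : ∀ g : G, orderOf g = 5 → g ∈ K := by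
      intro g hg
      by_contra hno
      have hd : orderOf (g : G ⧸ K) ∣ 5 := hg ▸ orderOf_map_dvd (QuotientGroup.mk' K) g
      have hd2 : orderOf (g : G ⧸ K) ∣ 19008 := by
        have hi : Nat.card (G ⧸ K) = 19008 := by
          have := K.index_mul_card
          rw [hG, h, Subgroup.index_eq_card] at this
          omega
        exact (orderOf_dvd_natCard _).trans (dvd_of_eq hi)
      have h1 := Nat.eq_one_of_dvd_coprimes (by norm_num : Nat.Coprime 5 19008) hd hd2
      rw [orderOf_eq_one_iff, QuotientGroup.eq_one_iff] at h1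
      exact hno h1
    have hle : Nat.card {g : G // orderOf g = 5} ≤ Nat.card K :=
      Nat.card_le_card_of_injective (fun g => (⟨g.1, hall g.1 g.2⟩ : K))
        fun a b e => Subtype.ext (congrArg (fun x : K => (x : G)) e :)
    have hc := CfsgLib.Perm.card_orderOf_eq_prime P5 (card_sylow hG (Or.inr rfl) P5)
    have hpos5 : 0 < Nat.card (Sylow 5 G) := Nat.card_pos
    rcases hcnt _ 5 (Nat.mul_pos (by norm_num) hpos5) hc.symm with h' | h' | h' <;> omega
  have : Nontrivial G := Finite.one_lt_card_iff_nontrivial.1 (by rw [hG]; norm_num)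
  refine ⟨fun K hK => ?_⟩
  by_cases h11 : 11 ∣ Nat.card K
  swap
  · exact Or.inl (hsmall K hK h11)
  right
  have hsyl : ∀ R : Sylow 11 G, (R : Subgroup G) ≤ K := fun R g hg => by
    by_contra hno
    have hd : orderOf (g : G ⧸ K) ∣ 11 :=
      (orderOf_map_dvd (QuotientGroup.mk' K) g).trans
        ((Subgroup.orderOf_dvd_natCard _ hg).trans (dvd_of_eq (card_sylow hG (Or.inl rfl) R)))
    rcases (Nat.dvd_prime (by norm_num : Nat.Prime 11)).1 hd with h | h
    · rw [orderOf_eq_one_iff, QuotientGroup.eq_one_iff] at h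
      exact hno h
    · have h2 : 11 ∣ K.index := by
        rw [← h, Subgroup.index_eq_card]; exact orderOf_dvd_natCard _
      have h3 : 11 * 11 ∣ 95040 := by
        rw [← hG, ← K.index_mul_card]; exact Nat.mul_dvd_mul h2 h11
      norm_num at h3
  have hQK := hsyl Q
  let QK : Sylow 11 K := Q.subtype hQK
  have hnK : Nat.card (Sylow 11 K) = 1728 := by
    have hi : Nat.card (Sylow 11 K) ∣ K.index * Nat.card (Sylow 11 K) := Dvd.intro_left _ rfl
    have hinj : Function.Injective fun R : Sylow 11 G => R.subtype (hsyl R) :=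
      fun R1 R2 e => Sylow.subtype_injective e
    have hsur : Function.Surjective fun R : Sylow 11 G => R.subtype (hsyl R) := fun P => by
      obtain ⟨k, hk⟩ := MulAction.exists_smul_eq K QK P
      exact ⟨(k : G) • Q, by
        show ((k : G) • Q).subtype (hsyl _) = P
        rw [← hk]
        exact (Sylow.smul_subtype hQK k).symm⟩
    rw [← hn11]
    exact (Nat.card_congr (Equiv.ofBijective _ ⟨hinj, hsur⟩)).symm
  have hQK' : Nat.card (QK : Subgroup K) = 11 := by
    exact (Nat.card_congr (Subgroup.subgroupOfEquivOfLe hQK).toEquiv).trans hQ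
  have hmulK := (Subgroup.normalizer ((QK : Subgroup K) : Set K)).index_mul_card
  rw [show (Subgroup.normalizer ((QK : Subgroup K) : Set K)).index = Nat.card (Sylow 11 K) from
    (Sylow.card_eq_index_normalizer QK).symm, hnK] at hmulK
  have hN11 : 11 ∣ Nat.card (Subgroup.normalizer ((QK : Subgroup K) : Set K)) :=
    (dvd_of_eq hQK'.symm).trans (Subgroup.card_dvd_of_le Subgroup.le_normalizer)
  have hKdvd : Nat.card K ∣ 95040 := hG ▸ Subgroup.card_subgroup_dvd_card K
  obtain ⟨j, hj⟩ := hN11
  obtain ⟨i, hi⟩ := hKdvd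
  rw [← hmulK, hj] at hi
  have hj5 : j = 1 ∨ j = 5 := by
    have : j ∣ 5 := ⟨i, by linarith⟩
    exact (Nat.dvd_prime Nat.prime_five).1 this
  rcases hj5 with rfl | rfl
  · exfalso
    have hle : (QK : Subgroup K) ≤ Subgroup.normalizer ((QK : Subgroup K) : Set K) :=
      Subgroup.le_normalizer
    have heq : Subgroup.normalizer ((QK : Subgroup K) : Set K) = (QK : Subgroup K) :=
      (Subgroup.eq_of_le_of_card_ge hle (by rw [hQK', hj])).symm
    have hNC : Subgroup.normalizer ((QK : Subgroup K) : Set K) ≤
        Subgroup.centralizer ((QK : Subgroup K) : Set K) := by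
      rw [heq]
      intro x hx
      refine Subgroup.mem_centralizer_iff.2 fun y hy => ?_
      have : IsCyclic (QK : Subgroup K) := isCyclic_of_prime_card hQK'
      exact congrArg Subtype.val
        ((IsCyclic.isMulCommutative (α := (QK : Subgroup K))).is_comm.comm ⟨y, hy⟩ ⟨x, hx⟩)
    have hco := MonoidHom.ker_transferSylow_isComplement' QK hNC
    have hL := hco.card_mul
    rw [hQK', ← hmulK, hj] at hL
    set L := (MonoidHom.transferSylow QK hNC).ker
    have hLcard : Nat.card L = 1728 := by omega
    have hLchar : L.Characteristic := by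
      refine Subgroup.characteristic_iff_map_le.2 fun φ => ?_
      rintro _ ⟨x, hx, rfl⟩
      by_contra hno
      have ho : orderOf (MonoidHom.transferSylow QK hNC (φ x)) ∣ 11 :=
        (orderOf_dvd_natCard _).trans (dvd_of_eq hQK')
      have ho2 : orderOf (MonoidHom.transferSylow QK hNC (φ x)) ∣ 1728 :=
        (orderOf_map_dvd _ _).trans (by
          rw [MulEquiv.orderOf_eq φ x, ← hLcard]
          exact Subgroup.orderOf_dvd_natCard L hx)
      exact hno (orderOf_eq_one_iff.1
        (Nat.eq_one_of_dvd_coprimes (by norm_num : Nat.Coprime 11 1728) ho ho2))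
    have hLG : (L.map K.subtype).Normal := ConjAct.normal_of_characteristic_of_normal
    have hLm : Nat.card (L.map K.subtype) = 1728 :=
      (Nat.card_congr (L.equivMapOfInjective K.subtype K.subtype_injective).toEquiv).symm.trans hLcard
    have h := hsmall _ hLG (by rw [hLm]; norm_num)
    rw [h, Subgroup.card_bot] at hLm
    norm_num at hLm
  · exact Subgroup.eq_top_of_card_eq K (by rw [hG, ← hmulK, hj])

end CfsgLib.Blocks.Order95040
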