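import Mathlib.Algebra.BigOperators.Group.Multiset.Basic
import Mathlib.Data.Int.Lemmas
import Mathlib.Tactic

/-!
# Bounded searches over multisets of degrees and values
-/

set_option autoImplicit false

namespace CfsgLib.Blocks.Order95040

/-- A degree with a sign and a value. -/
structure Ty where
  d : ℕ
  s : ℤ
  v : ℤ
deriving DecidableEq

/-- Accumulated sums. -/
structure Acc where
  n : ℕ
  d2 : ℕ
  a : ℤ
  b : ℤ
  q : ℤ
deriving DecidableEq

/-- Add one type. -/
def Acc.add (A : Acc) (t : Ty) : Acc :=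
  ⟨A.n + t.v.natAbs * t.v.natAbs, A.d2 + t.d * t.d, A.a + t.s * t.d, A.b + t.s * t.v,
    A.q + t.s * (t.v * t.v) * ((4320 / t.d : ℕ) : ℤ)⟩

/-- Add a multiset of types. -/
def Acc.addAll (A : Acc) (M : Multiset Ty) : Acc :=
  ⟨A.n + (M.map fun t => t.v.natAbs * t.v.natAbs).sum, A.d2 + (M.map fun t => t.d * t.d).sum,
    A.a + (M.map fun t => t.s * (t.d : ℤ)).sum, A.b + (M.map fun t => t.s * t.v).sum,
    A.q + (M.map fun t => t.s * (t.v * t.v) * ((4320 / t.d : ℕ) : ℤ)).sum⟩

theorem Acc.addAll_cons (A : Acc) (t : Ty) (M : Multiset Ty) :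
    A.addAll (t ::ₘ M) = (A.add t).addAll M := by
  simp [Acc.addAll, Acc.add, add_assoc]

theorem Acc.addAll_zero (A : Acc) : A.addAll 0 = A := by simp [Acc.addAll]

/-- All multisets of the given size, pruned by the two budgets, satisfy the final test. -/
def search (N D : ℕ) (final : Acc → Bool) : ℕ → List Ty → Acc → Bool
  | 0, _, A => final A
  | k + 1, ts, A => ts.tails.all fun l =>
    match l with
    | [] => true
    | t :: _ => !((A.add t).n ≤ N && (A.add t).d2 ≤ D) || search N D final k l (A.add t)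

theorem exists_first {M : Multiset Ty} (hM : M ≠ 0) :
    ∀ ts : List Ty, (∀ t ∈ M, t ∈ ts) →
      ∃ t rest, (t :: rest) ∈ ts.tails ∧ t ∈ M ∧ ∀ u ∈ M, u ∈ t :: rest
  | [], h => by
    obtain ⟨t, ht⟩ := Multiset.exists_mem_of_ne_zero hM
    exact absurd (h t ht) List.not_mem_nil
  | a :: ts, h => by
    by_cases ha : a ∈ M
    · exact ⟨a, ts, by simp, ha, h⟩
    · obtain ⟨t, rest, h1, h2, h3⟩ := exists_first hM ts fun u hu =>
        (List.mem_cons.1 (h u hu)).resolve_left fun e => ha (e ▸ hu)
      refine ⟨t, rest, ?_, h2, h3⟩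
      rw [List.mem_tails] at h1 ⊢
      exact h1.trans (List.suffix_cons a ts)

theorem search_sound {N D : ℕ} {final : Acc → Bool} {k : ℕ} {ts : List Ty} {A : Acc}
    (h : search N D final k ts A = true) (M : Multiset Ty) (hc : Multiset.card M = k)
    (hts : ∀ t ∈ M, t ∈ ts) (hN : (A.addAll M).n ≤ N) (hD : (A.addAll M).d2 ≤ D) :
    final (A.addAll M) = true := by
  induction k generalizing ts A M with
  | zero =>
    rw [Multiset.card_eq_zero] at hc
    subst hc
    rw [Acc.addAll_zero]
    exact h
  | succ k ih =>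
    obtain ⟨t, rest, h1, h2, h3⟩ := exists_first (M := M) (by
      intro e; rw [e, Multiset.card_zero] at hc; omega) ts hts
    obtain ⟨M', rfl⟩ := Multiset.exists_cons_of_mem h2
    rw [search, List.all_eq_true] at h
    have h4 := h _ h1
    rw [Acc.addAll_cons] at hN hD ⊢
    have hn : (A.add t).n ≤ N := le_trans (Nat.le_add_right _ _) hN
    have hd : (A.add t).d2 ≤ D := le_trans (Nat.le_add_right _ _) hD
    simp only [hn, hd, decide_true, Bool.and_self, Bool.not_true, Bool.false_or] at h4
    exact ih h4 M' (by rw [Multiset.card_cons] at hc; omega)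
      (fun u hu => h3 u (Multiset.mem_cons_of_mem hu)) hN hD

/-- As `search`, with the chosen list handed to the final test. -/
def searchL (N D : ℕ) (final : List Ty → Acc → Bool) : ℕ → List Ty → List Ty → Acc → Bool
  | 0, _, L, A => final L A
  | k + 1, ts, L, A => ts.tails.all fun l =>
    match l with
    | [] => true
    | t :: _ => !((A.add t).n ≤ N && (A.add t).d2 ≤ D) || searchL N D final k l (t :: L) (A.add t)

theorem searchL_sound {N D : ℕ} {final : List Ty → Acc → Bool} {k : ℕ} {ts L : List Ty} {A : Acc}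
    (h : searchL N D final k ts L A = true) (M : Multiset Ty) (hc : Multiset.card M = k)
    (hts : ∀ t ∈ M, t ∈ ts) (hN : (A.addAll M).n ≤ N) (hD : (A.addAll M).d2 ≤ D) :
    ∃ L' : List Ty, (L' : Multiset Ty) = (L : Multiset Ty) + M ∧
      final L' (A.addAll M) = true := by
  induction k generalizing ts L A M with
  | zero =>
    rw [Multiset.card_eq_zero] at hc
    subst hc
    rw [Acc.addAll_zero]
    exact ⟨L, (add_zero _).symm, h⟩
  | succ k ih =>
    obtain ⟨t, rest, h1, h2, h3⟩ := exists_first (M := M) (by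
      intro e; rw [e, Multiset.card_zero] at hc; omega) ts hts
    obtain ⟨M', rfl⟩ := Multiset.exists_cons_of_mem h2
    rw [searchL, List.all_eq_true] at h
    have h4 := h _ h1
    rw [Acc.addAll_cons] at hN hD ⊢
    have hn : (A.add t).n ≤ N := le_trans (Nat.le_add_right _ _) hN
    have hd : (A.add t).d2 ≤ D := le_trans (Nat.le_add_right _ _) hD
    simp only [hn, hd, decide_true, Bool.and_self, Bool.not_true, Bool.false_or] at h4
    obtain ⟨L', e1, e2⟩ := ih h4 M' (by rw [Multiset.card_cons] at hc; omega)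
      (fun u hu => h3 u (Multiset.mem_cons_of_mem hu)) hN hD
    refine ⟨L', ?_, e2⟩
    rw [e1, ← Multiset.cons_coe, Multiset.cons_add, Multiset.add_cons]

end CfsgLib.Blocks.Order95040
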