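import Cfsg.Agent.Lib.Blocks.Order95040.Basic
import Cfsg.Agent.Lib.Blocks.Order95040.Search
import Cfsg.Agent.Lib.HallGen.Overgroup.SylowCount

/-!
# Principal block data at a Sylow subgroup of prime order, and column bounds
-/

set_option autoImplicit false

namespace CfsgLib.Blocks.Order95040

open Cfsg CfsgLib CfsgLib.Char CfsgLib.CharIntegral CfsgLib.Blocks.PrimeSylow
open scoped Classical ComplexConjugate

variable {G : Type*} [Group G] [Fintype G]

/-- The squares of integer values on a set of characters are bounded by the centralizer order. -/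
theorem sum_sq_le_cent {g : G} (S : Finset (IrrCharacter G)) (w : IrrCharacter G → ℤ)
    (hw : ∀ χ ∈ S, (χ : G → ℂ) g = (w χ : ℂ)) :
    ∑ χ ∈ S, (w χ).natAbs * (w χ).natAbs ≤ cent g := by
  have := Fintype.ofFinite (IrrCharacter G)
  have h := column_orthogonality g g
  rw [if_pos (IsConj.refl g)] at h
  have h' : ∑ χ : IrrCharacter G, Complex.normSq ((χ : G → ℂ) g) = (cent g : ℝ) := by
    apply Complex.ofReal_injective
    push_cast
    rw [← h]
    exact Finset.sum_congr rfl fun χ _ => (Complex.mul_conj _).symm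
  have h1 : (((∑ χ ∈ S, (w χ).natAbs * (w χ).natAbs : ℕ)) : ℝ) ≤ (cent g : ℝ) := by
    rw [← h', Nat.cast_sum]
    refine le_trans (le_of_eq (Finset.sum_congr rfl fun χ hχ => ?_))
      (Finset.sum_le_sum_of_subset_of_nonneg (Finset.subset_univ S)
        fun χ _ _ => Complex.normSq_nonneg _)
    rw [hw χ hχ, Complex.normSq_intCast]
    push_cast
    rw [Nat.cast_natAbs, Int.cast_abs, abs_mul_abs_self]
  exact_mod_cast h1

/-- The squares of the degrees on a set of characters are bounded by the order. -/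
theorem sum_sq_deg_le (S : Finset (IrrCharacter G)) :
    ∑ χ ∈ S, deg χ * deg χ ≤ Nat.card G := by
  have := Fintype.ofFinite (IrrCharacter G)
  have h := sum_sq_degree (G := G)
  simp only [deg_cast] at h
  have h' : ∑ ψ : IrrCharacter G, deg ψ ^ 2 = Nat.card G := by exact_mod_cast h
  rw [← h']
  simp only [pow_two]
  exact Finset.sum_le_sum_of_subset (Finset.subset_univ S)

/-- Principal block data at a Sylow subgroup of prime order. -/
theorem principal_data {p : ℕ} [Fact p.Prime] {P V : Subgroup G} (h : Setup p P V) :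
    ∃ (e : ℕ) (X Y : Finset (IrrCharacter G)) (εX : IrrCharacter G → ℤ) (ε : ℤ),
      e ∣ p - 1 ∧ Nat.card (Subgroup.normalizer (P : Set G)) = e * (p * Nat.card V) ∧
      Disjoint X Y ∧ X.card = e ∧ Y.card * e = p - 1 ∧ trivChar G ∈ X ∪ Y ∧
      (∀ χ ∈ X, (εX χ = 1 ∨ εX χ = -1) ∧ (deg χ : ℤ) ≡ εX χ [ZMOD p] ∧
        ∀ i j : ℕ, ∀ x ∈ P, ∀ v ∈ V, x ^ i ≠ 1 → (χ : G → ℂ) (x ^ i * v ^ j) = (εX χ : ℂ)) ∧
      (ε = 1 ∨ ε = -1) ∧ (∀ θ ∈ Y, (deg θ : ℤ) ≡ ε * e [ZMOD p]) ∧
      (∀ θ ∈ Y, ∀ g : G, ¬ p ∣ orderOf g →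
        (ε : ℂ) * (θ : G → ℂ) g = ∑ χ ∈ X, (εX χ : ℂ) * (χ : G → ℂ) g) ∧
      (∀ θ ∈ Y, ε * (deg θ : ℤ) = ∑ χ ∈ X, εX χ * deg χ) ∧
      (V = ⊥ → ∀ χ : IrrCharacter G, ¬ p ∣ deg χ ↔ χ ∈ X ∪ Y) := by
  have := Fintype.ofFinite (IrrCharacter G)
  have := Fintype.ofFinite P
  have := Fintype.ofFinite V
  have : Fintype (NBar P) := Fintype.ofFinite _
  obtain ⟨M, hM⟩ := CfsgLib.ZStar.exists_isPModular (p := p) Fact.out
  have : M.IsPrime := hM.2.1.isPrime
  set e := (Subgroup.centralizer (P : Set G)).relIndex (Subgroup.normalizer (P : Set G)) with he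
  obtain ⟨-, X, Y, hB, hdisj, hX, hY, εX, ε, hXp, hε, hYmod, -, hrel⟩ :=
    h.exists_principal hM he.symm
  have hedvd : e ∣ p - 1 :=
    h.inertialIndex_trivChar.trans he.symm ▸ (h.exists_over (trivChar V)).1
  refine ⟨e, X.toFinset, Y.toFinset, εX, ε, hedvd, ?_, Set.disjoint_toFinset.2 hdisj, ?_, ?_, ?_,
    fun χ hχ => ?_, hε, fun θ hθ => hYmod θ (Set.mem_toFinset.1 hθ), fun θ hθ g hg => ?_,
    fun θ hθ => ?_, fun hV χ => ?_⟩
  · have h1 := Subgroup.relIndex_mul_relIndex ⊥ (Subgroup.centralizer (P : Set G))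
      (Subgroup.normalizer (P : Set G)) bot_le (Blocks.centralizer_le_normalizer' P)
    rw [Subgroup.relIndex_bot_left, Subgroup.relIndex_bot_left, ← he, h.card_centralizer] at h1
    rw [← h1, mul_comm]
  · rw [← hX, Nat.card_coe_set_eq, Set.ncard_eq_toFinset_card']
  · rw [← Set.ncard_eq_toFinset_card', ← Nat.card_coe_set_eq, hY, Nat.div_mul_cancel hedvd]
  · have : trivChar G ∈ principalBlock M G := trivChar_mem_principalBlock
    rw [hB] at this
    simpa using this
  · obtain ⟨h1, h2, h3⟩ := hXp χ (Set.mem_toFinset.1 hχ)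
    refine ⟨h1, h2, fun i j x hx v hv hne => h3 _ (Subgroup.pow_mem _ hx i) hne _ ?_ ?_⟩
    · exact h.V_le (Subgroup.pow_mem _ hv j)
    · exact h.not_dvd_orderOf (Subgroup.pow_mem _ hv j)
  · have h1 := hrel θ (Set.mem_toFinset.1 hθ) g hg
    rwa [finsum_mem_eq_toFinset_sum] at h1
  · have h1 := hrel θ (Set.mem_toFinset.1 hθ) 1
      (by rw [orderOf_one]; exact (Fact.out : p.Prime).not_dvd_one)
    rw [finsum_mem_eq_toFinset_sum, apply_one_eq_charDegree] at h1
    simp only [apply_one_eq_charDegree] at h1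
    exact_mod_cast h1
  · rw [Finset.mem_union, Set.mem_toFinset, Set.mem_toFinset, ← Set.mem_union, ← hB]
    have hB' : principalBlock M G = blockSet M P ((trivChar V : IrrCharacter V) : V → ℂ) :=
      blockSet_eq isPBlock_principalBlock trivChar_mem_principalBlock (h.trivChar_mem_blockSet hM)
    rw [hB']
    refine ⟨fun hd => ?_, fun hd => h.not_dvd_of_mem hM hd⟩
    obtain ⟨η, hη⟩ := h.exists_mem_blockSet hM hd
    have : η = trivChar V := by
      subst hV
      refine irr_ext fun v => ?_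
      obtain rfl : v = 1 := Subtype.ext (Subgroup.mem_bot.1 v.2)
      rw [trivChar_apply, apply_one_eq_charDegree]
      have h1 := charDegree_dvd_card η
      rw [Subgroup.card_bot, Nat.dvd_one] at h1
      rw [h1, Nat.cast_one]
    rwa [this] at hη

/-- The number of Sylow subgroups. -/
theorem sylow_count {p : ℕ} [Fact p.Prime] (P : Sylow p G) :
    Nat.card (Sylow p G) % p = 1 ∧
      Nat.card (Sylow p G) * Nat.card (Subgroup.normalizer ((P : Subgroup G) : Set G)) =
        Nat.card G := by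
  refine ⟨?_, ?_⟩
  · have h := card_sylow_modEq_one p G
    rwa [Nat.ModEq, Nat.one_mod_eq_one.2 (Fact.out : p.Prime).ne_one] at h
  · rw [Sylow.card_eq_index_normalizer P]
    exact Subgroup.index_mul_card _

omit [Fintype G] in
theorem exists_sylow_mem {p : ℕ} [Fact p.Prime] {x : G} (hx : orderOf x = p) :
    ∃ P : Sylow p G, x ∈ (P : Subgroup G) := by
  have hc : Nat.card (Subgroup.zpowers x) = p := by rw [Nat.card_zpowers, hx]
  obtain ⟨P, hP⟩ := (IsPGroup.of_card (n := 1) (by rw [hc, pow_one]) :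
    IsPGroup p (Subgroup.zpowers x)).exists_le_sylow
  exact ⟨P, hP (Subgroup.mem_zpowers x)⟩

variable [IsSimpleGroup G] (hG : Nat.card G = 95040)
include hG

/-- The index of the centralizer of a nontrivial element is at least eleven. -/
theorem eleven_le_index {g : G} (hg : g ≠ 1) : 11 ≤ 95040 / cent g := by
  have hne : Subgroup.centralizer ({g} : Set G) ≠ ⊤ := fun h => hg (by
    have : g ∈ Subgroup.center G := Subgroup.mem_center_iff.2 fun y =>
      Subgroup.mem_centralizer_singleton_iff.1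
        (h ▸ Subgroup.mem_top y : y ∈ Subgroup.centralizer ({g} : Set G))
    rwa [center_eq_bot hG, Subgroup.mem_bot] at this)
  have h := HallGen.Overgroup.card_dvd_factorial_index hne
  rw [← cent_mul_index hG g, Nat.mul_div_cancel_left _ Nat.card_pos]
  by_contra hlt
  rw [hG] at h
  exact absurd (h.trans (Nat.factorial_dvd_factorial (show _ ≤ 10 by omega)))
    (by decide)

end CfsgLib.Blocks.Order95040
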