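import Mathlib.Data.Nat.Bitwise
import Mathlib.Data.Matrix.Basic
import Mathlib.Data.Matrix.Mul
import Mathlib.Data.ZMod.Basic
import Mathlib.Algebra.BigOperators.Fin
import Mathlib.Tactic

/-!
# Packed square matrices of degree eleven over the field of two elements
-/

set_option autoImplicit false

namespace CfsgLib.Blocks.Order95040

/-- The first bit of each row. -/
def colMask : ℕ → ℕ
  | 0 => 0
  | n + 1 => 1 + 2048 * colMask n

/-- The matrix of a packed number. -/
def toMat (A : ℕ) : Matrix (Fin 11) (Fin 11) (ZMod 2) :=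
  Matrix.of fun i j => if A.testBit (11 * (i : ℕ) + j) then 1 else 0

/-- All bits. -/
def fullMask : ℕ := 2658455991569831745807614120560689151

/-- One summand of a packed product. -/
def mulTerm (A B k : ℕ) : ℕ := ((A >>> k) &&& 1298708349570020393652962442872833) * ((B >>> (11 * k)) &&& 2047)

/-- The packed product. -/
def mulP (A B : ℕ) : ℕ :=
  mulTerm A B 0 ^^^ mulTerm A B 1 ^^^ mulTerm A B 2 ^^^ mulTerm A B 3 ^^^ mulTerm A B 4 ^^^ mulTerm A B 5 ^^^ mulTerm A B 6 ^^^ mulTerm A B 7 ^^^ mulTerm A B 8 ^^^ mulTerm A B 9 ^^^ mulTerm A B 10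

/-- Equality of the packed matrices. -/
def eqP (A B : ℕ) : Bool := Nat.beq (A &&& fullMask) (B &&& fullMask)

def shiftP : ℕ := 1947269816970662156414092732014594
def tripleP : ℕ := 332327282748524609401894595863789569
def oneP : ℕ := 1329552593586084350528447794605199361
def fixP : ℕ := 1916319278243446680454858156908072961
def cycP : ℕ := 586766684657362329926410362302873600

/-- The matrix with a given row `0` and the other rows zero. -/
def spread0 (r : ℕ) : ℕ := r &&& 2047

/-- The matrix commuting with `tripleP` whose row 1 is a given vector. -/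
def spread1 (r : ℕ) : ℕ :=
  ((r >>> 0) &&& 1) * 633825300114150747146146547712 ^^^
  ((r >>> 1) &&& 1) * 324518553658427879986204323614720 ^^^
  ((r >>> 2) &&& 1) * 81129638414643579688085807439872 ^^^
  ((r >>> 3) &&& 1) * 20282409603652246924281973325824 ^^^
  ((r >>> 4) &&& 1) * 5070602400931364913027655696384 ^^^
  ((r >>> 5) &&& 1) * 1267650600228526639209548677120 ^^^
  ((r >>> 6) &&& 1) * 649037107316862677009817151864832 ^^^
  ((r >>> 7) &&& 1) * 162259276829213508641462086270976 ^^^
  ((r >>> 8) &&& 1) * 40564819207307970548345799704576 ^^^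
  ((r >>> 9) &&& 1) * 10141204801825907410580030881792 ^^^
  ((r >>> 10) &&& 1) * 2535301200458766900001459142656

/-- The matrix commuting with `tripleP` whose row 2 is a given vector. -/
def spread2 (r : ℕ) : ℕ :=
  ((r >>> 0) &&& 1) * 1298074524269906242905816296325120 ^^^
  ((r >>> 1) &&& 1) * 41538379897410620920911696125493248 ^^^
  ((r >>> 2) &&& 1) * 1329228075032425922648461590281584640 ^^^
  ((r >>> 3) &&& 1) * 20769188057982812367133596660531200 ^^^
  ((r >>> 4) &&& 1) * 664614007797187324128512948251394048 ^^^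
  ((r >>> 5) &&& 1) * 10384752173698095832260554585538560 ^^^
  ((r >>> 6) &&& 1) * 332307000338920957154970313890463744 ^^^
  ((r >>> 7) &&& 1) * 5192316704336640286008943166095360 ^^^
  ((r >>> 8) &&& 1) * 166153816395436242875148470535061504 ^^^
  ((r >>> 9) &&& 1) * 2596150907567705207496493282361344 ^^^
  ((r >>> 10) &&& 1) * 83076789351261851564395535502671872

/-- The matrix commuting with `tripleP` with given rows `0`, `1` and `2`. -/
def build (r0 r1 r2 : ℕ) : ℕ := spread0 r0 ^^^ spread1 r1 ^^^ spread2 r2

/-- The order divides `95040`. -/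
def pow95040 (X : ℕ) : ℕ :=
  let sq := fun Y => mulP Y Y
  let cube := fun Y => mulP (mulP Y Y) Y
  let five := fun Y => mulP (sq (sq Y)) Y
  let eleven := fun Y => mulP (mulP (sq (sq (sq Y))) (sq Y)) Y
  eleven (five (cube (cube (cube (sq (sq (sq (sq (sq (sq X))))))))))

/-- A word in three packed matrices. -/
def evalP (Z H V : ℕ) : List ℕ → ℕ
  | [] => oneP
  | 0 :: w => mulP Z (evalP Z H V w)
  | 1 :: w => mulP H (evalP Z H V w)
  | _ :: w => mulP V (evalP Z H V w)

end CfsgLib.Blocks.Order95040
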