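import Cfsg.Agent.Lib.Blocks.Order95040.Checks
import Mathlib.Data.Fin.VecNotation
import Mathlib.Algebra.CharP.Two

/-!
# Packed matrices and matrices
-/

set_option autoImplicit false

namespace CfsgLib.Blocks.Order95040

open Matrix

/-- A product with selected rows places copies of a row. -/
theorem testBit_select_mul {r : ℕ} (hr : r < 2048) (j : ℕ) (hj : j < 11) :
    ∀ (n a i : ℕ), ((a &&& colMask n) * r).testBit (11 * i + j) =
      (decide (i < n) && a.testBit (11 * i) && r.testBit j) := by
  intro n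
  induction n with
  | zero => intro a i; simp [colMask]
  | succ n ih =>
    intro a i
    have hsplit : a &&& colMask (n + 1) =
        2 ^ 11 * ((a >>> 11) &&& colMask n) + (a.testBit 0).toNat := by
      apply Nat.eq_of_testBit_eq
      intro t
      have hb : (a.testBit 0).toNat < 2 ^ 11 := (Bool.toNat_lt _).trans (by norm_num)
      have hm : colMask (n + 1) = 2 ^ 11 * colMask n + 1 := by rw [colMask]; ring
      rw [Nat.testBit_and, hm, Nat.testBit_two_pow_mul_add _ hb,
        Nat.testBit_two_pow_mul_add _ (show (1 : ℕ) < 2 ^ 11 by norm_num)]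
      by_cases ht : t < 11
      · rw [if_pos ht, if_pos ht]
        rcases t with _ | t
        · cases a.testBit 0 <;> rfl
        · rw [Nat.testBit_lt_two_pow (x := 1) (by simp), Bool.and_false, Nat.testBit_lt_two_pow]
          exact (Bool.toNat_lt _).trans_le (Nat.le_self_pow (Nat.succ_ne_zero t) 2)
      · rw [if_neg ht, if_neg ht, Nat.testBit_and, Nat.testBit_shiftRight]
        congr 2
        omega
    have hb : (a.testBit 0).toNat * r < 2 ^ 11 := by cases a.testBit 0 <;> simp <;> omega
    rw [hsplit, add_mul, mul_assoc, Nat.testBit_two_pow_mul_add _ hb]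
    rcases i with _ | i
    · rw [if_pos (by omega)]
      simp only [Nat.zero_add, Nat.mul_zero]
      cases a.testBit 0 <;> simp
    · rw [if_neg (by omega), show 11 * (i + 1) + j - 11 = 11 * i + j by omega, ih,
        Nat.testBit_shiftRight, show 11 + 11 * i = 11 * (i + 1) by ring]
      simp

theorem testBit_mulTerm (A B : ℕ) {i j k : ℕ} (hi : i < 11) (hj : j < 11) :
    (mulTerm A B k).testBit (11 * i + j) =
      (A.testBit (11 * i + k) && B.testBit (11 * k + j)) := by
  have hmask : colMask 11 = 1298708349570020393652962442872833 := by decide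
  have hr : (B >>> (11 * k)) &&& 2047 < 2048 :=
    lt_of_le_of_lt Nat.and_le_right (by norm_num)
  rw [mulTerm]
  rw [← hmask]
  rw [testBit_select_mul hr j hj, Nat.testBit_shiftRight, Nat.testBit_and, Nat.testBit_shiftRight,
    show (2047 : ℕ) = 2 ^ 11 - 1 from rfl, Nat.testBit_two_pow_sub_one]
  simp [hi, hj, Nat.add_comm]

/-- A bit as an element of the field. -/
def bitVal (b : Bool) : ZMod 2 := if b then 1 else 0

theorem toMat_apply (A : ℕ) (i j : Fin 11) :
    toMat A i j = bitVal (A.testBit (11 * (i : ℕ) + j)) := rfl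

theorem bitVal_xor (a b : Bool) : bitVal (a ^^ b) = bitVal a + bitVal b := by
  cases a <;> cases b <;> decide

theorem bitVal_and (a b : Bool) : bitVal (a && b) = bitVal a * bitVal b := by
  cases a <;> cases b <;> decide

theorem toMat_xor (A B : ℕ) : toMat (A ^^^ B) = toMat A + toMat B := by
  ext i j
  simp [toMat_apply, Matrix.add_apply, Nat.testBit_xor, bitVal_xor]

theorem toMat_mulP (A B : ℕ) : toMat (mulP A B) = toMat A * toMat B := by
  ext i j
  simp only [toMat_apply, Matrix.mul_apply, mulP, Nat.testBit_xor, bitVal_xor,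
    testBit_mulTerm A B i.2 j.2, bitVal_and, Fin.sum_univ_succ, Finset.univ_eq_empty,
    Finset.sum_empty, add_zero]
  simp [add_assoc]

theorem eqP_iff (A B : ℕ) : eqP A B = true ↔ toMat A = toMat B := by
  rw [eqP, Nat.beq_eq]
  constructor
  · intro h
    ext i j
    have h1 := congrArg (fun x => x.testBit (11 * (i : ℕ) + j)) h
    have hlt : 11 * (i : ℕ) + j < 121 := by omega
    simp only [Nat.testBit_and, show fullMask = 2 ^ 121 - 1 from rfl,
      Nat.testBit_two_pow_sub_one, hlt, decide_true, Bool.and_true] at h1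
    rw [toMat_apply, toMat_apply, h1]
  · intro h
    apply Nat.eq_of_testBit_eq
    intro t
    simp only [Nat.testBit_and, show fullMask = 2 ^ 121 - 1 from rfl, Nat.testBit_two_pow_sub_one]
    by_cases ht : t < 121
    · have h1 := congrFun (congrFun h ⟨t / 11, by omega⟩) ⟨t % 11, by omega⟩
      simp only [toMat_apply, Nat.div_add_mod] at h1
      cases ha : A.testBit t <;> cases hb : B.testBit t <;> simp [ha, hb, bitVal] at h1 ⊢
    · simp [ht]

theorem toMat_eq {A B : ℕ} (h : eqP A B = true) : toMat A = toMat B := (eqP_iff A B).1 h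

theorem toMat_ne {A B : ℕ} (h : eqP A B = false) : toMat A ≠ toMat B := fun e => by
  rw [← eqP_iff, h] at e
  exact Bool.false_ne_true e

theorem toMat_oneP : toMat oneP = 1 := by decide +kernel

/-- A word in three elements of a monoid. -/
def evalW {M : Type*} [Monoid M] (z h v : M) : List ℕ → M
  | [] => 1
  | 0 :: w => z * evalW z h v w
  | 1 :: w => h * evalW z h v w
  | _ :: w => v * evalW z h v w

theorem toMat_evalP (Z H V : ℕ) :
    ∀ w, toMat (evalP Z H V w) = evalW (toMat Z) (toMat H) (toMat V) w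
  | [] => toMat_oneP
  | 0 :: w => by rw [evalP, evalW, toMat_mulP, toMat_evalP]
  | 1 :: w => by rw [evalP, evalW, toMat_mulP, toMat_evalP]
  | (n + 2) :: w => by rw [evalP, evalW, toMat_mulP, toMat_evalP] <;> omega

theorem map_evalW {M N : Type*} [Monoid M] [Monoid N] (f : M →* N) (z h v : M) :
    ∀ w, f (evalW z h v w) = evalW (f z) (f h) (f v) w
  | [] => map_one f
  | 0 :: w => by rw [evalW, evalW, map_mul, map_evalW]
  | 1 :: w => by rw [evalW, evalW, map_mul, map_evalW]
  | (n + 2) :: w => by rw [evalW, evalW, map_mul, map_evalW] <;> omega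

theorem evalW_mem {M : Type*} [Monoid M] {S : Submonoid M} {z h v : M} (hz : z ∈ S) (hh : h ∈ S)
    (hv : v ∈ S) : ∀ w, evalW z h v w ∈ S
  | [] => S.one_mem
  | 0 :: w => by rw [evalW]; exact S.mul_mem hz (evalW_mem hz hh hv w)
  | 1 :: w => by rw [evalW]; exact S.mul_mem hh (evalW_mem hz hh hv w)
  | (n + 2) :: w => by rw [evalW] <;> first | exact S.mul_mem hv (evalW_mem hz hh hv w) | omega

theorem toMat_pow3P (X : ℕ) : toMat (pow3P X) = toMat X ^ 3 := by
  simp only [pow3P, toMat_mulP, pow_succ, pow_zero, one_mul]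

theorem toMat_pow5P (X : ℕ) : toMat (pow5P X) = toMat X ^ 5 := by
  simp only [pow5P, toMat_mulP, pow_succ, pow_zero, one_mul, mul_assoc]

theorem toMat_pow95040 (X : ℕ) : toMat (pow95040 X) = toMat X ^ 95040 := by
  have h2 : ∀ Y, toMat (mulP Y Y) = toMat Y ^ 2 := fun Y => by rw [toMat_mulP, pow_two]
  simp only [pow95040, toMat_mulP, ← pow_two, ← pow_succ, ← pow_mul, ← pow_add]
  norm_num

theorem toMat_shiftP : toMat shiftP = Matrix.of fun i j => if i + 1 = j then 1 else 0 := by
  decide +kernel

theorem toMat_tripleP : toMat tripleP = Matrix.of fun i j => if 3 * i = j then 1 else 0 := by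
  decide +kernel

theorem exists_packed (M : Matrix (Fin 11) (Fin 11) (ZMod 2)) : ∃ A, toMat A = M := by
  refine ⟨Nat.ofBits fun t : Fin 121 =>
    decide (M ⟨t.1 / 11, by omega⟩ ⟨t.1 % 11, by omega⟩ = 1), ?_⟩
  ext i j
  have hlt : 11 * (i : ℕ) + j < 121 := by omega
  rw [toMat_apply, Nat.testBit_ofBits_lt _ _ hlt]
  have h1 : (⟨(11 * (i : ℕ) + j) / 11, by omega⟩ : Fin 11) = i := Fin.ext (by simp; omega)
  have h2 : (⟨(11 * (i : ℕ) + j) % 11, by omega⟩ : Fin 11) = j := Fin.ext (by simp)
  simp only [h1, h2, bitVal]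
  generalize M i j = a
  revert a
  decide

/-- A row as a number. -/
def rowNat (v : Fin 11 → ZMod 2) : ℕ := Nat.ofBits fun j : Fin 11 => decide (v j = 1)

theorem rowNat_lt (v : Fin 11 → ZMod 2) : rowNat v < 2048 := Nat.ofBits_lt_two_pow _

theorem bitVal_rowNat (v : Fin 11 → ZMod 2) (j : Fin 11) :
    bitVal ((rowNat v).testBit j) = v j := by
  rw [rowNat, Nat.testBit_ofBits_lt _ _ j.2]
  simp only [bitVal]
  generalize v j = a
  revert a
  decide

/-- Inverses modulo eleven. -/
def invEleven : Fin 11 → Fin 11 := ![0, 1, 6, 4, 3, 9, 2, 8, 7, 5, 10]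

/-- The row among the first three in the orbit of a row. -/
def rowClass : Fin 11 → Fin 3 := ![0, 1, 2, 1, 1, 1, 2, 2, 2, 1, 2]

/-- The first three rows. -/
def rowRep : Fin 3 → Fin 11 := ![0, 1, 2]

/-- The position in the first three rows of an entry. -/
def colClass (i j : Fin 11) : Fin 11 :=
  if i = 0 then j else rowRep (rowClass i) * (j * invEleven i)

theorem testBit_bitMul (r k C t : ℕ) :
    (((r >>> k) &&& 1) * C).testBit t = (r.testBit k && C.testBit t) := by
  rw [Nat.and_one_is_mod, Nat.shiftRight_eq_div_pow, ← Nat.toNat_testBit]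
  cases r.testBit k <;> simp

theorem testBit_spread0 {r : ℕ} (i j : Fin 11) :
    (spread0 r).testBit (11 * (i : ℕ) + j) = (decide (rowClass i = 0) && r.testBit (colClass i j)) := by
  rw [spread0, Nat.testBit_and, show (2047 : ℕ) = 2 ^ 11 - 1 from rfl,
    Nat.testBit_two_pow_sub_one]
  by_cases hi : i = 0
  · subst hi
    simp [rowClass, colClass, j.2]
  · have h : ¬ 11 * (i : ℕ) + j < 11 := by
      have : (i : ℕ) ≠ 0 := fun e => hi (Fin.ext e)
      omega
    have hc : ∀ i : Fin 11, i ≠ 0 → rowClass i ≠ 0 := by decide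
    simp [h, hc i hi]

theorem testBit_spread1 {r : ℕ} (i j : Fin 11) :
    (spread1 r).testBit (11 * (i : ℕ) + j) = (decide (rowClass i = 1) && r.testBit (colClass i j)) := by
  simp only [spread1, Nat.testBit_xor, testBit_bitMul]
  fin_cases i <;> fin_cases j <;> simp [rowClass, rowRep, colClass, invEleven, Nat.testBit_eq_decide_div_mod_eq]

theorem testBit_spread2 {r : ℕ} (i j : Fin 11) :
    (spread2 r).testBit (11 * (i : ℕ) + j) = (decide (rowClass i = 2) && r.testBit (colClass i j)) := by
  simp only [spread2, Nat.testBit_xor, testBit_bitMul]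
  fin_cases i <;> fin_cases j <;> simp [rowClass, rowRep, colClass, invEleven, Nat.testBit_eq_decide_div_mod_eq]

theorem toMat_build (r0 r1 r2 : ℕ) (i j : Fin 11) :
    toMat (build r0 r1 r2) i j = bitVal ((![r0, r1, r2] (rowClass i)).testBit (colClass i j)) := by
  rw [toMat_apply, build]
  simp only [Nat.testBit_xor, testBit_spread0, testBit_spread1, testBit_spread2]
  generalize rowClass i = c
  fin_cases c <;> simp

/-- A matrix commuting with the tripling is determined by three rows. -/
theorem eq_build {A : Matrix (Fin 11) (Fin 11) (ZMod 2)} (hA : ∀ i j, A (3 * i) (3 * j) = A i j) :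
    A = toMat (build (rowNat (A 0)) (rowNat (A 1)) (rowNat (A 2))) := by
  ext i j
  rw [toMat_build]
  have hval : ∀ c : Fin 3, ∀ k : Fin 11,
      bitVal ((![rowNat (A 0), rowNat (A 1), rowNat (A 2)] c).testBit k) = A (rowRep c) k := by
    intro c k
    fin_cases c <;> exact bitVal_rowNat _ k
  rw [hval]
  have key : ∀ i j : Fin 11, ∃ m < 5, rowRep (rowClass i) * 3 ^ m = i ∧
      colClass i j * 3 ^ m = j := by decide +kernel
  obtain ⟨m, -, h1, h2⟩ := key i j
  have hit : ∀ (m : ℕ) (a b : Fin 11), A (a * 3 ^ m) (b * 3 ^ m) = A a b := by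
    intro m
    induction m with
    | zero => simp
    | succ m ih =>
      intro a b
      rw [pow_succ, ← mul_assoc, ← mul_assoc, mul_comm _ (3 : Fin 11), mul_comm (b * 3 ^ m), hA, ih]
  conv_lhs => rw [← h1, ← h2]
  exact hit m _ _

end CfsgLib.Blocks.Order95040
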