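import Cfsg.Agent.Lib.Blocks.Order95040.Bits

/-!
# The conditions on a candidate involution
-/

set_option autoImplicit false

namespace CfsgLib.Blocks.Order95040

/-- The vectors fixed by a packed idempotent. -/
def fixedRows (F : ℕ) : List ℕ :=
  (List.range 2048).filter fun r => Nat.beq ((mulP r F) &&& 2047) r

/-- The vectors fixed by `fixP`. -/
def fixRows : List ℕ := [0, 1, 570, 571, 1476, 1477, 2046, 2047]

/-- The vectors fixed by `cycP`. -/
def cycRows : List ℕ :=
  [0, 10, 18, 24, 34, 40, 48, 58, 68, 78, 86, 92, 102, 108, 116, 126, 132, 142, 150, 156, 166,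
  172, 180, 190, 192, 202, 210, 216, 226, 232, 240, 250, 260, 270, 278, 284, 294, 300, 308, 318,
  320, 330, 338, 344, 354, 360, 368, 378, 384, 394, 402, 408, 418, 424, 432, 442, 452, 462, 470,
  476, 486, 492, 500, 510, 514, 520, 528, 538, 544, 554, 562, 568, 582, 588, 596, 606, 612, 622,
  630, 636, 646, 652, 660, 670, 676, 686, 694, 700, 706, 712, 720, 730, 736, 746, 754, 760, 774,
  780, 788, 798, 804, 814, 822, 828, 834, 840, 848, 858, 864, 874, 882, 888, 898, 904, 912, 922,
  928, 938, 946, 952, 966, 972, 980, 990, 996, 1006, 1014, 1020, 1028, 1038, 1046, 1052, 1062,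
  1068, 1076, 1086, 1088, 1098, 1106, 1112, 1122, 1128, 1136, 1146, 1152, 1162, 1170, 1176, 1186,
  1192, 1200, 1210, 1220, 1230, 1238, 1244, 1254, 1260, 1268, 1278, 1280, 1290, 1298, 1304, 1314,
  1320, 1328, 1338, 1348, 1358, 1366, 1372, 1382, 1388, 1396, 1406, 1412, 1422, 1430, 1436, 1446,
  1452, 1460, 1470, 1472, 1482, 1490, 1496, 1506, 1512, 1520, 1530, 1542, 1548, 1556, 1566, 1572,
  1582, 1590, 1596, 1602, 1608, 1616, 1626, 1632, 1642, 1650, 1656, 1666, 1672, 1680, 1690, 1696,
  1706, 1714, 1720, 1734, 1740, 1748, 1758, 1764, 1774, 1782, 1788, 1794, 1800, 1808, 1818, 1824,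
  1834, 1842, 1848, 1862, 1868, 1876, 1886, 1892, 1902, 1910, 1916, 1926, 1932, 1940, 1950, 1956,
  1966, 1974, 1980, 1986, 1992, 2000, 2010, 2016, 2026, 2034, 2040]

/-- Rows `0`, `1`, `2` of the component on the fixed space. -/
def listA : List (ℕ × ℕ × ℕ) :=
  [(1476, 570, 1),
  (1476, 2047, 1),
  (570, 1, 1476),
  (570, 1, 2047),
  (2046, 570, 571),
  (2046, 1477, 1476),
  (1, 1476, 570),
  (1, 570, 1476),
  (1, 570, 2046),
  (1, 570, 1477),
  (1, 570, 2047),
  (1, 2046, 1476),
  (1, 1477, 571),
  (1, 571, 1476),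
  (1, 571, 1477),
  (1, 2047, 1476),
  (1477, 570, 1476),
  (1477, 2046, 1476),
  (571, 570, 1476),
  (571, 570, 2046),
  (2047, 1476, 570),
  (2047, 570, 1476)]

/-- Rows `1`, `2` of the component on the complement. -/
def listB : List (ℕ × ℕ) :=
  [(68, 40), (78, 102), (86, 284), (92, 338), (102, 1556), (108, 1626),
  (116, 1824), (126, 1902), (132, 520), (142, 116), (150, 278), (156, 874),
  (166, 1572), (172, 1112), (180, 1338), (190, 1862), (192, 514), (202, 596),
  (210, 294), (216, 368), (226, 1068), (232, 1146), (240, 1800), (250, 1886),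
  (260, 528), (270, 92), (278, 774), (284, 330), (294, 1062), (300, 1642),
  (308, 1328), (318, 1916), (320, 544), (330, 86), (338, 270), (344, 888),
  (354, 1076), (360, 1602), (368, 1818), (378, 1388), (384, 18), (394, 588),
  (402, 804), (408, 378), (418, 1038), (424, 1616), (432, 1848), (442, 1382),
  (452, 58), (462, 622), (470, 828), (476, 360), (486, 1566), (492, 1098),
  (500, 1304), (510, 1868), (568, 1472), (568, 1482), (568, 1490), (568, 1496),
  (568, 1506), (568, 1512), (568, 1520), (568, 1530), (568, 1986), (568, 1992),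
  (568, 2000), (568, 2010), (568, 2016), (568, 2026), (568, 2034), (568, 2040),
  (582, 646), (588, 712), (596, 946), (606, 1020), (612, 1210), (622, 1268),
  (630, 1422), (636, 1472), (646, 142), (652, 754), (660, 912), (670, 492),
  (676, 1186), (686, 1758), (694, 1980), (700, 1472), (706, 156), (712, 202),
  (720, 952), (730, 1006), (736, 1714), (746, 1764), (754, 1430), (760, 1472),
  (774, 172), (780, 736), (788, 442), (798, 1014), (804, 1690), (814, 1238),
  (822, 1932), (828, 1472), (834, 652), (840, 250), (848, 418), (858, 980),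
  (864, 1176), (874, 1774), (882, 1974), (888, 1472), (898, 180), (904, 746),
  (912, 898), (922, 476), (928, 1192), (938, 1782), (946, 1950), (952, 1472),
  (966, 694), (972, 226), (980, 432), (990, 996), (996, 1170), (1006, 1734),
  (1014, 1940), (1020, 1472), (1028, 48), (1038, 78), (1046, 780), (1052, 882),
  (1062, 1046), (1068, 1128), (1076, 1834), (1086, 1876), (1088, 10), (1098, 612),
  (1106, 308), (1112, 858), (1122, 1548), (1128, 1122), (1136, 1842), (1146, 1372),
  (1152, 24), (1162, 108), (1170, 788), (1176, 864), (1186, 1542), (1192, 1650),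
  (1200, 1290), (1210, 1406), (1220, 562), (1230, 606), (1238, 814), (1244, 834),
  (1254, 1086), (1260, 1106), (1268, 1314), (1278, 1358), (1280, 34), (1290, 582),
  (1298, 300), (1304, 840), (1314, 1052), (1320, 1656), (1328, 1298), (1338, 1910),
  (1348, 538), (1358, 636), (1366, 822), (1372, 848), (1382, 1582), (1388, 1608),
  (1396, 1794), (1406, 1892), (1412, 554), (1422, 630), (1430, 318), (1436, 354),
  (1446, 1596), (1452, 1632), (1460, 1320), (1470, 1396), (1472, 568), (1482, 126),
  (1490, 798), (1496, 344), (1506, 1590), (1512, 1136), (1520, 1808), (1530, 1366),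
  (1542, 676), (1548, 730), (1556, 408), (1566, 486), (1572, 1666), (1582, 1788),
  (1590, 1470), (1596, 1472), (1602, 150), (1608, 760), (1616, 424), (1626, 966),
  (1632, 1680), (1642, 1278), (1650, 1966), (1656, 1472), (1666, 166), (1672, 210),
  (1680, 938), (1690, 990), (1696, 1720), (1706, 1740), (1714, 1460), (1720, 1472),
  (1734, 700), (1740, 720), (1748, 928), (1758, 972), (1764, 1200), (1774, 1244),
  (1782, 1452), (1788, 1472), (1794, 660), (1800, 240), (1808, 922), (1818, 510),
  (1824, 1706), (1834, 1230), (1842, 1956), (1848, 1472), (1862, 190), (1868, 216),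
  (1876, 402), (1886, 500), (1892, 1162), (1902, 1260), (1910, 1446), (1916, 1472),
  (1926, 670), (1932, 706), (1940, 394), (1950, 470), (1956, 1672), (1966, 1748),
  (1974, 1436), (1980, 1472), (1986, 686), (1992, 232), (2000, 904), (2010, 462),
  (2016, 1696), (2026, 1254), (2034, 1926), (2040, 1472)]

/-- The component on the fixed space with given rows is listed if it squares to `fixP`. -/
def coverA (a0 a1 a2 : ℕ) : Bool :=
  !eqP (mulP (build a0 a1 a2) (build a0 a1 a2)) fixP || listA.contains (a0, a1, a2)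

/-- The component on the complement with given rows is listed if it squares to `cycP`. -/
def coverB (b1 b2 : ℕ) : Bool :=
  !eqP (mulP (build 0 b1 b2) (build 0 b1 b2)) cycP || listB.contains (b1, b2)

def pow3P (X : ℕ) : ℕ := mulP (mulP X X) X
def pow5P (X : ℕ) : ℕ := mulP (mulP (mulP X X) (mulP X X)) X

/-- An element whose order does not divide `95040`. -/
def badOrder (V : ℕ) (w : List ℕ) : Bool :=
  !eqP (pow95040 (evalP shiftP tripleP V w)) oneP

/-- An element of order fifteen. -/
def badFifteen (V : ℕ) (w : List ℕ) : Bool :=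
  eqP (pow5P (pow3P (evalP shiftP tripleP V w))) oneP &&
    !eqP (pow3P (evalP shiftP tripleP V w)) oneP && !eqP (pow5P (evalP shiftP tripleP V w)) oneP

/-- An element centralizing `tripleP` outside the group generated by `tripleP` and `V`. -/
def badCentral (V : ℕ) (w : List ℕ) : Bool :=
  eqP (mulP (evalP shiftP tripleP V w) tripleP) (mulP tripleP (evalP shiftP tripleP V w)) &&
    (List.range 5).all fun i =>
      !eqP (evalP shiftP tripleP V w) (evalP shiftP tripleP V (List.replicate i 1)) &&
      !eqP (evalP shiftP tripleP V w) (evalP shiftP tripleP V (List.replicate i 1 ++ [2]))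

/-- The projection on the even vectors. -/
def evenP : ℕ := 1328903397983747395279166325955489790
/-- The complementary projection. -/
def oddP : ℕ := 2658455991569831745807614120560689151
/-- The generator of the standard group. -/
def stdP : ℕ := 2646610271769734416073059141446004737
/-- Elements commuting with `shiftP` and `tripleP`, and their inverses. -/
def conjs : List (ℕ × ℕ) := [(1329552593586084350528447794605199361, 1329552593586084350528447794605199361), (370690372099141536798429366221775418, 958213025884605858480736959733714372), (958213025884605858480736959733714372, 370690372099141536798429366221775418)]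

/-- The semisimplified matrix is a conjugate of the standard generator. -/
def isTarget (V : ℕ) : Bool :=
  (eqP (mulP (mulP evenP V) evenP) (mulP evenP V) ||
    eqP (mulP (mulP evenP V) evenP) (mulP V evenP)) &&
  conjs.any fun c => eqP (mulP (mulP evenP V) evenP ^^^ oddP) (mulP (mulP c.2 stdP) c.1)

/-- The candidate is trivial, violates a property of the group, or is the standard one. -/
def checkV (V : ℕ) : Bool :=
  eqP V oneP ||
  [[0, 2], [0, 2, 0, 0, 2], [0, 2, 0, 0, 2, 0, 0, 0, 2], [0, 2, 0, 2, 0, 0, 0, 0, 2], [0, 2, 0, 0, 0, 2], [0, 2, 0, 0, 0, 0, 0, 0, 0, 2], [0, 2, 0, 2, 0, 0, 0, 2], [0, 2, 0, 0, 2, 0, 0, 0, 0, 0, 0, 0, 2], [0, 2, 0, 2, 0, 0, 0, 0, 0, 0, 2]].any (badOrder V) ||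
  [[0, 1, 2, 0, 2], [0, 0, 0, 2, 0, 2]].any (badFifteen V) ||
  [[0, 1, 2, 0, 2, 0, 1, 0, 2, 0, 1, 1, 0, 2, 0, 2, 0, 2, 0], [0, 0, 2, 0, 0, 0, 0, 2, 0, 2, 0, 2, 0, 0, 2, 0], [0, 1, 0, 2, 0, 2, 0, 0, 1, 0, 2, 0, 0, 2, 0, 1, 2, 0]].any (badCentral V) ||
  eqP (mulP V (mulP shiftP V)) (evalP shiftP tripleP V (List.replicate 10 0)) ||
  isTarget V

/-- All candidates with a given component on the fixed space. -/
def checkA (a : ℕ × ℕ × ℕ) : Bool :=
  listB.all fun b => checkV (build a.1 (a.2.1 ^^^ b.1) (a.2.2 ^^^ b.2))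

end CfsgLib.Blocks.Order95040
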