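import Cfsg.Agent.Lib.Blocks.Order95040.Mod2
import Mathlib.GroupTheory.Perm.Cycle.Type

/-!
# Standard coordinates for the eleven-dimensional representation
-/

set_option autoImplicit false

namespace CfsgLib.Blocks.Order95040

open Cfsg CfsgLib CfsgLib.Char CfsgLib.CharIntegral Matrix
open scoped Classical

/-- The cyclic shift of the coordinates. -/
def shiftMat : Matrix (Fin 11) (Fin 11) (ZMod 2) := Matrix.of fun i j => if i + 1 = j then 1 else 0

/-- Tripling the coordinates. -/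
def tripleMat : Matrix (Fin 11) (Fin 11) (ZMod 2) := Matrix.of fun i j => if 3 * i = j then 1 else 0

theorem pow_mod_eleven {d : ℕ} (hd : d ≤ 11) (h : 2 ^ d % 11 = 1) : d = 0 ∨ d = 10 := by
  have key : ∀ d < 12, 2 ^ d % 11 = 1 → d = 0 ∨ d = 10 := by decide
  exact key d (by omega) h

theorem inv_conj_pow {G : Type*} [Group G] (a g : G) (i : ℕ) :
    (g⁻¹ * a * g) ^ i = g⁻¹ * a ^ i * g := by
  induction i with
  | zero => simp
  | succ i ih => rw [pow_succ, pow_succ, ih]; group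

/-- A subspace invariant under an element of order eleven without fixed points has dimension `0` or
`10`. -/
theorem finrank_free (Z : Matrix (Fin 11) (Fin 11) (ZMod 2)) (hZ : Z ^ 11 = 1)
    (T : Submodule (ZMod 2) (Fin 11 → ZMod 2)) (hT : ∀ x ∈ T, x ᵥ* Z ∈ T)
    (h0 : ∀ x ∈ T, x ᵥ* Z = x → x = 0) :
    Module.finrank (ZMod 2) T = 0 ∨ Module.finrank (ZMod 2) T = 10 := by
  have : Fact (Nat.Prime 11) := ⟨by norm_num⟩
  let f : Function.End T := fun x => ⟨x.1 ᵥ* Z, hT _ x.2⟩
  have hpow : ∀ k, ∀ x : T, ((f ^ k) x).1 = x.1 ᵥ* Z ^ k := by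
    intro k
    induction k with
    | zero => intro x; rw [pow_zero Z, Matrix.vecMul_one]; rfl
    | succ k ih =>
      intro x
      rw [pow_succ' f, pow_succ, ← Matrix.vecMul_vecMul, ← ih x]
      rfl
  have hf : f ^ 11 ^ 1 = 1 := by
    funext x
    exact Subtype.ext (by rw [hpow, pow_one, hZ, Matrix.vecMul_one]; rfl)
  have h := Equiv.Perm.card_fixedPoints_modEq hf
  have hone : Fintype.card (Function.fixedPoints f) = 1 := by
    rw [Fintype.card_eq_one_iff]
    refine ⟨⟨0, Subtype.ext (Matrix.zero_vecMul Z)⟩, fun y => Subtype.ext (Subtype.ext ?_)⟩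
    exact h0 _ y.1.2 (congrArg Subtype.val y.2)
  rw [hone, ← Nat.card_eq_fintype_card, Module.natCard_eq_pow_finrank (K := ZMod 2),
    Nat.card_zmod] at h
  refine pow_mod_eleven ?_ h
  exact (Submodule.finrank_le T).trans (by rw [Module.finrank_fin_fun])

/-- Coordinates in which the elements of order eleven and five permute the basis. -/
theorem exists_coords {G : Type*} [Group G] (φ : G →* Matrix (Fin 11) (Fin 11) (ZMod 2))
    {z h : G} (hz : z ^ 11 = 1) (hh : h ^ 5 = 1) (hhz : h⁻¹ * z * h = z ^ 3) (hz1 : φ z ≠ 1) :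
    ∃ ψ : G →* Matrix (Fin 11) (Fin 11) (ZMod 2), ψ z = shiftMat ∧ ψ h = tripleMat := by
  have : Fact (Nat.Prime 5) := ⟨Nat.prime_five⟩
  set Z := φ z with hZdef
  have hZ : Z ^ 11 = 1 := by rw [hZdef, ← map_pow, hz, map_one]
  set N : Matrix (Fin 11) (Fin 11) (ZMod 2) := ∑ i : Fin 11, Z ^ (i : ℕ) with hN
  have hmod : ∀ k, Z ^ k = Z ^ (k % 11) := fun k => pow_eq_pow_mod k hZ
  have hperm : ∀ σ : Fin 11 ≃ Fin 11, N = ∑ i : Fin 11, Z ^ ((σ i : Fin 11) : ℕ) := fun σ =>
    (Equiv.sum_comp σ (fun i : Fin 11 => Z ^ (i : ℕ))).symm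
  have hNZ : N * Z = N := by
    rw [hN, Finset.sum_mul]
    refine (Finset.sum_congr rfl fun i _ => ?_).trans (hperm (Equiv.addRight 1)).symm
    rw [← pow_succ, hmod]
    congr 1
  set H := φ h with hHdef
  have hH : H ^ 5 = 1 := by rw [hHdef, ← map_pow, hh, map_one]
  have hcomm : ∀ i : ℕ, Z ^ i * H = H * Z ^ (3 * i) := fun i => by
    rw [hZdef, hHdef, ← map_pow, ← map_pow, ← map_mul, ← map_mul, pow_mul, ← hhz]
    congr 1
    rw [inv_conj_pow]; group
  have hNH : N * H = H * N := by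
    conv_rhs => rw [hperm ((Equiv.ofBijective (fun i : Fin 11 => 3 * i) (by decide)))]
    rw [hN, Finset.sum_mul, Finset.mul_sum]
    refine Finset.sum_congr rfl fun i _ => ?_
    rw [hcomm, hmod (3 * i)]
    congr 2
  set S : Submodule (ZMod 2) (Fin 11 → ZMod 2) := LinearMap.ker N.vecMulLinear with hS
  set F : Submodule (ZMod 2) (Fin 11 → ZMod 2) :=
    LinearMap.ker (Z.vecMulLinear - LinearMap.id) with hF
  have hmemS : ∀ x, x ∈ S ↔ x ᵥ* N = 0 := fun x => Iff.rfl
  have hmemF : ∀ x, x ∈ F ↔ x ᵥ* Z = x := fun x => by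
    simp [hF, LinearMap.mem_ker, sub_eq_zero]
  have hFN : ∀ x, x ᵥ* Z = x → x ᵥ* N = x := fun x hx => by
    have hp : ∀ k, x ᵥ* Z ^ k = x := fun k => by
      induction k with
      | zero => rw [pow_zero, Matrix.vecMul_one]
      | succ k ih => rw [pow_succ, ← Matrix.vecMul_vecMul, ih, hx]
    rw [hN, Matrix.vecMul_sum, Finset.sum_congr rfl fun (i : Fin 11) _ => hp (i : ℕ), Finset.sum_const,
      Finset.card_univ, Fintype.card_fin]
    funext i
    rw [Pi.smul_apply, nsmul_eq_mul, show ((11 : ℕ) : ZMod 2) = 1 from rfl, one_mul]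
  have hSZ : ∀ x ∈ S, x ᵥ* Z ∈ S := fun x hx => by
    have hc : Z * N = N := by
      have hz' : Commute Z N := Commute.sum_right _ _ _ fun i _ => Commute.self_pow Z _
      rw [hz'.eq, hNZ]
    rw [hmemS, Matrix.vecMul_vecMul, hc]
    exact hx
  have hdimS : Module.finrank (ZMod 2) S = 10 := by
    refine (finrank_free Z hZ S hSZ fun x hx hfix => (hFN x hfix).symm.trans hx).resolve_left
      fun h0 => hz1 ?_
    rw [Submodule.finrank_eq_zero] at h0
    refine Matrix.ext_of_single_vecMul fun i => ?_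
    rw [Matrix.vecMul_one, ← sub_eq_zero, ← Submodule.mem_bot (R := ZMod 2), ← h0, hmemS,
      Matrix.sub_vecMul, Matrix.vecMul_vecMul, sub_eq_zero]
    have hz' : Commute Z N := Commute.sum_right _ _ _ fun i _ => Commute.self_pow Z _
    rw [hz'.eq, hNZ]
  have hdimF : 1 ≤ Module.finrank (ZMod 2) F := by
    have h1 := N.vecMulLinear.finrank_range_add_finrank_ker
    rw [← hS, hdimS, Module.finrank_fin_fun] at h1
    have hle : LinearMap.range N.vecMulLinear ≤ F := by
      rintro _ ⟨x, rfl⟩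
      rw [hmemF]
      show (x ᵥ* N) ᵥ* Z = x ᵥ* N
      rw [Matrix.vecMul_vecMul, hNZ]
    have := Submodule.finrank_mono hle
    omega
  have hdimF' : Module.finrank (ZMod 2) F = 1 := by
    have hd : Disjoint S F := Submodule.disjoint_def.2 fun x hx hx' =>
      (hFN x ((hmemF x).1 hx')).symm.trans hx
    have := Submodule.finrank_add_finrank_le_of_disjoint hd
    rw [Module.finrank_fin_fun, hdimS] at this
    omega
  have hfix : ∀ (T : Submodule (ZMod 2) (Fin 11 → ZMod 2)) (d : ℕ),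
      Module.finrank (ZMod 2) T = d → 0 < d → 2 ^ d % 5 ≠ 1 → (∀ x ∈ T, x ᵥ* H ∈ T) →
      ∃ x ∈ T, x ≠ 0 ∧ x ᵥ* H = x := by
    intro T d hd hd0 hd5 hTH
    by_contra hno
    push Not at hno
    let f : Function.End T := fun x => ⟨x.1 ᵥ* H, hTH _ x.2⟩
    have hpow : ∀ k, ∀ x : T, ((f ^ k) x).1 = x.1 ᵥ* H ^ k := by
      intro k
      induction k with
      | zero => intro x; rw [pow_zero H, Matrix.vecMul_one]; rfl
      | succ k ih =>
        intro x
        rw [pow_succ' f, pow_succ, ← Matrix.vecMul_vecMul, ← ih x]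
        rfl
    have hf : f ^ 5 ^ 1 = 1 := by
      funext x
      exact Subtype.ext (by rw [hpow, pow_one, hH, Matrix.vecMul_one]; rfl)
    have h := Equiv.Perm.card_fixedPoints_modEq hf
    have hone : Fintype.card (Function.fixedPoints f) = 1 := by
      rw [Fintype.card_eq_one_iff]
      refine ⟨⟨0, Subtype.ext (Matrix.zero_vecMul H)⟩, fun y => Subtype.ext (Subtype.ext ?_)⟩
      by_contra hy
      exact hno _ y.1.2 hy (congrArg Subtype.val y.2)
    rw [hone, ← Nat.card_eq_fintype_card, Module.natCard_eq_pow_finrank (K := ZMod 2),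
      Nat.card_zmod, hd] at h
    exact hd5 h
  obtain ⟨s, hs, hs0, hsH⟩ := hfix S 10 hdimS (by norm_num) (by norm_num) fun x hx => by
    rw [hmemS, Matrix.vecMul_vecMul, ← hNH, ← Matrix.vecMul_vecMul, (hmemS x).1 hx,
      Matrix.zero_vecMul]
  obtain ⟨j, hj, hj0, hjH⟩ := hfix F 1 hdimF' (by norm_num) (by norm_num) fun x hx => by
    rw [hmemF] at hx ⊢
    have h4 := hcomm 4
    rw [show 3 * 4 = 11 + 1 from rfl, pow_succ Z 11, hZ, one_mul] at h4
    have hp : x ᵥ* Z ^ 4 = x := by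
      simp only [pow_succ, pow_zero, one_mul, ← Matrix.vecMul_vecMul, hx]
    rw [Matrix.vecMul_vecMul, ← h4, ← Matrix.vecMul_vecMul, hp]
  let P : Matrix (Fin 11) (Fin 11) (ZMod 2) := Matrix.of fun i => (j + s) ᵥ* Z ^ (i : ℕ)
  let U := Submodule.span (ZMod 2) (Set.range fun i : Fin 11 => (j + s) ᵥ* Z ^ (i : ℕ))
  have hUmem : ∀ k, (j + s) ᵥ* Z ^ k ∈ U := fun k => by
    rw [hmod]
    exact Submodule.subset_span ⟨⟨k % 11, Nat.mod_lt _ (by norm_num)⟩, rfl⟩
  have hjU : j ∈ U := by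
    have h1 : ∑ i : Fin 11, (j + s) ᵥ* Z ^ (i : ℕ) = j := by
      rw [← Matrix.vecMul_sum, ← hN, Matrix.add_vecMul, hFN j ((hmemF j).1 hj), (hmemS s).1 hs,
        add_zero]
    rw [← h1]
    exact Submodule.sum_mem _ fun i _ => hUmem _
  let T := Submodule.span (ZMod 2) (Set.range fun i : Fin 11 => s ᵥ* Z ^ (i : ℕ))
  have hTS : T ≤ S := Submodule.span_le.2 (Set.range_subset_iff.2 fun i => by
    induction (i : ℕ) with
    | zero => rw [pow_zero, Matrix.vecMul_one]; exact hs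
    | succ k ih => rw [pow_succ, ← Matrix.vecMul_vecMul]; exact hSZ _ ih)
  have hT : T = S := by
    refine Submodule.eq_of_le_of_finrank_eq hTS ?_
    have hTZ : ∀ x ∈ T, x ᵥ* Z ∈ T := by
      intro x hx
      induction hx using Submodule.span_induction with
      | mem y hy =>
        obtain ⟨i, rfl⟩ := hy
        show s ᵥ* Z ^ (i : ℕ) ᵥ* Z ∈ T
        rw [Matrix.vecMul_vecMul, ← pow_succ, hmod]
        exact Submodule.subset_span ⟨⟨((i : ℕ) + 1) % 11, Nat.mod_lt _ (by norm_num)⟩, rfl⟩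
      | zero => simp
      | add a b _ _ ha hb => rw [Matrix.add_vecMul]; exact T.add_mem ha hb
      | smul c a _ ha => rw [Matrix.smul_vecMul]; exact T.smul_mem c ha
    rw [hdimS]
    refine (finrank_free Z hZ T hTZ fun x hx hx' =>
      (hFN x hx').symm.trans (hTS hx)).resolve_left fun h0 => hs0 ?_
    rw [Submodule.finrank_eq_zero] at h0
    rw [← Submodule.mem_bot (R := ZMod 2), ← h0]
    exact Submodule.subset_span ⟨0, by simp⟩
  have hjZ : ∀ k, j ᵥ* Z ^ k = j := fun k => by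
    induction k with
    | zero => rw [pow_zero, Matrix.vecMul_one]
    | succ k ih => rw [pow_succ, ← Matrix.vecMul_vecMul, ih, (hmemF j).1 hj]
  have hUtop : U = ⊤ := by
    have hTU : T ≤ U := Submodule.span_le.2 (Set.range_subset_iff.2 fun i => by
      have h := U.sub_mem (hUmem (i : ℕ)) hjU
      rwa [Matrix.add_vecMul, hjZ, add_sub_cancel_left] at h)
    have hFU : F ≤ U := by
      have h : F = Submodule.span (ZMod 2) {j} := (Submodule.eq_of_le_of_finrank_eq
        ((Submodule.span_singleton_le_iff_mem j F).2 hj)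
        (by rw [hdimF', finrank_span_singleton hj0])).symm
      rw [h, Submodule.span_singleton_le_iff_mem]
      exact hjU
    apply Submodule.eq_top_of_finrank_eq
    have hd : Disjoint S F := Submodule.disjoint_def.2 fun x hx hx' =>
      (hFN x ((hmemF x).1 hx')).symm.trans hx
    have h1 := Submodule.finrank_mono (sup_le (hT ▸ hTU : S ≤ U) hFU)
    have h2 := Submodule.finrank_sup_add_finrank_inf_eq S F
    rw [hd.eq_bot, finrank_bot, hdimS, hdimF'] at h2
    have h3 := Submodule.finrank_le U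
    rw [Module.finrank_fin_fun] at h3 ⊢
    omega
  have hP : IsUnit P := by
    rw [← Matrix.linearIndependent_rows_iff_isUnit]
    refine linearIndependent_of_top_le_span_of_card_eq_finrank (le_of_eq hUtop.symm) ?_
    rw [Module.finrank_fin_fun, Fintype.card_fin]
  obtain ⟨Q, hQ⟩ := hP
  let ψ : G →* Matrix (Fin 11) (Fin 11) (ZMod 2) :=
    { toFun := fun g => P * φ g * (↑Q⁻¹ : Matrix (Fin 11) (Fin 11) (ZMod 2))
      map_one' := by rw [map_one, mul_one, ← hQ, Units.mul_inv]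
      map_mul' := fun a b => by
        rw [map_mul, ← hQ]
        simp only [mul_assoc, Units.inv_mul_cancel_left] }
  have hrow : ∀ (f : Fin 11 → Fin 11) (A : Matrix (Fin 11) (Fin 11) (ZMod 2)),
      (∀ i : Fin 11, (j + s) ᵥ* Z ^ (i : ℕ) ᵥ* A = (j + s) ᵥ* Z ^ ((f i : Fin 11) : ℕ)) →
      P * A * (↑Q⁻¹ : Matrix (Fin 11) (Fin 11) (ZMod 2)) =
        Matrix.of fun i k => if f i = k then 1 else 0 := by
    intro f A hA
    rw [Units.mul_inv_eq_iff_eq_mul, hQ]
    funext i
    rw [Matrix.mul_apply_eq_vecMul, Matrix.mul_apply_eq_vecMul,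
      show P i = (j + s) ᵥ* Z ^ (i : ℕ) from rfl, hA i,
      show (Matrix.of fun i k => if f i = k then (1 : ZMod 2) else 0) i = Pi.single (f i) 1 by
        funext k; simp [Pi.single_apply, eq_comm],
      Matrix.single_one_vecMul]
    rfl
  refine ⟨ψ, hrow (fun i => i + 1) Z fun i => ?_, hrow (fun i => 3 * i) H fun i => ?_⟩
  · rw [Matrix.vecMul_vecMul, ← pow_succ, hmod]
    congr 2
  · rw [Matrix.vecMul_vecMul, hcomm, ← Matrix.vecMul_vecMul, Matrix.add_vecMul, hjH, hsH, hmod]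
    congr 2

variable {G : Type*} [Group G] [Fintype G] [IsSimpleGroup G] (hG : Nat.card G = 95040)
include hG

/-- The local data at `11` and `5`, with a representation in standard coordinates. -/
theorem exists_std : ∃ (z h v : G) (ψ : G →* Matrix (Fin 11) (Fin 11) (ZMod 2)),
    orderOf z = 11 ∧ orderOf h = 5 ∧ orderOf v = 2 ∧ Commute h v ∧
    ψ z = shiftMat ∧ ψ h = tripleMat ∧ Function.Injective ψ ∧
    (∀ g : G, Commute g h → ∃ i < 5, g = h ^ i ∨ g = h ^ i * v) ∧
    (∀ g : G, g ^ 15 = 1 → g ^ 3 = 1 ∨ g ^ 5 = 1) ∧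
    v * z * v ≠ z ^ 10 := by
  have : Fact (Nat.Prime 11) := ⟨by norm_num⟩
  have : Fact (Nat.Prime 5) := ⟨Nat.prime_five⟩
  obtain ⟨z, hz⟩ := exists_prime_orderOf_dvd_card' (G := G) 11 (by rw [hG]; norm_num)
  obtain ⟨φ, hφ⟩ := exists_mod2 hG hz
  obtain ⟨D⟩ := exists_elevenData hG hz
  obtain ⟨F⟩ := exists_fiveData hG D
  set B := Subgroup.normalizer ((Subgroup.zpowers z : Subgroup G) : Set G) with hB
  obtain ⟨⟨y, hyB⟩, hy⟩ := exists_prime_orderOf_dvd_card' (G := B) 5
    (by rw [show Nat.card B = 55 from D.hnorm]; norm_num)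
  rw [← Subgroup.orderOf_coe] at hy
  change orderOf y = 5 at hy
  have hz11 : z ^ 11 = 1 := hz ▸ pow_orderOf_eq_one z
  have hy5 : y ^ 5 = 1 := hy ▸ pow_orderOf_eq_one y
  obtain ⟨a, ha⟩ : ∃ a : ℕ, z ^ a = y⁻¹ * z * y := mem_powers_iff_mem_zpowers.2 (by
    have h := (Subgroup.mem_normalizer_iff.1 (inv_mem hyB) z).1 (Subgroup.mem_zpowers z)
    simpa using h)
  have hiter : ∀ k : ℕ, (y ^ k)⁻¹ * z * y ^ k = z ^ (a ^ k) := by
    intro k
    induction k with
    | zero => simp
    | succ k ih =>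
      rw [pow_succ', pow_succ, pow_mul' z]
      calc (y * y ^ k)⁻¹ * z * (y * y ^ k) = (y ^ k)⁻¹ * (y⁻¹ * z * y) * y ^ k := by group
        _ = (y ^ k)⁻¹ * z ^ a * y ^ k := by rw [ha]
        _ = ((y ^ k)⁻¹ * z * y ^ k) ^ a := (inv_conj_pow _ _ _).symm
        _ = (z ^ (a ^ k)) ^ a := by rw [ih]
        _ = (z ^ a) ^ (a ^ k) := by rw [← pow_mul, ← pow_mul, mul_comm]
  have hnc : ∀ g : G, Commute g z → 5 ∣ orderOf g → False := fun g hg h5 => by
    have h1 : g ∈ Subgroup.centralizer ({z} : Set G) :=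
      Subgroup.mem_centralizer_singleton_iff.2 hg.eq
    have h2 := orderOf_dvd_natCard (⟨g, h1⟩ : Subgroup.centralizer ({z} : Set G))
    rw [show Nat.card (Subgroup.centralizer ({z} : Set G)) = 11 from D.hcent,
      ← Subgroup.orderOf_coe] at h2
    exact absurd (h5.trans h2) (by norm_num)
  have hb5 : (a % 11) ^ 5 % 11 = 1 := by
    have h := hiter 5
    rw [hy5, inv_one, one_mul, mul_one, ← pow_mod_orderOf, hz] at h
    have h' : z ^ (a ^ 5 % 11) = z ^ 1 := by rw [pow_one]; exact h.symm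
    rw [pow_inj_mod, hz] at h'
    rw [← Nat.pow_mod, ← Nat.mod_mod]
    exact h'
  have hb1 : a % 11 ≠ 1 := fun e => by
    have h : z ^ 1 = y⁻¹ * z * y := by rw [← e, ← ha, ← hz, pow_mod_orderOf]
    refine hnc y ?_ (by rw [hy])
    show y * z = z * y
    conv_lhs => rw [show z = z ^ 1 from (pow_one z).symm, h]
    group
  obtain ⟨k, hk0, hk5, hk⟩ : ∃ k, 0 < k ∧ k < 5 ∧ (a % 11) ^ k % 11 = 3 := by
    have key : ∀ b < 11, b ^ 5 % 11 = 1 → b ≠ 1 → ∃ k < 5, 0 < k ∧ b ^ k % 11 = 3 := by decide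
    obtain ⟨k, hk5, hk0, hk⟩ := key (a % 11) (Nat.mod_lt _ (by norm_num)) hb5 hb1
    exact ⟨k, hk0, hk5, hk⟩
  set h := y ^ k with hh
  have hho : orderOf h = 5 := by
    rw [hh, Nat.Coprime.orderOf_pow, hy]
    rw [hy]
    exact (Nat.Prime.coprime_iff_not_dvd Nat.prime_five).2
      (fun d => by have := Nat.le_of_dvd hk0 d; omega)
  have hhz : h⁻¹ * z * h = z ^ 3 := by
    rw [hh, hiter, ← pow_mod_orderOf, hz, Nat.pow_mod, hk]
  obtain ⟨hconj, -⟩ | hbad := conj_five hG F (g := h) (by rw [hho])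
  swap
  · exfalso
    obtain ⟨c, hc⟩ := isConj_iff.1 hbad
    have e : orderOf (F.x * F.v) = orderOf h := by
      rw [← hc]; exact orderOf_injective (MulAut.conj c).toMonoidHom (MulAut.conj c).injective h
    rw [hho, (ten_powers F.hx F.hv F.hxv F.hnx F.hnv).1] at e
    omega
  obtain ⟨c, hc⟩ := isConj_iff.1 hconj
  set v := c⁻¹ * F.v * c with hv
  have hvo : orderOf v = 2 := by
    rw [hv, ← F.hv]
    simpa using orderOf_injective (MulAut.conj c⁻¹).toMonoidHom (MulAut.conj c⁻¹).injective F.v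
  have hhv : Commute h v := by
    show h * v = v * h
    have e : h = c⁻¹ * F.x * c := by rw [← hc]; group
    rw [e, hv]
    calc c⁻¹ * F.x * c * (c⁻¹ * F.v * c) = c⁻¹ * (F.x * F.v) * c := by group
      _ = c⁻¹ * (F.v * F.x) * c := by rw [F.hxv.eq]
      _ = _ := by group
  obtain ⟨ψ, hψz, hψh⟩ := exists_coords φ hz11 (hho ▸ pow_orderOf_eq_one h) hhz hφ
  refine ⟨z, h, v, ψ, hz, hho, hvo, hhv, hψz, hψh, ?_, ?_, ?_, ?_⟩
  · rw [injective_iff_map_eq_one]
    intro g hg
    have hnormal : (MonoidHom.ker ψ).Normal := inferInstance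
    rcases hnormal.eq_bot_or_eq_top with h1 | h1
    · rw [← Subgroup.mem_bot, ← h1]; exact hg
    · have : ψ z = 1 := by rw [← MonoidHom.mem_ker, h1]; trivial
      rw [hψz] at this
      exact absurd (congrFun (congrFun this 0) 0) (by decide)
  · intro g hg
    have hg' : c * g * c⁻¹ ∈ Subgroup.centralizer ({F.x} : Set G) := by
      refine Subgroup.mem_centralizer_singleton_iff.2 ?_
      rw [← hc, conj_mul, conj_mul, hg.eq]
    have hzp : Subgroup.zpowers (F.x * F.v) = Subgroup.centralizer ({F.x} : Set G) := by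
      refine Subgroup.eq_of_le_of_card_ge (Subgroup.zpowers_le.2
        (Subgroup.mem_centralizer_singleton_iff.2 ?_)) ?_
      · rw [mul_assoc, ← F.hxv.eq]
      · rw [Nat.card_zpowers, (ten_powers F.hx F.hv F.hxv F.hnx F.hnv).1]; exact le_of_eq F.cent_x
    rw [← hzp] at hg'
    obtain ⟨m, hm⟩ := mem_powers_iff_mem_zpowers.2 hg'
    have hg2 : g = (h * v) ^ m := by
      have e : h * v = c⁻¹ * (F.x * F.v) * c := by rw [hv, ← hc]; group
      have e2 : (c⁻¹ * (F.x * F.v) * c) ^ m = c⁻¹ * (F.x * F.v) ^ m * c := inv_conj_pow _ _ _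
      rw [e, e2, show (F.x * F.v) ^ m = c * g * c⁻¹ from hm]; group
    refine ⟨m % 5, Nat.mod_lt _ (by norm_num), ?_⟩
    rw [hg2, hhv.mul_pow, ← pow_mod_orderOf h, hho, ← pow_mod_orderOf v, hvo]
    rcases Nat.mod_two_eq_zero_or_one m with e | e <;> rw [e]
    · exact Or.inl (by rw [pow_zero, mul_one])
    · exact Or.inr (by rw [pow_one])
  · intro g hg
    have hd : orderOf g ∣ 3 * 5 := orderOf_dvd_of_pow_eq_one hg
    by_cases h5 : 5 ∣ orderOf g
    · refine Or.inr ?_
      rcases conj_five hG F h5 with ⟨-, e⟩ | e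
      · rw [← e]; exact pow_orderOf_eq_one g
      · obtain ⟨c', hc'⟩ := isConj_iff.1 e
        have e' : orderOf (F.x * F.v) = orderOf g := by
          rw [← hc']; exact orderOf_injective (MulAut.conj c').toMonoidHom (MulAut.conj c').injective g
        rw [← e', (ten_powers F.hx F.hv F.hxv F.hnx F.hnv).1] at hd
        norm_num at hd
    · refine Or.inl (orderOf_dvd_iff_pow_eq_one.1 ?_)
      exact ((Nat.Prime.coprime_iff_not_dvd Nat.prime_five).2 h5).symm.dvd_of_dvd_mul_right hd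
  · intro e
    refine D.notReal (isConj_iff.2 ⟨v, ?_⟩)
    have hv2 : v * v = 1 := by rw [← pow_two, ← hvo]; exact pow_orderOf_eq_one v
    rw [inv_eq_of_mul_eq_one_right hv2, e]
    exact eq_inv_of_mul_eq_one_left (by rw [← pow_succ, hz11])

end CfsgLib.Blocks.Order95040
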