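import Cfsg.Agent.Lib.Blocks.Order95040.Checks

/-!
# The candidates for the first component
-/

set_option autoImplicit false
set_option maxRecDepth 100000

namespace CfsgLib.Blocks.Order95040

theorem fixedRows_fixP : fixedRows fixP = fixRows := by decide +kernel

theorem fixedRows_cycP : fixedRows cycP = cycRows := by decide +kernel

theorem coverA_all :
    (fixRows.all fun a0 => fixRows.all fun a1 => fixRows.all (coverA a0 a1)) = true := by
  decide +kernel

theorem coverB_0 : (((cycRows.drop 0).take 32).all fun b1 => cycRows.all (coverB b1)) = true := by
  decide +kernel

theorem coverB_1 : (((cycRows.drop 32).take 32).all fun b1 => cycRows.all (coverB b1)) = true := by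
  decide +kernel

end CfsgLib.Blocks.Order95040
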