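import Cfsg.Agent.Lib.Blocks.Order95040.Checks

/-!
# The candidates for the second component, second part
-/

set_option autoImplicit false
set_option maxRecDepth 100000

namespace CfsgLib.Blocks.Order95040

theorem coverB_5 : (((cycRows.drop 160).take 32).all fun b1 => cycRows.all (coverB b1)) = true := by
  decide +kernel

theorem coverB_6 : (((cycRows.drop 192).take 32).all fun b1 => cycRows.all (coverB b1)) = true := by
  decide +kernel

theorem coverB_7 : (((cycRows.drop 224).take 32).all fun b1 => cycRows.all (coverB b1)) = true := by
  decide +kernel

end CfsgLib.Blocks.Order95040
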