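import Cfsg.Agent.Lib.Blocks.Order95040.Search

/-!
# Checks for the blocks at five of a group of order 95040
-/

set_option autoImplicit false

namespace CfsgLib.Blocks.Order95040

/-- The degrees divisible by eleven and congruent to `±1` modulo five. -/
def sideDegrees : List ℕ := [11, 44, 66, 99, 176, 264]

/-- The value at an element of order five. -/
def sgnFive (d : ℕ) : ℤ := if d % 5 == 1 then 1 else -1

theorem sideDegree_cases : ∀ d ∈ List.range 309, 95040 % d = 0 → d % 11 = 0 → (d % 5 = 1 ∨ d % 5 = 4) →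
    d ∈ sideDegrees := by decide +kernel

/-- The types on one side at the involution. -/
def typesSide (C : ℕ) (σ : ℤ) : List Ty :=
  sideDegrees.flatMap fun (d : ℕ) => (List.range 33).filterMap fun (a : ℕ) =>
    if decide (((a : ℤ) - 16).natAbs * ((a : ℤ) - 16).natAbs ≤ C) &&
      decide (((a : ℤ) - 16).natAbs < d) &&
      ((d : ℤ) - ((a : ℤ) - 16)) % 4 == 0 && (((a : ℤ) - 16) - σ * sgnFive d) % 5 == 0 &&
      ((95040 / C : ℕ) : ℤ) * ((a : ℤ) - 16) % (d : ℤ) == 0
    then some ⟨d, sgnFive d, (a : ℤ) - 16⟩ else none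

theorem mem_typesSide {C d : ℕ} {σ v : ℤ} (hd : d ∈ sideDegrees) (hC : C ≤ 240)
    (h1 : v.natAbs * v.natAbs ≤ C) (h2 : v.natAbs < d) (h3 : ((d : ℤ) - v) % 4 = 0)
    (h4 : (v - σ * sgnFive d) % 5 = 0) (h5 : ((95040 / C : ℕ) : ℤ) * v % (d : ℤ) = 0) :
    ⟨d, sgnFive d, v⟩ ∈ typesSide C σ := by
  have h16 : v.natAbs ≤ 15 := by
    by_contra hlt
    have := Nat.mul_le_mul (show 16 ≤ v.natAbs by omega) (show 16 ≤ v.natAbs by omega)
    omega
  refine List.mem_flatMap.2 ⟨d, hd, List.mem_filterMap.2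
    ⟨(v + 16).toNat, List.mem_range.2 (by omega), ?_⟩⟩
  have e : (((v + 16).toNat : ℕ) : ℤ) - 16 = v := by omega
  simp only [e]
  rw [if_pos]
  simp only [Bool.and_eq_true, decide_eq_true_eq, beq_iff_eq]
  exact ⟨⟨⟨⟨h1, h2⟩, h3⟩, h4⟩, h5⟩

/-- The weighted square sum. -/
def wsum (L : List Ty) : ℤ :=
  (L.map fun t => t.s * (t.v * t.v) * ((95040 / t.d : ℕ) : ℤ)).sum

/-- One configuration: the value of `u`, the sums of the known characters on either side, and the
numbers of the further characters on either side. -/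
structure SideConf where
  u : ℤ
  pa : ℤ
  pb : ℤ
  pw : ℤ
  sa : ℤ
  sb : ℤ
  sw : ℤ
  np : ℕ
  ns : ℕ
deriving DecidableEq

/-- The two configurations. -/
def sideConfs : List SideConf :=
  [⟨4, -143, -3, 84480, -22, 2, 126720, 3, 2⟩, ⟨-4, 33, -7, 285120, -198, -2, -73920, 2, 3⟩]

/-- The side of the principal block in the solution. -/
def solP : List Ty := [⟨66, 1, 6⟩, ⟨99, -1, -1⟩, ⟨176, 1, -4⟩]

/-- The other side in the solution. -/
def solS : List Ty := [⟨11, 1, -1⟩, ⟨11, 1, -1⟩]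

/-- The other side in the configuration without a degree eleven. -/
def solS' : List Ty := [⟨44, -1, -4⟩, ⟨66, 1, -6⟩]

/-- The test on the second side. -/
def finalSecond (c : SideConf) (C : ℕ) (LP LS : List Ty) (A : Acc) : Bool :=
  let TP := c.pw + wsum LP
  let TS := c.sw + wsum LS
  let Q := ((C * C : ℕ) : ℤ)
  !(A.a == 0 && A.b == 0 && (TP + TS) % Q == 0 && (TP - TS) % Q == 0 &&
      decide (0 ≤ TP + TS) && decide (TP + TS ≤ 10 * Q) && decide (0 ≤ TP - TS) &&
      decide (TP - TS ≤ 10 * Q)) ||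
    (c.u == 4 && C == 240 && LP.isPerm solP && (LS.isPerm solS || LS.isPerm solS'))

/-- The test on the first side. -/
def finalFirst (c : SideConf) (C : ℕ) (LP : List Ty) (A : Acc) : Bool :=
  !(A.a == 0 && A.b == 0) ||
    searchL C 95040 (finalSecond c C LP) c.ns (typesSide C (-1)) [] ⟨A.n, A.d2, c.sa, c.sb, 0⟩

theorem search_sides : ∀ c ∈ sideConfs, ∀ C ∈ [120, 240],
    searchL C 95040 (finalFirst c C) c.np (typesSide C 1) [] ⟨110, 40590, c.pa, c.pb, 0⟩ = true := by
  decide +kernel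

end CfsgLib.Blocks.Order95040
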