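import Cfsg.Agent.Lib.Blocks.Order95040.FiveMain
import Cfsg.Agent.Lib.Blocks.Order95040.DegreeTables
import Cfsg.Agent.Lib.Char.Indicator

/-!
# Two real characters of degree eleven

The two blocks at five and the Frobenius-Schur count of involutions determine the degrees.
-/

set_option autoImplicit false
set_option linter.unusedTactic false
set_option linter.unreachableTactic false

namespace CfsgLib.Blocks.Order95040

open Cfsg CfsgLib CfsgLib.Char CfsgLib.CharIntegral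
open scoped Classical ComplexConjugate

variable {G : Type*} [Group G] [Fintype G]

/-- Column orthogonality for integer values. -/
theorem orth_int [Fintype (IrrCharacter G)] {g h : G} {a b : IrrCharacter G → ℤ}
    (ha : ∀ χ : IrrCharacter G, (χ : G → ℂ) g = (a χ : ℂ))
    (hb : ∀ χ : IrrCharacter G, (χ : G → ℂ) h = (b χ : ℂ)) :
    (∑ χ, a χ * b χ : ℤ) = if IsConj g h then (cent g : ℤ) else 0 := by
  have h1 := column_orthogonality g h
  simp only [ha, hb, map_intCast] at h1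
  apply Int.cast_injective (α := ℂ)
  push_cast
  rw [h1]

/-- The weighted sum of values counts the pairs of conjugates of an involution with given
product. -/
theorem exists_pair_count [Fintype (IrrCharacter G)] (hG : Nat.card G = 95040) {v g : G}
    (hv : orderOf v = 2) {wv wg : IrrCharacter G → ℤ}
    (hwv : ∀ χ : IrrCharacter G, (χ : G → ℂ) v = (wv χ : ℂ))
    (hwg : ∀ χ : IrrCharacter G, (χ : G → ℂ) g = (wg χ : ℂ)) :
    ∃ n : ℕ, n ≤ cent g ∧
      (∑ χ, wg χ * (wv χ * wv χ) * ((95040 / deg χ : ℕ) : ℤ) : ℤ) =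
        ((cent v * cent v : ℕ) : ℤ) * n := by
  set S := (CfsgLib.CharIntegral.classFinset v).filter fun a => IsConj (a * g) v
  refine ⟨S.card, ?_, ?_⟩
  · have hinv : ∀ a ∈ S, a * a = 1 ∧ a * g * a = g⁻¹ := by
      intro a ha
      obtain ⟨ha1, ha2⟩ := Finset.mem_filter.1 ha
      obtain ⟨c, rfl⟩ := isConj_iff.1 (CfsgLib.CharIntegral.mem_classFinset.1 ha1)
      obtain ⟨d, hd⟩ := isConj_iff.1 ha2.symm
      have hvv : v * v = 1 := by rw [← pow_two, ← hv]; exact pow_orderOf_eq_one v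
      have h1 : c * v * c⁻¹ * (c * v * c⁻¹) = 1 := by rw [conj_mul, hvv]; simp
      refine ⟨h1, ?_⟩
      have h2 : c * v * c⁻¹ * g * (c * v * c⁻¹ * g) = 1 := by rw [← hd, conj_mul, hvv]; simp
      exact eq_inv_of_mul_eq_one_left (by simpa [mul_assoc] using h2)
    rcases S.eq_empty_or_nonempty with h | ⟨a0, ha0⟩
    · simp [h]
    refine le_of_le_of_eq (Finset.card_le_card_of_injOn (fun a => a0 * a) (t := Finset.univ.filter
      fun c => c ∈ Subgroup.centralizer ({g} : Set G)) (fun a ha => ?_)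
      fun a _ b _ h => mul_left_cancel h) ?_
    · obtain ⟨h1, h2⟩ := hinv a0 ha0
      obtain ⟨h3, h4⟩ := hinv a ha
      refine Finset.mem_filter.2 ⟨Finset.mem_univ _, Subgroup.mem_centralizer_singleton_iff.2 ?_⟩
      have ha0i : a0⁻¹ = a0 := inv_eq_of_mul_eq_one_left h1
      have hai : a⁻¹ = a := inv_eq_of_mul_eq_one_left h3
      calc a0 * a * g = a0 * (a * g * a) * a := by rw [show a0 * (a * g * a) * a = a0 * a * g * (a * a) by group, h3, mul_one]
        _ = a0 * g⁻¹ * a := by rw [h4]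
        _ = a0 * (a0 * g * a0) * a := by rw [h2]
        _ = g * (a0 * a) := by rw [show a0 * (a0 * g * a0) * a = a0 * a0 * g * (a0 * a) by group, h1, one_mul]
    · rw [cent, Nat.card_eq_fintype_card, Fintype.card_subtype]
  · have h : ∀ x, ∑ χ : IrrCharacter G, (χ : G → ℂ) x * conj ((χ : G → ℂ) v) =
        if IsConj x v then (cent v : ℂ) else 0 := fun x => by
      rw [column_orthogonality]
      split_ifs with hc
      · obtain ⟨c, hc'⟩ := isConj_iff.1 hc
        show ((cent x : ℕ) : ℂ) = ((cent v : ℕ) : ℂ)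
        congr 1
        refine Nat.card_congr ((MulAut.conj c).toEquiv.subtypeEquiv fun y => ?_)
        simp only [Subgroup.mem_centralizer_singleton_iff, MulEquiv.toEquiv_eq_coe,
          MulEquiv.coe_toEquiv, MulAut.conj_apply, ← hc', conj_mul]
        exact ⟨fun e => by rw [e], fun e => mul_left_cancel (mul_right_cancel e)⟩
      · rfl
    have hsum : ∑ a ∈ CfsgLib.CharIntegral.classFinset v,
        ∑ χ : IrrCharacter G, (χ : G → ℂ) (a * g) * conj ((χ : G → ℂ) v) =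
          (cent v : ℂ) * S.card := by
      simp only [h]
      rw [← Finset.sum_filter, Finset.sum_const, nsmul_eq_mul, mul_comm]
    rw [Finset.sum_comm] at hsum
    simp only [← Finset.sum_mul, Order7920.sum_class_mul, hwv, hwg, deg_cast, map_intCast] at hsum
    have hK : ((Subgroup.centralizer ({v} : Set G)).index : ℂ) * (cent v : ℂ) = 95040 := by
      exact_mod_cast (mul_comm _ _).trans (cent_mul_index hG v)
    apply Int.cast_injective (α := ℂ)
    push_cast
    have hterm : ∀ χ : IrrCharacter G,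
        (wg χ : ℂ) * ((wv χ : ℂ) * (wv χ : ℂ)) * ((95040 / deg χ : ℕ) : ℂ) =
        (cent v : ℂ) * (((Subgroup.centralizer ({v} : Set G)).index : ℂ) * (wv χ : ℂ) /
          (deg χ : ℂ) * (wg χ : ℂ) * (wv χ : ℂ)) := fun χ => by
      rw [Nat.cast_div (deg_facts hG χ).1 (Nat.cast_ne_zero.2 (charDegree_pos χ).ne'),
        Nat.cast_ofNat, ← hK]
      ring
    rw [Finset.sum_congr rfl fun χ _ => ?_, ← Finset.mul_sum, hsum]
    · ring
    · have h95 : (((95040 : ℤ) / (deg χ : ℤ) : ℤ) : ℂ) = ((95040 / deg χ : ℕ) : ℂ) := by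
        rw [← Int.cast_natCast (95040 / deg χ), Int.natCast_div]; norm_num
      rw [h95]
      exact hterm χ

variable [IsSimpleGroup G] (hG : Nat.card G = 95040)
include hG

omit [Fintype G] [IsSimpleGroup G] hG in
theorem five_powers {x n : G} (hx : orderOf x = 5) (hnx : n * x * n⁻¹ = x ^ 2) :
    ∀ k, 0 < k → k < 5 → IsConj (x ^ k) x := by
  have h1 : IsConj x (x ^ 2) := isConj_iff.2 ⟨n, hnx⟩
  have h2 : IsConj (x ^ 2) (x ^ 4) := isConj_iff.2 ⟨n, by rw [← conj_pow, hnx, ← pow_mul]⟩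
  have h3 : IsConj (x ^ 4) (x ^ 3) := isConj_iff.2 ⟨n, by
    rw [← conj_pow, hnx, ← pow_mul, ← pow_mod_orderOf, hx]⟩
  intro k hk hk5
  interval_cases k
  · rw [pow_one]
  · exact h1.symm
  · exact ((h1.trans h2).trans h3).symm
  · exact (h1.trans h2).symm

omit [Fintype G] [IsSimpleGroup G] hG in
theorem ten_powers {x v n : G} (hx : orderOf x = 5) (hv : orderOf v = 2) (hxv : Commute x v)
    (hnx : n * x * n⁻¹ = x ^ 2) (hnv : n * v * n⁻¹ = v) :
    orderOf (x * v) = 10 ∧ (x * v) ^ 6 = x ∧ (x * v) ^ 5 = v ∧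
    ∀ m, (m % 10 = 1 ∨ m % 10 = 3 ∨ m % 10 = 7 ∨ m % 10 = 9) → IsConj ((x * v) ^ m) (x * v) := by
  have hq : orderOf (x * v) = 10 := by
    rw [hxv.orderOf_mul_eq_mul_orderOf_of_coprime (by rw [hx, hv]; norm_num), hx, hv]
  have hv2 : v ^ 2 = 1 := by rw [← hv]; exact pow_orderOf_eq_one _
  have hx5 : x ^ 5 = 1 := by rw [← hx]; exact pow_orderOf_eq_one x
  refine ⟨hq, ?_, ?_, ?_⟩
  · rw [hxv.mul_pow, show x ^ 6 = x by rw [pow_succ, hx5, one_mul],
      show v ^ 6 = 1 by rw [show (6 : ℕ) = 2 * 3 from rfl, pow_mul, hv2, one_pow], mul_one]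
  · rw [hxv.mul_pow, hx5, one_mul, show (5 : ℕ) = 2 * 2 + 1 from rfl, pow_succ, pow_mul,
      hv2, one_pow, one_mul]
  have hnq : n * (x * v) * n⁻¹ = (x * v) ^ 7 := by
    rw [hxv.mul_pow, show x ^ 7 = x ^ 2 by rw [show (7 : ℕ) = 5 + 2 from rfl, pow_add, hx5, one_mul],
      show v ^ 7 = v by
        rw [show (7 : ℕ) = 2 * 3 + 1 from rfl, pow_succ, pow_mul, hv2, one_pow, one_mul],
      ← hnx]
    nth_rewrite 2 [← hnv]
    group
  intro m hm
  have h1 : IsConj (x * v) ((x * v) ^ 7) := isConj_iff.2 ⟨n, hnq⟩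
  have h2 : IsConj ((x * v) ^ 7) ((x * v) ^ 9) := isConj_iff.2 ⟨n, by
    rw [← conj_pow, hnq, ← pow_mul, ← pow_mod_orderOf, hq]⟩
  have h3 : IsConj ((x * v) ^ 9) ((x * v) ^ 3) := isConj_iff.2 ⟨n, by
    rw [← conj_pow, hnq, ← pow_mul, ← pow_mod_orderOf, hq]⟩
  rw [← pow_mod_orderOf, hq]
  rcases hm with h | h | h | h <;> rw [h]
  · rw [pow_one]
  · exact ((h1.trans h2).trans h3).symm
  · exact h1.symm
  · exact (h1.trans h2).symm

omit [Fintype G] [IsSimpleGroup G] hG in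
/-- Five nonzero pairs of equal parity with square sums five and inner product `±1`. -/
theorem all_units {ι : Type*} [DecidableEq ι] {R : Finset ι} {a b : ι → ℤ} {c : ℤ}
    (ha : ∀ i ∈ R, a i ≠ 0) (hpar : ∀ i ∈ R, (2 : ℤ) ∣ a i - b i)
    (h1 : ∑ i ∈ R, a i * a i = 5) (h2 : ∑ i ∈ R, b i * b i = 5)
    (h3 : ∑ i ∈ R, a i * b i = c) (hc : c = 1 ∨ c = -1) :
    R.card = 5 ∧ ∀ i ∈ R, (a i = 1 ∨ a i = -1) ∧ (b i = 1 ∨ b i = -1) := by
  have hone : ∀ x : ℤ, x ≠ 0 → 1 ≤ x * x := fun x hx => by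
    rcases (by omega : 1 ≤ x ∨ x ≤ -1) with h | h <;> nlinarith
  have hA : ∀ i ∈ R, a i * a i = 1 := by
    by_contra hno
    push Not at hno
    obtain ⟨i, hi, hne⟩ := hno
    have h4 : a i * a i ≤ 5 := h1 ▸ Finset.single_le_sum
      (fun j _ => mul_self_nonneg (a j)) hi
    have hi2 : a i = 2 ∨ a i = -2 := by
      have hb : -2 ≤ a i ∧ a i ≤ 2 := ⟨by nlinarith, by nlinarith⟩
      have := ha i hi
      rcases (by omega : a i = -2 ∨ a i = -1 ∨ a i = 1 ∨ a i = 2) with h | h | h | h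
      · exact Or.inr h
      · exact absurd (by rw [h]; norm_num) hne
      · exact absurd (by rw [h]; norm_num) hne
      · exact Or.inl h
    rw [← Finset.add_sum_erase _ _ hi, show a i * a i = 4 by rcases hi2 with h | h <;> rw [h] <;> norm_num] at h1
    have hcard : (R.erase i).card ≤ 1 := by
      have h5 := Finset.card_nsmul_le_sum (R.erase i) (fun j => a j * a j) 1
        fun j hj => hone _ (ha j (Finset.mem_of_mem_erase hj))
      simp only [nsmul_eq_mul, mul_one] at h5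
      omega
    rcases Nat.le_one_iff_eq_zero_or_eq_one.1 hcard with h | h
    · rw [Finset.card_eq_zero] at h
      rw [h, Finset.sum_empty] at h1
      norm_num at h1
    obtain ⟨j, hj⟩ := Finset.card_eq_one.1 h
    have hjR : j ∈ R := Finset.mem_of_mem_erase (hj ▸ Finset.mem_singleton_self j)
    rw [hj, Finset.sum_singleton] at h1
    rw [← Finset.add_sum_erase _ _ hi, hj, Finset.sum_singleton] at h2 h3
    have haj : a j = 1 ∨ a j = -1 := by
      have hb : -1 ≤ a j ∧ a j ≤ 1 := ⟨by nlinarith, by nlinarith⟩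
      have := ha j hjR
      omega
    have p1 := hpar i hi
    have p2 := hpar j hjR
    have hbi : -2 ≤ b i ∧ b i ≤ 2 := ⟨by nlinarith, by nlinarith⟩
    have hbj : -2 ≤ b j ∧ b j ≤ 2 := ⟨by nlinarith, by nlinarith⟩
    rcases (by omega : b i = -2 ∨ b i = 0 ∨ b i = 2) with e | e | e <;>
      rcases (by omega : b j = -1 ∨ b j = 1) with e' | e' <;>
      rcases hi2 with e2 | e2 <;> rcases haj with e3 | e3 <;> rcases hc with e4 | e4 <;>
      simp [e, e', e2, e3, e4] at h2 h3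
  have hcard : R.card = 5 := by
    rw [Finset.sum_congr rfl hA, Finset.sum_const, nsmul_eq_mul, mul_one] at h1
    exact_mod_cast h1
  refine ⟨hcard, fun i hi => ⟨mul_self_eq_one_iff.1 (hA i hi), ?_⟩⟩
  have hbodd : ∀ j ∈ R, b j ≠ 0 := fun j hj e => by
    have := hpar j hj
    rcases mul_self_eq_one_iff.1 (hA j hj) with h | h <;> omega
  have hi1 := hone _ (hbodd i hi)
  have hrest := Finset.card_nsmul_le_sum (R.erase i) (fun j => b j * b j) 1
    fun j hj => hone _ (hbodd j (Finset.mem_of_mem_erase hj))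
  simp only [nsmul_eq_mul, mul_one, Finset.card_erase_of_mem hi, hcard] at hrest
  rw [← Finset.add_sum_erase _ _ hi] at h2
  refine mul_self_eq_one_iff.1 ?_
  push_cast at hrest
  omega

/-- The data on the characters of degree eleven. -/
structure DegData {z : G} {D : ElevenData z} (F : FiveData D) where
  c1 : IrrCharacter G
  c2 : IrrCharacter G
  ne : c1 ≠ c2
  d1 : deg c1 = 11
  d2 : deg c2 = 11
  only : ∀ χ : IrrCharacter G, deg χ = 11 → χ = c1 ∨ χ = c2
  real : ∀ χ : IrrCharacter G, deg χ = 11 → ∀ g, ((χ : G → ℂ) g).im = 0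
  val_x : ∀ χ : IrrCharacter G, deg χ = 11 → (χ : G → ℂ) F.x = 1
  val_xv : ∀ χ : IrrCharacter G, deg χ = 11 → (χ : G → ℂ) (F.x * F.v) = -1

omit [IsSimpleGroup G] in
/-- The squares of the irreducible character degrees fill the order. -/
theorem sum_deg_sq [Fintype (IrrCharacter G)] : ∑ χ : IrrCharacter G, deg χ * deg χ = 95040 := by
  have h := sum_sq_degree (G := G)
  rw [hG] at h
  simp only [deg_cast] at h
  have h' : ∑ ψ : IrrCharacter G, deg ψ ^ 2 = 95040 := by exact_mod_cast h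
  simpa [pow_two] using h'

omit [IsSimpleGroup G] in
/-- The number of involutions, from two classes. -/
theorem sqrt_count {v t : G} (hv : orderOf v = 2) (ht : orderOf t = 2) (hcv : cent v = 240)
    (hct : cent t = 192) : 892 ≤ Nat.card {s : G // s * s = 1} := by
  have hK : ∀ g : G, (CfsgLib.CharIntegral.classFinset g).card * cent g = 95040 := fun g => by
    rw [CfsgLib.CharIntegral.card_classFinset, mul_comm]
    exact cent_mul_index hG g
  have h1 := hK v
  have h2 := hK t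
  rw [hcv] at h1
  rw [hct] at h2
  have hsq : ∀ g : G, orderOf g = 2 → ∀ a ∈ CfsgLib.CharIntegral.classFinset g,
      a * a = 1 ∧ a ≠ 1 ∧ cent a = cent g := fun g hg a ha => by
    obtain ⟨c, rfl⟩ := isConj_iff.1 (CfsgLib.CharIntegral.mem_classFinset.1 ha)
    refine ⟨by rw [conj_mul, ← pow_two, ← hg, pow_orderOf_eq_one]; simp,
      fun e => by rw [mul_inv_eq_one] at e; rw [mul_left_cancel (e.trans (mul_one c).symm), orderOf_one] at hg; omega, ?_⟩
    refine (Nat.card_congr ((MulAut.conj c).toEquiv.subtypeEquiv fun y => ?_)).symm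
    simp only [Subgroup.mem_centralizer_singleton_iff, MulEquiv.toEquiv_eq_coe,
      MulEquiv.coe_toEquiv, MulAut.conj_apply, conj_mul]
    exact ⟨fun e => by rw [e], fun e => mul_left_cancel (mul_right_cancel e)⟩
  set A := insert (1 : G)
    (CfsgLib.CharIntegral.classFinset v ∪ CfsgLib.CharIntegral.classFinset t) with hA
  have hcard : A.card = 892 := by
    rw [hA, Finset.card_insert_of_notMem, Finset.card_union_of_disjoint]
    · omega
    · refine Finset.disjoint_left.2 fun a h1 h2 => ?_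
      have := (hsq v hv a h1).2.2.symm.trans (hsq t ht a h2).2.2
      omega
    · intro h
      rcases Finset.mem_union.1 h with h | h
      · exact (hsq v hv 1 h).2.1 rfl
      · exact (hsq t ht 1 h).2.1 rfl
  rw [Nat.card_eq_fintype_card, Fintype.card_subtype, ← hcard]
  refine Finset.card_le_card fun a ha => Finset.mem_filter.2 ⟨Finset.mem_univ _, ?_⟩
  rcases Finset.mem_insert.1 ha with rfl | ha
  · exact one_mul 1
  · rcases Finset.mem_union.1 ha with h | h
    · exact (hsq v hv a h).1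
    · exact (hsq t ht a h).1

omit [IsSimpleGroup G] hG in
/-- An exceptional character is not real. -/
theorem exceptional_not_real {z : G} (D : ElevenData z) :
    ∀ θ ∈ D.Y, ∃ g, ((θ : G → ℂ) g).im ≠ 0 := by
  have := Fintype.ofFinite (IrrCharacter G)
  have hXr : ∀ χ ∈ D.X, ((χ : G → ℂ) z).im = 0 := fun χ hχ => by rw [D.valX χ hχ]; simp
  have key : ∃ θ ∈ D.Y, ((θ : G → ℂ) z).im ≠ 0 := by
    by_contra hno
    push Not at hno
    have h := column_orthogonality z z⁻¹
    rw [if_neg D.notReal] at h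
    have hall : ∀ χ : IrrCharacter G, ((χ : G → ℂ) z).im = 0 := fun χ => by
      by_cases hd : 11 ∣ deg χ
      · rw [D.val0 χ hd]; simp
      · rcases Finset.mem_union.1 ((D.iff χ).1 hd) with h | h
        · exact hXr χ h
        · exact hno χ h
    have hre := congrArg Complex.re h
    rw [Complex.re_sum, Complex.zero_re] at hre
    have hterm : ∀ χ : IrrCharacter G, ((χ : G → ℂ) z * conj ((χ : G → ℂ) z⁻¹)).re =
        ((χ : G → ℂ) z).re * ((χ : G → ℂ) z).re := fun χ => by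
      rw [IsIrr.map_inv χ.2, Complex.conj_conj, Complex.mul_re, hall χ, mul_zero, sub_zero]
    simp only [hterm] at hre
    have h1 := (Finset.sum_eq_zero_iff_of_nonneg fun χ _ => mul_self_nonneg _).1 hre
      (trivChar G) (Finset.mem_univ _)
    rw [trivChar_apply] at h1
    simp at h1
  obtain ⟨θ0, hθ0, him⟩ := key
  intro θ hθ
  have hc : conjIrr θ0 ∈ D.Y ∧ conjIrr θ0 ≠ θ0 := by
    refine ⟨?_, fun e => him ((conjIrr_eq_iff θ0).1 e z)⟩
    have hd : deg (conjIrr θ0) = deg θ0 := by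
      refine charDegree_eq ?_
      show conj ((θ0 : G → ℂ) 1) = _
      rw [deg_cast, map_natCast]
    rcases Finset.mem_union.1 ((D.iff (conjIrr θ0)).1
      (by rw [hd]; exact (D.iff θ0).2 (Finset.mem_union_right _ hθ0))) with h | h
    · have h1 := hXr _ h
      change (conj ((θ0 : G → ℂ) z)).im = 0 at h1
      rw [Complex.conj_im, neg_eq_zero] at h1
      exact absurd h1 him
    · exact h
  have h2 : θ = θ0 ∨ θ = conjIrr θ0 := by
    by_contra hno
    push Not at hno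
    have h3 : ({θ, θ0, conjIrr θ0} : Finset (IrrCharacter G)) ⊆ D.Y := by
      intro a ha
      simp only [Finset.mem_insert, Finset.mem_singleton] at ha
      rcases ha with rfl | rfl | rfl <;> first | assumption | exact hc.1
    have h4 := Finset.card_le_card h3
    rw [Finset.card_insert_of_notMem (by simp [hno.1, hno.2]), Finset.card_pair hc.2.symm,
      D.cardY] at h4
    omega
  rcases h2 with rfl | rfl
  · exact ⟨z, him⟩
  · refine ⟨z, ?_⟩
    show (conj ((θ0 : G → ℂ) z)).im ≠ 0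
    rwa [Complex.conj_im, neg_ne_zero]

omit [IsSimpleGroup G] hG in
/-- The seven characters of the principal block at eleven and the others. -/
theorem sum_split [Fintype (IrrCharacter G)] {z : G} {D : ElevenData z} (F : FiveData D) {M : Type*}
    [AddCommMonoid M] (f : IrrCharacter G → M) :
    ∑ χ, f χ = f (trivChar G) + f F.a45 + f F.a54 + f F.a120 + f F.a144 + (f F.b1 + f F.b2) +
      ∑ χ ∈ Finset.univ.filter (fun χ : IrrCharacter G => 11 ∣ deg χ), f χ := by
  have h : (Finset.univ : Finset (IrrCharacter G)) =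
      (D.X ∪ D.Y) ∪ Finset.univ.filter (fun χ : IrrCharacter G => 11 ∣ deg χ) := by
    refine (Finset.eq_univ_of_forall fun χ => ?_).symm
    by_cases hd : 11 ∣ deg χ
    · exact Finset.mem_union_right _ (Finset.mem_filter.2 ⟨Finset.mem_univ _, hd⟩)
    · exact Finset.mem_union_left _ ((D.iff χ).1 hd)
  conv_lhs => rw [h]
  rw [Finset.sum_union (Finset.disjoint_left.2 fun χ h1 h2 =>
      (D.iff χ).2 h1 (Finset.mem_filter.1 h2).2), Finset.sum_union D.disj, F.hX, F.hY,
    Finset.sum_pair F.hne]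
  congr 2
  have hd : ∀ {a b : IrrCharacter G}, deg a ≠ deg b → a ≠ b := fun h e => h (by rw [e])
  have := deg_trivChar (G := G)
  rw [Finset.sum_insert, Finset.sum_insert, Finset.sum_insert, Finset.sum_pair]
  · simp only [add_assoc]
  · exact hd (by rw [F.d120, F.d144]; omega)
  all_goals
    simp only [Finset.mem_insert, Finset.mem_singleton, not_or]
    refine ⟨?_, ?_⟩
    all_goals (first | exact hd (by rw [F.d54, F.d120]; omega) | skip)
    all_goals (first | exact hd (by rw [F.d54, F.d144]; omega) | skip)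
    all_goals (first | exact hd (by rw [F.d45, F.d54]; omega) | skip)
    all_goals (first | exact ⟨hd (by rw [F.d45, F.d120]; omega), hd (by rw [F.d45, F.d144]; omega)⟩ | skip)
    all_goals (first | exact hd (by rw [this, F.d45]; omega) | skip)
    all_goals (first | exact ⟨hd (by rw [this, F.d54]; omega), hd (by rw [this, F.d120]; omega), hd (by rw [this, F.d144]; omega)⟩ | skip)

/-- The data exists. -/
theorem exists_degData {z : G} {D : ElevenData z} (F : FiveData D) : Nonempty (DegData F) := by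
  have := Fintype.ofFinite (IrrCharacter G)
  obtain ⟨hq, hq6, hq5, hqk⟩ := ten_powers F.hx F.hv F.hxv F.hnx F.hnv
  set q := F.x * F.v with hqdef
  have hxk := five_powers F.hx F.hnx
  have hcl : ∀ (χ : IrrCharacter G) {a b : G}, IsConj a b →
      (χ : G → ℂ) a = (χ : G → ℂ) b := fun χ a b hab => by
    obtain ⟨c, hc⟩ := isConj_iff.1 hab
    have h3 := IsIrr.isClassFunction χ.2 a c
    rw [hc] at h3
    exact h3.symm
  have hxint : ∀ χ : IrrCharacter G, ∃ u : ℤ, (χ : G → ℂ) F.x = (u : ℂ) := fun χ =>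
    exists_int_value χ fun m hm => by
      rw [← pow_mod_orderOf, F.hx]
      refine hxk _ (Nat.pos_of_ne_zero fun h0 => ?_) (Nat.mod_lt _ (by norm_num))
      rw [F.hx] at hm
      have := Nat.eq_one_of_dvd_coprimes hm (Nat.dvd_of_mod_eq_zero h0) dvd_rfl
      omega
  have hqint : ∀ χ : IrrCharacter G, ∃ u : ℤ, (χ : G → ℂ) q = (u : ℂ) := fun χ =>
    exists_int_value χ fun m hm => hqk m (by
      rw [hq] at hm
      have h2 : ¬ 2 ∣ m := fun h => by
        have := Nat.eq_one_of_dvd_coprimes hm h (by norm_num)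
        omega
      have h5 : ¬ 5 ∣ m := fun h => by
        have := Nat.eq_one_of_dvd_coprimes hm h (by norm_num)
        omega
      omega)
  choose wx hwx using hxint
  choose wq hwq using hqint
  choose wv hwv hwv4 hwvlt using fun χ => value_involution hG F.hv χ
  have hclq : ∀ (χ : IrrCharacter G) (m : ℕ), m % 10 = 1 ∨ m % 10 = 3 ∨ m % 10 = 7 ∨ m % 10 = 9 →
      (χ : G → ℂ) (q ^ m) = (wq χ : ℂ) := fun χ m hm => (hcl χ (hqk m hm)).trans (hwq χ)
  have hcong5 : ∀ χ : IrrCharacter G, (5 : ℤ) ∣ wv χ - wq χ := fun χ => by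
    have h := value_congr (p := 5) (A := 6) (B := 5) (by norm_num) (g := q) (by rw [hq]; norm_num) χ
      (u := wq χ) (v := wv χ) (fun k h1 h2 => hclq χ _ (by interval_cases k <;> norm_num))
      (by rw [hq5, hwv])
    exact_mod_cast h
  have hcong2 : ∀ χ : IrrCharacter G, (2 : ℤ) ∣ wx χ - wq χ := fun χ => by
    have h := value_congr (p := 2) (A := 5) (B := 6) (by norm_num) (g := q) (by rw [hq]) χ
      (u := wq χ) (v := wx χ) (fun k h1 h2 => hclq χ _ (by interval_cases k; norm_num))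
      (by rw [hq6, hwx])
    exact_mod_cast h
  have hcongd : ∀ χ : IrrCharacter G, (5 : ℤ) ∣ (deg χ : ℤ) - wx χ := fun χ => by
    have h := value_congr (p := 5) (A := 1) (B := 0) (by norm_num) (g := F.x) (by rw [F.hx]) χ
      (u := wx χ) (v := (deg χ : ℤ))
      (fun k h1 h2 => by rw [mul_one, add_zero, hcl χ (hxk k h1 h2), hwx])
      (by rw [pow_zero, deg_cast]; norm_num)
    exact_mod_cast h
  have h5z : ∀ χ : IrrCharacter G, deg χ % 5 = 0 → wx χ = 0 ∧ wq χ = 0 := fun χ hd => by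
    have hd' : 5 ^ 1 ∣ deg χ := by simpa using Nat.dvd_of_mod_eq_zero hd
    have a := vanish hG (p := 5) (n := 1) (by norm_num) (by norm_num) (by norm_num) hd'
      (x := F.x) (by rw [F.hx])
    have b := vanish hG (p := 5) (n := 1) (by norm_num) (by norm_num) (by norm_num) hd'
      (x := q) (by rw [hq]; norm_num)
    rw [hwx] at a
    rw [hwq] at b
    exact ⟨by exact_mod_cast a, by exact_mod_cast b⟩
  have cast_eq : ∀ {a b : ℤ}, (a : ℂ) = (b : ℂ) → a = b := fun h => by exact_mod_cast h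
  -- the known characters
  have x54 : wx F.a54 = -1 := cast_eq (by rw [← hwx, F.x54]; norm_num)
  have x144 : wx F.a144 = -1 := cast_eq (by rw [← hwx, F.x144]; norm_num)
  have hb1Y : F.b1 ∈ D.Y := by rw [F.hY]; exact Finset.mem_insert_self _ _
  have hb2Y : F.b2 ∈ D.Y := by rw [F.hY]; exact Finset.mem_insert_of_mem (Finset.mem_singleton_self _)
  have x1 : wx F.b1 = 1 := cast_eq (by rw [← hwx, F.x16 _ hb1Y]; norm_num)
  have x2 : wx F.b2 = 1 := cast_eq (by rw [← hwx, F.x16 _ hb2Y]; norm_num)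
  have v45 : wv F.a45 = 5 := cast_eq (by rw [← hwv, F.v45]; norm_num)
  have v54 : wv F.a54 = 6 := cast_eq (by rw [← hwv, F.v54]; norm_num)
  have v120 : wv F.a120 = 0 := cast_eq (by rw [← hwv, F.v120]; norm_num)
  have v144 : wv F.a144 = F.u := cast_eq (by rw [← hwv, F.v144])
  have v1 : wv F.b1 = F.u := cast_eq (by rw [← hwv, F.v16 _ hb1Y])
  have v2 : wv F.b2 = F.u := cast_eq (by rw [← hwv, F.v16 _ hb2Y])
  have xt : wx (trivChar G) = 1 := cast_eq (by rw [← hwx, trivChar_apply]; norm_num)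
  have qt : wq (trivChar G) = 1 := cast_eq (by rw [← hwq, trivChar_apply]; norm_num)
  have vt : wv (trivChar G) = 1 := cast_eq (by rw [← hwv, trivChar_apply]; norm_num)
  obtain ⟨x45, q45⟩ := h5z F.a45 (by rw [F.d45])
  obtain ⟨x120, q120⟩ := h5z F.a120 (by rw [F.d120])
  set E := Finset.univ.filter fun χ : IrrCharacter G => 11 ∣ deg χ with hE
  set R := E.filter fun χ : IrrCharacter G => deg χ % 5 ≠ 0 with hR
  have hzero : ∀ (f : IrrCharacter G → ℤ), (∀ χ, deg χ % 5 = 0 → f χ = 0) →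
      ∑ χ ∈ E, f χ = ∑ χ ∈ R, f χ := fun f hf => by
    rw [hR]
    refine (Finset.sum_filter_of_ne (p := fun χ : IrrCharacter G => deg χ % 5 ≠ 0) ?_).symm
    exact fun χ _ hne h => hne (hf χ h)
  have hnorm_q : ∑ χ, wq χ * wq χ = 10 := by
    rw [orth_int hwq hwq, if_pos (IsConj.refl q)]
    exact congrArg Nat.cast F.cent_xv
  have hnorm_x : ∑ χ, wx χ * wx χ = 10 := by
    rw [orth_int hwx hwx, if_pos (IsConj.refl _)]
    exact congrArg Nat.cast F.cent_x
  have hne_order : ∀ {a b : G}, orderOf a ≠ orderOf b → ¬ IsConj a b := fun h hc => by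
    obtain ⟨c, rfl⟩ := isConj_iff.1 hc
    exact h (by rw [Order7920.orderOf_conj_eq'])
  have hxq : ∑ χ, wx χ * wq χ = 0 := by
    rw [orth_int hwx hwq, if_neg (hne_order (by rw [F.hx, hq]; norm_num))]
  have hxv0 : ∑ χ, wx χ * wv χ = 0 := by
    rw [orth_int hwx hwv, if_neg (hne_order (by rw [F.hx, F.hv]; norm_num))]
  have hqv0 : ∑ χ, wq χ * wv χ = 0 := by
    rw [orth_int hwq hwv, if_neg (hne_order (by rw [F.hv, hq]; norm_num))]
  have hone : ∀ χ : IrrCharacter G, (χ : G → ℂ) 1 = (((deg χ : ℕ) : ℤ) : ℂ) := fun χ => by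
    rw [deg_cast]; norm_num
  have hx10 : ∑ χ, wx χ * (deg χ : ℤ) = 0 := by
    rw [orth_int hwx hone, if_neg (hne_order (by rw [F.hx, orderOf_one]; norm_num))]
  have hq10 : ∑ χ, wq χ * (deg χ : ℤ) = 0 := by
    rw [orth_int hwq hone, if_neg (hne_order (by rw [hq, orderOf_one]; norm_num))]
  -- the values at `x v` of the known characters
  have hoddq : ∀ {χ : IrrCharacter G}, (wx χ = 1 ∨ wx χ = -1) → wq χ ≠ 0 ∧ wq χ % 2 ≠ 0 := fun {χ} h => by
    have := hcong2 χ
    rcases h with h | h <;> rw [h] at this <;> constructor <;> omega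
  have hbound : ∀ {S : Finset (IrrCharacter G)}, ∑ χ ∈ S, wq χ * wq χ ≤ 10 := fun {S} =>
    hnorm_q ▸ Finset.sum_le_sum_of_subset_of_nonneg (Finset.subset_univ S)
      fun χ _ _ => mul_self_nonneg _
  have hsmall : ∀ {χ : IrrCharacter G}, -3 ≤ wq χ ∧ wq χ ≤ 3 := fun {χ} => by
    have h := hbound (S := {χ})
    rw [Finset.sum_singleton] at h
    exact ⟨by nlinarith, by nlinarith⟩
  have q54 : wq F.a54 = 1 := by
    have := hcong5 F.a54
    rw [v54] at this
    have := hoddq (Or.inr x54)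
    have := hsmall (χ := F.a54)
    omega
  have hqu : ∀ χ : IrrCharacter G, (wx χ = 1 ∨ wx χ = -1) → wv χ = F.u →
      (F.u = 4 ∧ wq χ = -1 ∨ F.u = -4 ∧ wq χ = 1) := fun χ h1 h2 => by
    have := hcong5 χ
    rw [h2] at this
    have := hoddq h1
    have := hsmall (χ := χ)
    rcases F.hu with e | e <;> omega
  have hq144 := hqu _ (Or.inr x144) v144
  have hq1 := hqu _ (Or.inl x1) v1
  have hq2 := hqu _ (Or.inl x2) v2
  -- the further characters
  have hRmem : ∀ χ ∈ R, 11 ∣ deg χ ∧ deg χ % 5 ≠ 0 := fun χ hχ =>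
    ⟨(Finset.mem_filter.1 (Finset.mem_filter.1 hχ).1).2, (Finset.mem_filter.1 hχ).2⟩
  have hRx : ∀ χ ∈ R, wx χ ≠ 0 := fun χ hχ e => by
    have := hcongd χ
    have := (hRmem χ hχ).2
    rw [e] at *
    omega
  obtain ⟨hR5, hRu⟩ := all_units (R := R) (a := wx) (b := wq)
    (c := if F.u = 4 then 1 else -1) hRx (fun χ _ => hcong2 χ)
    (by
      have h := hnorm_x
      rw [sum_split F, hzero _ fun χ h => by rw [(h5z χ h).1]; rfl, xt, x45, x54, x120, x144,
        x1, x2] at h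
      linarith)
    (by
      have h := hnorm_q
      rw [sum_split F, hzero _ fun χ h => by rw [(h5z χ h).2]; rfl, qt, q45, q54, q120] at h
      rcases hq144 with ⟨e, a⟩ | ⟨e, a⟩ <;> rcases hq1 with ⟨e1, b⟩ | ⟨e1, b⟩ <;>
        rcases hq2 with ⟨e2, c⟩ | ⟨e2, c⟩ <;> rw [a, b, c] at h <;> linarith)
    (by
      have h := hxq
      rw [sum_split F, hzero _ fun χ h => by rw [(h5z χ h).1, zero_mul], xt, qt, x45, q45, x54,
        q54, x120, q120, x144, x1, x2] at h
      rcases hq144 with ⟨e, a⟩ | ⟨e, a⟩ <;> rcases hq1 with ⟨e1, b⟩ | ⟨e1, b⟩ <;>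
        rcases hq2 with ⟨e2, c⟩ | ⟨e2, c⟩ <;> (try omega) <;> rw [a, b, c] at h <;> rw [e] <;>
        norm_num <;> linarith)
    (by split_ifs <;> simp)
  have hcross : ∑ χ ∈ R, wx χ * wq χ = if F.u = 4 then 1 else -1 := by
    have h := hxq
    rw [sum_split F, hzero _ fun χ h => by rw [(h5z χ h).1, zero_mul], xt, qt, x45, q45, x54,
      q54, x120, q120, x144, x1, x2] at h
    rcases hq144 with ⟨e, a⟩ | ⟨e, a⟩ <;> rcases hq1 with ⟨e1, b⟩ | ⟨e1, b⟩ <;>
      rcases hq2 with ⟨e2, c⟩ | ⟨e2, c⟩ <;> (try omega) <;> rw [a, b, c] at h <;> rw [e] <;>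
      norm_num <;> linarith
  have hRdeg : ∀ χ ∈ R, deg χ ∈ sideDegrees ∧ wx χ = sgnFive (deg χ) := fun χ hχ => by
    have h := hcongd χ
    have h' := (hRu χ hχ).1
    have h11 := (hRmem χ hχ).1
    obtain ⟨hd, hle, -⟩ := deg_facts hG χ
    have hcase : deg χ % 5 = 1 ∧ wx χ = 1 ∨ deg χ % 5 = 4 ∧ wx χ = -1 := by
      rcases h' with e | e <;> rw [e] at h <;> omega
    refine ⟨sideDegree_cases _ (List.mem_range.2 (by omega)) (Nat.mod_eq_zero_of_dvd hd)
      (Nat.mod_eq_zero_of_dvd h11) (hcase.imp And.left And.left), ?_⟩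
    unfold sgnFive
    rcases hcase with ⟨a, b⟩ | ⟨a, b⟩ <;> simp [a, b]
  set RP := R.filter fun χ : IrrCharacter G => wq χ = wx χ with hRP
  set RS := R.filter fun χ : IrrCharacter G => ¬ wq χ = wx χ with hRS
  have hqS : ∀ χ ∈ RS, wq χ = -wx χ := fun χ hχ => by
    obtain ⟨h1, h2⟩ := Finset.mem_filter.1 hχ
    obtain ⟨a, b⟩ := hRu χ h1
    rcases a with a | a <;> rcases b with b | b <;> omega
  have hqP : ∀ χ ∈ RP, wq χ = wx χ := fun χ hχ => (Finset.mem_filter.1 hχ).2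
  have hRsum : ∀ f : IrrCharacter G → ℤ, ∑ χ ∈ R, f χ = ∑ χ ∈ RP, f χ + ∑ χ ∈ RS, f χ :=
    fun f => (Finset.sum_filter_add_sum_filter_not _ _ _).symm
  have hxx : ∀ χ ∈ R, wx χ * wx χ = 1 := fun χ hχ => by
    rcases (hRu χ hχ).1 with e | e <;> rw [e] <;> norm_num
  have hcards : (RP.card : ℤ) + RS.card = 5 ∧
      (RP.card : ℤ) - RS.card = if F.u = 4 then 1 else -1 := by
    refine ⟨?_, ?_⟩
    · have := Finset.card_filter_add_card_filter_not (s := R) fun χ : IrrCharacter G => wq χ = wx χ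
      rw [← hRP, ← hRS, hR5] at this
      exact_mod_cast this
    · rw [← hcross, hRsum, Finset.sum_congr rfl fun χ hχ => by
        rw [hqP χ hχ, hxx χ (Finset.mem_filter.1 hχ).1],
        Finset.sum_congr rfl (fun χ hχ => by
          rw [hqS χ hχ, mul_neg, hxx χ (Finset.mem_filter.1 hχ).1]) (s₁ := RS),
        Finset.sum_const, Finset.sum_const, nsmul_eq_mul, nsmul_eq_mul]
      ring
  -- the pair counts
  obtain ⟨nx, hnx, hTx⟩ := exists_pair_count hG F.hv hwv hwx
  obtain ⟨nq, hnq, hTq⟩ := exists_pair_count hG F.hv hwv hwq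
  rw [F.cent_x] at hnx
  rw [F.cent_xv] at hnq
  set C := cent F.v with hC
  -- the sums over the two sides
  let ty : IrrCharacter G → Ty := fun χ => ⟨deg χ, sgnFive (deg χ), wv χ⟩
  have hw_sum : ∀ S : Finset (IrrCharacter G), S ⊆ R → ∀ L : List Ty,
      (L : Multiset Ty) = S.val.map ty →
      wsum L = ∑ χ ∈ S, wx χ * (wv χ * wv χ) * ((95040 / deg χ : ℕ) : ℤ) := by
    intro S hS L hL
    rw [wsum, ← Multiset.sum_coe, ← Multiset.map_coe, hL, Multiset.map_map]
    exact Finset.sum_congr rfl fun χ hχ => by rw [(hRdeg χ (hS hχ)).2]; rfl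
  have hcf : ∃ c ∈ sideConfs, c.u = F.u ∧ (RP.card = c.np ∧ RS.card = c.ns) ∧
      (c.pa + ∑ χ ∈ RP, wx χ * (deg χ : ℤ) = 0 ∧ c.sa + ∑ χ ∈ RS, wx χ * (deg χ : ℤ) = 0) ∧
      (c.pb + ∑ χ ∈ RP, wx χ * wv χ = 0 ∧ c.sb + ∑ χ ∈ RS, wx χ * wv χ = 0) ∧
      ((c.pw + ∑ χ ∈ RP, wx χ * (wv χ * wv χ) * ((95040 / deg χ : ℕ) : ℤ)) +
        (c.sw + ∑ χ ∈ RS, wx χ * (wv χ * wv χ) * ((95040 / deg χ : ℕ) : ℤ)) =
          ((C * C : ℕ) : ℤ) * nx ∧
      (c.pw + ∑ χ ∈ RP, wx χ * (wv χ * wv χ) * ((95040 / deg χ : ℕ) : ℤ)) -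
        (c.sw + ∑ χ ∈ RS, wx χ * (wv χ * wv χ) * ((95040 / deg χ : ℕ) : ℤ)) =
          ((C * C : ℕ) : ℤ) * nq) := by
    have e1 := hx10
    have e2 := hq10
    have e3 := hxv0
    have e4 := hqv0
    have e5 := hTx
    have e6 := hTq
    rw [sum_split F, hzero _ (fun χ h => by rw [(h5z χ h).1, zero_mul]), hRsum] at e1
    rw [sum_split F, hzero _ (fun χ h => by rw [(h5z χ h).2, zero_mul]), hRsum,
      Finset.sum_congr rfl (fun χ hχ => by rw [hqP χ hχ]) (s₁ := RP),
      Finset.sum_congr rfl (fun χ hχ => by rw [hqS χ hχ, neg_mul]) (s₁ := RS),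
      Finset.sum_neg_distrib] at e2
    rw [sum_split F, hzero _ (fun χ h => by rw [(h5z χ h).1, zero_mul]), hRsum] at e3
    rw [sum_split F, hzero _ (fun χ h => by rw [(h5z χ h).2, zero_mul]), hRsum,
      Finset.sum_congr rfl (fun χ hχ => by rw [hqP χ hχ]) (s₁ := RP),
      Finset.sum_congr rfl (fun χ hχ => by rw [hqS χ hχ, neg_mul]) (s₁ := RS),
      Finset.sum_neg_distrib] at e4
    rw [sum_split F, hzero _ (fun χ h => by rw [(h5z χ h).1]; simp), hRsum] at e5
    rw [sum_split F, hzero _ (fun χ h => by rw [(h5z χ h).2]; simp), hRsum,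
      Finset.sum_congr rfl (fun χ hχ => by rw [hqP χ hχ]) (s₁ := RP),
      Finset.sum_congr rfl (fun χ hχ => by rw [hqS χ hχ, neg_mul, neg_mul]) (s₁ := RS),
      Finset.sum_neg_distrib] at e6
    simp only [xt, qt, vt, x45, q45, x54, q54, x120, q120, x144, x1, x2, v45, v54, v120, v144, v1,
      v2, deg_trivChar, F.d45, F.d54, F.d120, F.d144, F.d1, F.d2] at e1 e2 e3 e4 e5 e6
    rcases hq144 with ⟨e, a⟩ | ⟨e, a⟩ <;> rcases hq1 with ⟨eb, b⟩ | ⟨eb, b⟩ <;>
      rcases hq2 with ⟨ec, c⟩ | ⟨ec, c⟩ <;> (try omega) <;>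
      rw [e] at e3 e4 e5 e6 hcards <;> rw [a, b, c] at e2 e4 e6 <;>
      norm_num at e1 e2 e3 e4 e5 e6 hcards
    · refine ⟨_, List.mem_cons_self, e.symm, ⟨?_, ?_⟩, ⟨?_, ?_⟩, ⟨?_, ?_⟩, ?_, ?_⟩ <;>
        push_cast <;> omega
    · refine ⟨_, List.mem_cons_of_mem _ List.mem_cons_self, e.symm, ⟨?_, ?_⟩, ⟨?_, ?_⟩, ⟨?_, ?_⟩,
        ?_, ?_⟩ <;> push_cast <;> omega
  obtain ⟨cf, hcf, hcu, ⟨hnp, hns⟩, ⟨hpa, hsa⟩, ⟨hpb, hsb⟩, hTP, hTS⟩ := hcf
  have hCmem : C ∈ [120, 240] := by rw [hC]; rcases F.cent_v with e | e <;> rw [e] <;> simp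
  have hC240 : C ≤ 240 := by rcases F.cent_v with e | e <;> omega
  -- budgets
  have hbudget_n : 110 + ∑ χ ∈ RP, (wv χ).natAbs * (wv χ).natAbs +
      ∑ χ ∈ RS, (wv χ).natAbs * (wv χ).natAbs ≤ C := by
    have h := sum_sq_le_cent (g := F.v) (Finset.univ : Finset (IrrCharacter G)) wv
      fun χ _ => hwv χ
    rw [sum_split F, ← hE] at h
    have hsub : ∑ χ ∈ R, (wv χ).natAbs * (wv χ).natAbs ≤
        ∑ χ ∈ E, (wv χ).natAbs * (wv χ).natAbs :=
      Finset.sum_le_sum_of_subset (Finset.filter_subset _ _)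
    rw [← Finset.sum_filter_add_sum_filter_not R fun χ : IrrCharacter G => wq χ = wx χ, ← hRP,
      ← hRS] at hsub
    rw [vt, v45, v54, v120, v144, v1, v2] at h
    rw [← hC] at h
    rcases F.hu with e | e <;> rw [e] at h <;> norm_num at h <;> omega
  have hbudget_d : 40590 + ∑ χ ∈ RP, deg χ * deg χ + ∑ χ ∈ RS, deg χ * deg χ +
      ∑ χ ∈ E.filter (fun χ : IrrCharacter G => ¬ deg χ % 5 ≠ 0), deg χ * deg χ = 95040 := by
    have h := sum_deg_sq hG
    rw [sum_split F, ← Finset.sum_filter_add_sum_filter_not E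
      (fun χ : IrrCharacter G => deg χ % 5 ≠ 0), ← hR,
      ← Finset.sum_filter_add_sum_filter_not R (fun χ : IrrCharacter G => wq χ = wx χ), ← hRP,
      ← hRS, deg_trivChar, F.d45, F.d54, F.d120, F.d144, F.d1, F.d2] at h
    omega
  have hmemR : ∀ χ ∈ R, ∀ σ : ℤ, wq χ = σ * wx χ → ty χ ∈ typesSide C σ := by
    intro χ hχ σ hσ
    obtain ⟨hd, hs⟩ := hRdeg χ hχ
    have hne : χ ≠ trivChar G := fun e => by
      have := (hRmem χ hχ).1
      rw [e, deg_trivChar] at this
      norm_num at this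
    refine mem_typesSide hd hC240 ?_ (hwvlt χ hne) (hwv4 χ) ?_
      (Int.emod_eq_zero_of_dvd (dvd_index_mul hG χ (hwv χ)))
    · have h4 := sum_sq_le_cent (g := F.v) {χ} wv fun ψ _ => hwv ψ
      rwa [Finset.sum_singleton] at h4
    · have h5 := hcong5 χ
      rw [← hs, ← hσ]
      exact Int.emod_eq_zero_of_dvd h5
  have hAP : ∀ (n d : ℕ) (a b : ℤ) (S : Finset (IrrCharacter G)), S ⊆ R →
      (⟨n, d, a, b, 0⟩ : Acc).addAll (S.val.map ty) = ⟨n + ∑ χ ∈ S, (wv χ).natAbs * (wv χ).natAbs,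
        d + ∑ χ ∈ S, deg χ * deg χ, a + ∑ χ ∈ S, wx χ * (deg χ : ℤ), b + ∑ χ ∈ S, wx χ * wv χ,
        ((⟨n, d, a, b, 0⟩ : Acc).addAll (S.val.map ty)).q⟩ := by
    intro n d a b S hS
    rw [addAll_map]
    simp only [ty, Acc.mk.injEq, true_and, and_true]
    exact ⟨congrArg _ (Finset.sum_congr rfl fun χ hχ => by rw [(hRdeg χ (hS hχ)).2]),
      congrArg _ (Finset.sum_congr rfl fun χ hχ => by rw [(hRdeg χ (hS hχ)).2])⟩
  have hRPs : RP ⊆ R := Finset.filter_subset _ _
  have hRSs : RS ⊆ R := Finset.filter_subset _ _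
  obtain ⟨LP, hLP, hfirst⟩ := searchL_sound (search_sides cf hcf C hCmem) (RP.val.map ty)
    (by rw [Multiset.card_map]; exact hnp)
    (fun u hu => by
      obtain ⟨χ, hχ, rfl⟩ := Multiset.mem_map.1 hu
      exact hmemR χ (hRPs hχ) 1 (by rw [one_mul]; exact hqP χ hχ))
    (by rw [hAP _ _ _ _ _ hRPs]; dsimp only; omega) (by rw [hAP _ _ _ _ _ hRPs]; dsimp only; omega)
  rw [Multiset.coe_nil, zero_add] at hLP
  rw [hAP _ _ _ _ _ hRPs] at hfirst
  simp only [finalFirst, hpa, hpb, beq_self_eq_true, Bool.and_self, Bool.not_true, Bool.false_or]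
    at hfirst
  obtain ⟨LS, hLS, hsecond⟩ := searchL_sound hfirst (RS.val.map ty)
    (by rw [Multiset.card_map]; exact hns)
    (fun u hu => by
      obtain ⟨χ, hχ, rfl⟩ := Multiset.mem_map.1 hu
      exact hmemR χ (hRSs hχ) (-1) (by rw [hqS χ hχ]; ring))
    (by rw [hAP _ _ _ _ _ hRSs]; dsimp only; omega) (by rw [hAP _ _ _ _ _ hRSs]; dsimp only; omega)
  rw [Multiset.coe_nil, zero_add] at hLS
  rw [hAP _ _ _ _ _ hRSs] at hsecond
  have hQpos : (0 : ℤ) < ((C * C : ℕ) : ℤ) := by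
    exact_mod_cast Nat.mul_pos (Nat.card_pos (α := Subgroup.centralizer ({F.v} : Set G)))
      (Nat.card_pos (α := Subgroup.centralizer ({F.v} : Set G)))
  simp only [finalSecond, hw_sum RP hRPs LP hLP, hw_sum RS hRSs LS hLS, hsa, hsb, hTP, hTS,
    Int.mul_emod_right, beq_self_eq_true, Bool.and_self, Bool.true_and] at hsecond
  have hb : decide (0 ≤ ((C * C : ℕ) : ℤ) * nx) = true ∧
      decide (((C * C : ℕ) : ℤ) * nx ≤ 10 * ((C * C : ℕ) : ℤ)) = true ∧
      decide (0 ≤ ((C * C : ℕ) : ℤ) * nq) = true ∧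
      decide (((C * C : ℕ) : ℤ) * nq ≤ 10 * ((C * C : ℕ) : ℤ)) = true := by
    simp only [decide_eq_true_eq]
    refine ⟨mul_nonneg hQpos.le (Int.natCast_nonneg _), ?_, mul_nonneg hQpos.le (Int.natCast_nonneg _), ?_⟩ <;>
      rw [mul_comm 10] <;> exact Int.mul_le_mul_of_nonneg_left (by omega) hQpos.le
  simp only [hb, Bool.and_self, Bool.not_true, Bool.false_or, Bool.and_eq_true, Bool.or_eq_true,
    beq_iff_eq, List.isPerm_iff] at hsecond
  obtain ⟨⟨⟨-, hC2⟩, hP⟩, hS⟩ := hsecond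
  have hP' : RP.val.map ty = (solP : Multiset Ty) := hLP.symm.trans (Multiset.coe_eq_coe.2 hP)
  -- the indicator count
  have hdsum : ∀ {S : Finset (IrrCharacter G)} {L : List Ty}, S.val.map ty = (L : Multiset Ty) →
      ∑ χ ∈ S, deg χ = (L.map Ty.d).sum ∧ ∑ χ ∈ S, deg χ * deg χ = (L.map fun u => u.d * u.d).sum := by
    intro S L h
    constructor <;> rw [← Multiset.sum_coe, ← Multiset.map_coe, ← h, Multiset.map_map] <;> rfl
  obtain ⟨hP1, hP2⟩ := hdsum hP'
  set W := E.filter fun χ : IrrCharacter G => ¬ deg χ % 5 ≠ 0 with hW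
  have h55 : ∀ χ ∈ W, 55 * deg χ ≤ deg χ * deg χ := fun χ hχ => by
    obtain ⟨h1, h2⟩ := Finset.mem_filter.1 hχ
    obtain ⟨k, hk⟩ : 55 ∣ deg χ := (by norm_num : Nat.Coprime 5 11).mul_dvd_of_dvd_of_dvd
      (Nat.dvd_of_mod_eq_zero (not_not.1 h2)) (Finset.mem_filter.1 h1).2
    have : 0 < deg χ := charDegree_pos χ
    exact Nat.mul_le_mul_right _ (by omega)
  have hW55 : 55 * ∑ χ ∈ W, deg χ ≤ ∑ χ ∈ W, deg χ * deg χ := by
    rw [Finset.mul_sum]; exact Finset.sum_le_sum h55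
  have hfs : ∀ χ : IrrCharacter G, ∃ e : ℤ, fsInd (χ : G → ℂ) = (e : ℂ) ∧ e ≤ 1 ∧
      ((∃ g, ((χ : G → ℂ) g).im ≠ 0) ↔ e = 0) := fun χ => by
    obtain ⟨n, ρ, hρ, hρc⟩ := χ.2
    have := hρ
    rw [← hρc]
    obtain ⟨h1, h2⟩ := fsInd_trichotomy ρ
    rcases h1 with h | h | h
    · exact ⟨0, by rw [h]; norm_num, by norm_num, iff_of_true (h2.1 h) rfl⟩
    · exact ⟨1, by rw [h]; norm_num, le_rfl, iff_of_false (fun hg => by
        have h3 := h2.2 hg; rw [h] at h3; norm_num at h3) (by norm_num)⟩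
    · exact ⟨-1, by rw [h]; norm_num, by norm_num, iff_of_false (fun hg => by
        have h3 := h2.2 hg; rw [h] at h3; norm_num at h3) (by norm_num)⟩
  choose ν hν hν1 hν0 using hfs
  have hcount : (892 : ℤ) ≤ ∑ χ, ν χ * (deg χ : ℤ) := by
    have h := sqrt_count hG F.hv F.ht hC2 F.cent_t
    have h2 := card_sqrt_eq_sum (G := G) 1
    simp only [hν, deg_cast] at h2
    have h3 : (Nat.card {s : G // s * s = 1} : ℤ) = ∑ χ, ν χ * (deg χ : ℤ) := by
      apply Int.cast_injective (α := ℂ)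
      push_cast
      exact h2
    omega
  have hν16 : ∀ θ ∈ D.Y, ν θ = 0 := fun θ hθ => (hν0 θ).1 (exceptional_not_real D θ hθ)
  rw [sum_split F, hν16 _ hb1Y, hν16 _ hb2Y, ← Finset.sum_filter_add_sum_filter_not E
    (fun χ : IrrCharacter G => deg χ % 5 ≠ 0), ← hR, ← hW] at hcount
  have hle : ∀ χ : IrrCharacter G, ν χ * (deg χ : ℤ) ≤ (deg χ : ℤ) := fun χ =>
    le_of_le_of_eq (Int.mul_le_mul_of_nonneg_right (hν1 χ) (Int.natCast_nonneg _)) (one_mul _)
  have hleS : ∀ S : Finset (IrrCharacter G),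
      ∑ χ ∈ S, ν χ * (deg χ : ℤ) ≤ ((∑ χ ∈ S, deg χ : ℕ) : ℤ) := fun S => by
    push_cast; exact Finset.sum_le_sum fun χ _ => hle χ
  have hRd : ∑ χ ∈ R, deg χ = ∑ χ ∈ RP, deg χ + ∑ χ ∈ RS, deg χ :=
    (Finset.sum_filter_add_sum_filter_not _ _ _).symm
  have k1 := hle (trivChar G); have k45 := hle F.a45; have k54 := hle F.a54
  have k120 := hle F.a120; have k144 := hle F.a144
  have kR := hleS R; have kW := hleS W
  simp only [deg_trivChar, F.d45, F.d54, F.d120, F.d144] at k1 k45 k54 k120 k144 hcount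
  norm_num [solP] at hP1 hP2
  rcases hS with hS | hS
  swap
  · obtain ⟨hS1, hS2⟩ := hdsum (hLS.symm.trans (Multiset.coe_eq_coe.2 hS))
    norm_num [solS'] at hS1 hS2
    omega
  have hS' : RS.val.map ty = (solS : Multiset Ty) := hLS.symm.trans (Multiset.coe_eq_coe.2 hS)
  obtain ⟨hS1, hS2⟩ := hdsum hS'
  norm_num [solS] at hS1 hS2
  have hRSval : ∀ χ ∈ RS, deg χ = 11 := fun χ hχ => by
    have hm : ty χ ∈ (solS : Multiset Ty) := hS' ▸ Multiset.mem_map.2 ⟨χ, hχ, rfl⟩
    simp [solS, ty] at hm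
    exact hm.1
  have honly : ∀ χ : IrrCharacter G, deg χ = 11 → χ ∈ RS := by
    intro χ hd
    have hR' : χ ∈ R := Finset.mem_filter.2 ⟨Finset.mem_filter.2 ⟨Finset.mem_univ _, by rw [hd]⟩,
      by rw [hd]; norm_num⟩
    refine Finset.mem_filter.2 ⟨hR', fun e => ?_⟩
    have hm : ty χ ∈ (solP : Multiset Ty) :=
      hP' ▸ Multiset.mem_map.2 ⟨χ, Finset.mem_filter.2 ⟨hR', e⟩, rfl⟩
    simp [solP, ty, hd] at hm
  have hνR : ∀ χ ∈ R, ν χ ≠ 0 := by
    intro χ hχ e0
    have hlt : ∑ ψ ∈ R, ν ψ * (deg ψ : ℤ) < ((∑ ψ ∈ R, deg ψ : ℕ) : ℤ) := by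
      push_cast
      refine Finset.sum_lt_sum (fun ψ _ => hle ψ) ⟨χ, hχ, ?_⟩
      rw [e0, zero_mul]
      exact_mod_cast charDegree_pos χ
    omega
  obtain ⟨c1, c2, hne, hRSe⟩ := Finset.card_eq_two.1 (show RS.card = 2 by
    have h := congrArg Multiset.card hS'
    rw [Multiset.card_map] at h
    exact h)
  refine ⟨⟨c1, c2, hne, hRSval c1 (by rw [hRSe]; simp), hRSval c2 (by rw [hRSe]; simp),
    fun χ hd => by simpa [hRSe] using honly χ hd, fun χ hd g => ?_, fun χ hd => ?_, fun χ hd => ?_⟩⟩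
  · by_contra hg
    exact hνR χ (hRSs (honly χ hd)) ((hν0 χ).1 ⟨g, hg⟩)
  · rw [hwx, (hRdeg χ (hRSs (honly χ hd))).2, hd]; norm_num [sgnFive]
  · rw [← hqdef, hwq, hqS χ (honly χ hd), (hRdeg χ (hRSs (honly χ hd))).2, hd]; norm_num [sgnFive]

end CfsgLib.Blocks.Order95040
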