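import Cfsg.Agent.Lib.Blocks.Order95040.Search

/-!
# Checks for the Sylow 11-centralizer of a simple group of order 95040
-/

set_option autoImplicit false

namespace CfsgLib.Blocks.Order95040

/-- The degrees `≡ ±1` modulo eleven, apart from one. -/
def xDegrees : List ℕ := [10, 12, 32, 45, 54, 120, 144]

/-- The sign of such a degree. -/
def sgn (d : ℕ) : ℤ := if d % 11 == 1 then 1 else -1

theorem xDegree_cases : ∀ d < 309, 95040 % d = 0 → (d % 11 = 1 ∨ d % 11 = 10) →
    d = 1 ∨ d ∈ xDegrees := by decide +kernel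

/-- The possible degrees and values at an involution centralizing an element of order eleven. -/
def typesEleven : List Ty :=
  [⟨32, -1, -12⟩, ⟨45, 1, 1⟩, ⟨45, 1, -43⟩, ⟨54, -1, 10⟩, ⟨54, -1, -34⟩, ⟨120, -1, 76⟩,
    ⟨120, -1, 32⟩, ⟨120, -1, -12⟩, ⟨120, -1, -56⟩, ⟨144, 1, 56⟩, ⟨144, 1, 12⟩, ⟨144, 1, -32⟩,
    ⟨144, 1, -76⟩]

theorem mem_typesEleven : ∀ d ∈ xDegrees, ∀ a : ℕ, a < 185 → ∀ v : ℤ, v = (a : ℤ) - 92 →
    ((d : ℤ) - v) % 44 = 0 → v.natAbs < d → ⟨d, sgn d, v⟩ ∈ typesEleven := by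
  have h : ∀ d ∈ xDegrees, ∀ a ∈ List.range 185,
      ((d : ℤ) - ((a : ℤ) - 92)) % 44 = 0 → ((a : ℤ) - 92).natAbs < d →
        ⟨d, sgn d, (a : ℤ) - 92⟩ ∈ typesEleven := by decide +kernel
  intro d hd a ha v hv
  subst hv
  exact h d hd a (List.mem_range.2 ha)

/-- The possible centralizer orders. -/
def centsEleven : List ℕ :=
  (List.range 394).filterMap fun m => if 95040 % (22 * m) == 0 then some (22 * m) else none

theorem mem_centsEleven : ∀ m ∈ List.range 393, 95040 % (22 * m) = 0 →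
    22 * m ∈ centsEleven := by
  decide +kernel

/-- The types allowed by the class sums for a centralizer of order `C`. -/
def typesAt (C : ℕ) (L : List Ty) : List Ty :=
  L.filter fun t => ((95040 / C : ℕ) : ℤ) * t.v % t.d == 0

/-- The exceptional characters cannot be completed. -/
def noY (e m C : ℕ) (A : Acc) : Bool :=
  let y := A.a.natAbs
  let ε : ℤ := if 0 ≤ A.a then 1 else -1
  let c := ε * A.b
  !(decide (1 < y) && 95040 % y == 0 && ((y : ℤ) - ε * e) % 11 == 0 && decide (c.natAbs < y) &&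
    decide (1 + A.n + m * (c.natAbs * c.natAbs) ≤ C) && ((95040 / C : ℕ) : ℤ) * c % y == 0)

/-- The principal character cannot be the exceptional one. -/
def noTriv (A : Acc) : Bool :=
  !(A.a == 1 && A.b == 1 || A.a == -1 && A.b == -1)

theorem search_eleven : ∀ C ∈ centsEleven,
    search C 95040 (noY 2 5 C) 1 (typesAt C typesEleven) ⟨0, 0, 1, 1, 0⟩ = true ∧
    search C 95040 (noY 5 2 C) 4 (typesAt C typesEleven) ⟨0, 0, 1, 1, 0⟩ = true ∧
    search C 95040 (noY 10 1 C) 9 (typesAt C typesEleven) ⟨0, 0, 1, 1, 0⟩ = true ∧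
    search C 95040 noTriv 10 (typesAt C typesEleven) ⟨0, 0, 0, 0, 0⟩ = true := by
  decide +kernel

/-- No inertial index with an odd nontrivial `11'`-part of the centralizer. -/
theorem inertia_arith : ∀ c ∈ List.range 136, c % 2 = 1 → ∀ e ∈ [2, 5, 10],
    8640 % (e * c) = 0 → 8640 / (e * c) % 11 = 1 → e = 5 ∧ c = 1 := by
  decide +kernel

end CfsgLib.Blocks.Order95040
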