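import Cfsg.Agent.Lib.Blocks.Order95040.Sylow
import Cfsg.Agent.Lib.Blocks.Order95040.ElevenTables

/-!
# The Sylow 11-subgroups of a simple group of order 95040

They are self-centralizing with normalizer of order 55. An involution centralizing one would give
impossible values in the principal block.
-/

set_option autoImplicit false
set_option linter.unnecessarySeqFocus false

namespace CfsgLib.Blocks.Order95040

open Cfsg CfsgLib CfsgLib.Char CfsgLib.CharIntegral CfsgLib.Blocks.PrimeSylow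
open scoped Classical ComplexConjugate

variable {G : Type*} [Group G] [Fintype G] [IsSimpleGroup G] (hG : Nat.card G = 95040)
include hG

omit [IsSimpleGroup G] in
theorem sgn_of_modEq {χ : IrrCharacter G} {ε : ℤ} (hε : ε = 1 ∨ ε = -1)
    (hm : (deg χ : ℤ) ≡ ε [ZMOD (11 : ℕ)]) :
    (deg χ = 1 ∨ deg χ ∈ xDegrees) ∧ ε = sgn (deg χ) := by
  obtain ⟨hd, hle, hpos⟩ := deg_facts hG χ
  have h := hm
  unfold Int.ModEq at h
  have hcase : deg χ % 11 = 1 ∧ ε = 1 ∨ deg χ % 11 = 10 ∧ ε = -1 := by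
    rcases hε with rfl | rfl <;> omega
  refine ⟨xDegree_cases _ (by omega) (Nat.mod_eq_zero_of_dvd hd)
    (hcase.imp And.left And.left), ?_⟩
  unfold sgn
  rcases hcase with ⟨h1, h2⟩ | ⟨h1, h2⟩ <;> simp [h1, h2]

/-- The inertial index is not one. -/
theorem inertial_ne_one {p : ℕ} (hp : 3 ≤ p) {X Y : Finset (IrrCharacter G)}
    {εX : IrrCharacter G → ℤ} {ε : ℤ} (hdisj : Disjoint X Y) (hXc : X.card = 1)
    (hYc : Y.card * 1 = p - 1) (htriv : trivChar G ∈ X ∪ Y)
    (hεX : ∀ χ ∈ X, εX χ = 1 ∨ εX χ = -1) (hε : ε = 1 ∨ ε = -1)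
    (hrel : ∀ θ ∈ Y, ε * (deg θ : ℤ) = ∑ χ ∈ X, εX χ * deg χ) : False := by
  obtain ⟨χ, rfl⟩ := Finset.card_eq_one.1 hXc
  have hdd : ∀ θ' ∈ Y, deg θ' = deg χ := fun θ' hθ' => by
    have h1 := hrel θ' hθ'
    rw [Finset.sum_singleton] at h1
    have := charDegree_pos χ
    rcases hε with rfl | rfl <;> rcases hεX χ (Finset.mem_singleton_self χ) with e1 | e1 <;>
      rw [e1] at h1 <;> omega
  have hone : deg χ = 1 := by
    rcases Finset.mem_union.1 htriv with ht | ht
    · rw [← Finset.mem_singleton.1 ht, deg_trivChar]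
    · rw [← hdd _ ht, deg_trivChar]
  have : Y ⊆ {trivChar G} := fun θ' hθ' =>
    Finset.mem_singleton.2 (deg_one hG ((hdd θ' hθ').trans hone))
  have := Finset.card_le_card this
  rw [Finset.card_singleton] at this
  omega

omit [Fintype G] [IsSimpleGroup G] hG in
theorem addAll_map {X : Finset (IrrCharacter G)} (A : Acc) (f : IrrCharacter G → Ty) :
    A.addAll (X.val.map f) =
      ⟨A.n + ∑ χ ∈ X, (f χ).v.natAbs * (f χ).v.natAbs, A.d2 + ∑ χ ∈ X, (f χ).d * (f χ).d,
        A.a + ∑ χ ∈ X, (f χ).s * ((f χ).d : ℤ), A.b + ∑ χ ∈ X, (f χ).s * (f χ).v,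
        A.q + ∑ χ ∈ X, (f χ).s * ((f χ).v * (f χ).v) * ((4320 / (f χ).d : ℕ) : ℤ)⟩ := by
  simp only [Acc.addAll, Multiset.map_map, Function.comp_def]
  rfl

/-- No involution centralizes an element of order eleven. -/
theorem not_involution {P V : Subgroup G} (h : Setup 11 P V) {v : G} (hv : v ∈ V)
    (ho : orderOf v = 2) : False := by
  have : Fact (Nat.Prime 11) := ⟨by norm_num⟩
  obtain ⟨e, X, Y, εX, ε, hedvd, -, hdisj, hXc, hYc, htriv, hX, hε, hYm, hrelg, hrel, -⟩ :=
    principal_data h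
  obtain ⟨x, hx, hx1⟩ : ∃ x ∈ P, x ≠ (1 : G) := by
    refine P.bot_or_exists_ne_one.resolve_left fun hb => ?_
    have := h.card
    rw [hb, Subgroup.card_bot] at this
    omega
  choose w hw hw4 hwlt using fun χ => value_involution hG ho χ
  set C := cent v with hC
  have hCpos : 0 < C := Nat.card_pos
  have hCd : 95040 % C = 0 := Nat.mod_eq_zero_of_dvd (cent_dvd hG v)
  have hv1 : v ≠ 1 := fun e => by simp [e] at ho
  have hCle : C ≤ 8640 := by
    have h1 := eleven_le_index hG hv1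
    rw [← hC] at h1
    have h2 : 11 * C ≤ 95040 :=
      le_trans (Nat.mul_le_mul_right C h1) (Nat.div_mul_le_self 95040 C)
    omega
  have hxC : x ∈ Subgroup.centralizer ({v} : Set G) :=
    Subgroup.mem_centralizer_singleton_iff.2 (h.commute hx hv).eq
  have hvC : v ∈ Subgroup.centralizer ({v} : Set G) :=
    Subgroup.mem_centralizer_singleton_iff.2 rfl
  have h11 : 11 ∣ C := h.orderOf_eq hx hx1 ▸ Subgroup.orderOf_dvd_natCard _ hxC
  have h2 : 2 ∣ C := ho ▸ Subgroup.orderOf_dvd_natCard _ hvC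
  have hmem : C ∈ centsEleven := by
    obtain ⟨m, hm⟩ : 22 ∣ C := (by norm_num : Nat.Coprime 2 11).mul_dvd_of_dvd_of_dvd h2 h11
    rw [hm]
    exact mem_centsEleven m (List.mem_range.2 (by omega)) (hm ▸ hCd)
  -- the type of a nontrivial member of `X`
  let ty : IrrCharacter G → Ty := fun χ => ⟨deg χ, sgn (deg χ), w χ⟩
  have hty : ∀ χ ∈ X, χ ≠ trivChar G → ty χ ∈ typesAt C typesEleven ∧ εX χ = sgn (deg χ) := by
    intro χ hχ hne
    obtain ⟨h1, h2', h3⟩ := hX χ hχ
    obtain ⟨hd, hs⟩ := sgn_of_modEq hG h1 h2'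
    have hd' : deg χ ∈ xDegrees := hd.resolve_left fun e1 => hne (deg_one hG e1)
    obtain ⟨n, ρ, hρ, hρc'⟩ := χ.2
    have hρc := hρc'.symm
    obtain ⟨μ, b, -, hμ2, hμv, hdvd⟩ := Order7920.dvd_multiplicity ρ (p := 11) (r := 2)
      (by norm_num) Nat.prime_two (by norm_num) (h.pow_eq_one hx) hx1
      (by rw [← ho]; exact pow_orderOf_eq_one v) (h.commute hx hv)
      (c := (εX χ : ℂ)) fun i j hi => by rw [← hρc]; exact h3 i j x hx v hv hi
    have hfr : Module.finrank ℂ (Fin n → ℂ) = deg χ := by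
      rw [Module.finrank_fin_fun, deg_eq_finrank hρc]
    set S := Finset.univ.filter fun i => μ i = (-1 : ℂ) with hS
    have hval : (w χ : ℂ) = (deg χ : ℂ) - 2 * S.card := by
      rw [← hw χ, hρc, hμv]
      have h2e : ∀ i, μ i = 1 + (if i ∈ S then (-2 : ℂ) else 0) := fun i => by
        split_ifs with hi
        · rw [(Finset.mem_filter.1 hi).2]; norm_num
        · rcases sq_eq_one_iff.1 (hμ2 i) with e1 | e1
          · rw [e1, add_zero]
          · exact absurd (Finset.mem_filter.2 ⟨Finset.mem_univ i, e1⟩) hi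
      rw [Finset.sum_congr rfl fun i _ => h2e i, Finset.sum_add_distrib, Finset.sum_ite_mem,
        Finset.univ_inter, Finset.sum_const, Finset.sum_const, Finset.card_univ, Fintype.card_fin,
        nsmul_eq_mul, nsmul_eq_mul, mul_one,
        show ((Module.finrank ℂ (Fin n → ℂ) : ℕ) : ℂ) = (deg χ : ℂ) by rw [hfr]]
      ring
    have hval' : w χ = (deg χ : ℤ) - 2 * S.card := by exact_mod_cast hval
    obtain ⟨k, hk⟩ := hdvd (-1) (by norm_num)
    rw [← hS] at hk
    have h44 : ((deg χ : ℤ) - w χ) % 44 = 0 := by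
      have := hw4 χ
      omega
    have hsq : (w χ).natAbs * (w χ).natAbs ≤ 8640 := by
      have h4 := sum_sq_le_cent (g := v) {χ} w fun ψ _ => hw ψ
      rw [Finset.sum_singleton, ← hC] at h4
      omega
    have h92 : (w χ).natAbs ≤ 92 := by
      by_contra hlt
      have := Nat.mul_le_mul (show 93 ≤ (w χ).natAbs by omega) (show 93 ≤ (w χ).natAbs by omega)
      omega
    refine ⟨List.mem_filter.2 ⟨mem_typesEleven _ hd' ((w χ) + 92).toNat (by omega) _ (by omega) h44
      (hwlt χ hne), ?_⟩, hs⟩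
    simp only [beq_iff_eq, ty]
    exact Int.emod_eq_zero_of_dvd (dvd_index_mul hG χ (hw χ))
  have hvp : ¬ 11 ∣ orderOf v := by rw [ho]; norm_num
  have hecase : e = 1 ∨ e = 2 ∨ e = 5 ∨ e = 10 := by
    have h1 := Nat.le_of_dvd (by norm_num) hedvd
    have h2 : e ≠ 0 := fun e0 => by simp [e0] at hedvd
    interval_cases e <;> simp_all
  have he1 : e ≠ 1 := by
    rintro rfl
    exact inertial_ne_one hG (by norm_num) hdisj hXc hYc htriv (fun χ hχ => (hX χ hχ).1) hε hrel
  obtain ⟨θ, hθ⟩ : Y.Nonempty := by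
    rw [← Finset.card_pos]
    rcases hecase with rfl | rfl | rfl | rfl <;> omega
  have hYw : ∀ θ' ∈ Y, ε * w θ' = ∑ χ ∈ X, εX χ * w χ := fun θ' hθ' => by
    have h1 := hrelg θ' hθ' v hvp
    simp only [hw] at h1
    exact_mod_cast h1
  obtain ⟨s1, s2, s3, s4⟩ := search_eleven C hmem
  rcases Finset.mem_union.1 htriv with ht | ht
  · set X' := X.erase (trivChar G) with hX'
    have hε1 : εX (trivChar G) = 1 := by
      obtain ⟨h1, h2', -⟩ := hX _ ht
      rw [deg_trivChar] at h2'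
      unfold Int.ModEq at h2'
      rcases h1 with h1 | h1 <;> rw [h1] at h2' ⊢ <;> omega
    have hw1 : w (trivChar G) = 1 := by
      have h1 := hw (trivChar G)
      rw [trivChar_apply] at h1
      exact_mod_cast h1.symm
    have hA := addAll_map (X := X') ⟨0, 0, 1, 1, 0⟩ ty
    simp only [ty, zero_add] at hA
    have ha : ε * (deg θ : ℤ) = 1 + ∑ χ ∈ X', sgn (deg χ) * (deg χ : ℤ) := by
      rw [hrel θ hθ, ← Finset.add_sum_erase _ _ ht, hε1, deg_trivChar]
      push_cast
      rw [Finset.sum_congr rfl fun χ hχ => by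
        rw [(hty χ (Finset.mem_of_mem_erase hχ) (Finset.ne_of_mem_erase hχ)).2]]
    have hb : ε * w θ = 1 + ∑ χ ∈ X', sgn (deg χ) * w χ := by
      rw [hYw θ hθ, ← Finset.add_sum_erase _ _ ht, hε1, hw1, one_mul,
        Finset.sum_congr rfl fun χ hχ => by
          rw [(hty χ (Finset.mem_of_mem_erase hχ) (Finset.ne_of_mem_erase hχ)).2]]
    have hθne : θ ≠ trivChar G := fun e1 => Finset.disjoint_left.1 hdisj ht (e1 ▸ hθ)
    have hy1 : 1 < deg θ := by
      have : 0 < deg θ := charDegree_pos θ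
      by_contra hlt
      exact hθne (deg_one hG (by omega))
    have hsame : ∀ θ' ∈ Y, w θ' = w θ := fun θ' hθ' => by
      have h1 := (hYw θ' hθ').trans (hYw θ hθ).symm
      rcases hε with rfl | rfl <;> omega
    have hnorm : 1 + ∑ χ ∈ X', (w χ).natAbs * (w χ).natAbs +
        Y.card * ((w θ).natAbs * (w θ).natAbs) ≤ C := by
      have h1 := sum_sq_le_cent (g := v) (X ∪ Y) w fun ψ _ => hw ψ
      rw [Finset.sum_union hdisj, ← Finset.add_sum_erase _ _ ht,
        Finset.sum_congr rfl (fun θ' hθ' => by rw [hsame θ' hθ']) (s₁ := Y), Finset.sum_const,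
        smul_eq_mul, hw1] at h1
      simpa only [Int.natAbs_one, mul_one, Nat.one_mul] using h1
    have hdeg : ∑ χ ∈ X', deg χ * deg χ ≤ 95040 := hG ▸ sum_sq_deg_le X'
    have hcard : Multiset.card (X'.val.map ty) = e - 1 := by
      rw [Multiset.card_map, ← Finset.card_def, hX', Finset.card_erase_of_mem ht, hXc]
    have hts : ∀ t ∈ X'.val.map ty, t ∈ typesAt C typesEleven := by
      intro t ht'
      obtain ⟨χ, hχ, rfl⟩ := Multiset.mem_map.1 ht'
      exact (hty χ (Finset.mem_of_mem_erase hχ) (Finset.ne_of_mem_erase hχ)).1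
    have hdθ := deg_facts hG θ
    have hKy := Int.emod_eq_zero_of_dvd (dvd_index_mul hG θ (hw θ))
    have hm := hYm θ hθ
    unfold Int.ModEq at hm
    have key : ∀ m, Y.card = m → noY e m C ((⟨0, 0, 1, 1, 0⟩ : Acc).addAll (X'.val.map ty)) = false := by
      intro m hm'
      rw [hA]
      simp only [noY, Bool.not_eq_false', Bool.and_eq_true, decide_eq_true_eq, beq_iff_eq]
      have hy : (1 + ∑ χ ∈ X', sgn (deg χ) * (deg χ : ℤ)).natAbs = deg θ := by
        rw [← ha]; rcases hε with rfl | rfl <;> simp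
      have hs : (if 0 ≤ 1 + ∑ χ ∈ X', sgn (deg χ) * (deg χ : ℤ) then (1 : ℤ) else -1) = ε := by
        rw [← ha]; rcases hε with rfl | rfl <;> (split_ifs <;> omega)
      rw [hy, hs, ← hb, ← mul_assoc, show ε * ε = 1 by rcases hε with rfl | rfl <;> norm_num,
        one_mul]
      refine ⟨⟨⟨⟨⟨hy1, Nat.mod_eq_zero_of_dvd hdθ.1⟩, ?_⟩, hwlt θ hθne⟩, ?_⟩, hKy⟩
      · omega
      · rw [← hm']; exact hnorm
    have hn : ((⟨0, 0, 1, 1, 0⟩ : Acc).addAll (X'.val.map ty)).n ≤ C := by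
      rw [hA]; dsimp only; omega
    have hd2 : ((⟨0, 0, 1, 1, 0⟩ : Acc).addAll (X'.val.map ty)).d2 ≤ 95040 := by
      rw [hA]; exact hdeg
    rcases hecase with rfl | rfl | rfl | rfl
    · exact he1 rfl
    · exact absurd (search_sound s1 _ hcard hts hn hd2) (by rw [key 5 (by omega)]; decide)
    · exact absurd (search_sound s2 _ hcard hts hn hd2) (by rw [key 2 (by omega)]; decide)
    · exact absurd (search_sound s3 _ hcard hts hn hd2) (by rw [key 1 (by omega)]; decide)
  · have he10 : e = 10 := by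
      have h1 := hYm _ ht
      rw [deg_trivChar] at h1
      unfold Int.ModEq at h1
      rcases hecase with rfl | rfl | rfl | rfl <;> rcases hε with rfl | rfl <;> omega
    subst he10
    have hnt : ∀ χ ∈ X, χ ≠ trivChar G := fun χ hχ e1 =>
      Finset.disjoint_left.1 hdisj hχ (e1 ▸ ht)
    have hA := addAll_map (X := X) ⟨0, 0, 0, 0, 0⟩ ty
    simp only [ty, zero_add] at hA
    have hw1 : w (trivChar G) = 1 := by
      have h1 := hw (trivChar G)
      rw [trivChar_apply] at h1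
      exact_mod_cast h1.symm
    have ha : ∑ χ ∈ X, sgn (deg χ) * (deg χ : ℤ) = ε := by
      have h1 := hrel _ ht
      rw [deg_trivChar, Nat.cast_one, mul_one] at h1
      rw [h1]
      exact Finset.sum_congr rfl fun χ hχ => by rw [(hty χ hχ (hnt χ hχ)).2]
    have hb : ∑ χ ∈ X, sgn (deg χ) * w χ = ε := by
      have h1 := hYw _ ht
      rw [hw1, mul_one] at h1
      rw [h1]
      exact Finset.sum_congr rfl fun χ hχ => by rw [(hty χ hχ (hnt χ hχ)).2]
    have hts : ∀ t ∈ X.val.map ty, t ∈ typesAt C typesEleven := by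
      intro t ht'
      obtain ⟨χ, hχ, rfl⟩ := Multiset.mem_map.1 ht'
      exact (hty χ hχ (hnt χ hχ)).1
    have hres := search_sound s4 (X.val.map ty) (by rw [Multiset.card_map]; exact hXc) hts
      (by rw [hA]; exact (sum_sq_le_cent (g := v) X w fun ψ _ => hw ψ))
      (by rw [hA]; exact hG ▸ sum_sq_deg_le X)
    rw [hA] at hres
    simp only [noTriv] at hres
    rw [ha, hb] at hres
    rcases hε with rfl | rfl <;> simp at hres

/-- The data at an element of order eleven. -/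
structure ElevenData (z : G) where
  X : Finset (IrrCharacter G)
  Y : Finset (IrrCharacter G)
  ε : ℤ
  disj : Disjoint X Y
  cardX : X.card = 5
  cardY : Y.card = 2
  triv : trivChar G ∈ X
  hε : ε = 1 ∨ ε = -1
  iff : ∀ χ : IrrCharacter G, ¬ 11 ∣ deg χ ↔ χ ∈ X ∪ Y
  degX : ∀ χ ∈ X, χ ≠ trivChar G → deg χ ∈ xDegrees
  valX : ∀ χ ∈ X, (χ : G → ℂ) z = (sgn (deg χ) : ℂ)
  val0 : ∀ χ : IrrCharacter G, 11 ∣ deg χ → (χ : G → ℂ) z = 0
  modY : ∀ θ ∈ Y, (deg θ : ℤ) ≡ ε * 5 [ZMOD (11 : ℕ)]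
  neY : ∀ θ ∈ Y, 1 < deg θ
  relY : ∀ θ ∈ Y, ∀ g : G, ¬ 11 ∣ orderOf g →
    (ε : ℂ) * (θ : G → ℂ) g = ∑ χ ∈ X, (sgn (deg χ) : ℂ) * (χ : G → ℂ) g
  sumY : ∑ θ ∈ Y, (θ : G → ℂ) z = -(ε : ℂ)
  hcent : cent z = 11
  hnorm : Nat.card (Subgroup.normalizer ((Subgroup.zpowers z : Subgroup G) : Set G)) = 55
  notReal : ¬ IsConj z z⁻¹

/-- The data exists. -/
theorem exists_elevenData {z : G} (hz : orderOf z = 11) : Nonempty (ElevenData z) := by
  have : Fact (Nat.Prime 11) := ⟨by norm_num⟩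
  obtain ⟨P, hzP⟩ := exists_sylow_mem hz
  have hP := card_sylow hG (Or.inl rfl) P
  have hz1 : z ≠ 1 := fun e => by simp [e] at hz
  obtain ⟨V, hV⟩ := exists_setup hP P.not_dvd_index
  obtain ⟨e, X, Y, εX, ε, hedvd, hN, hdisj, hXc, hYc, htriv, hX, hε, hYm, hrelg, hrel, hall⟩ :=
    principal_data hV
  have hecase : e = 1 ∨ e = 2 ∨ e = 5 ∨ e = 10 := by
    have h1 := Nat.le_of_dvd (by norm_num) hedvd
    have h2 : e ≠ 0 := fun e0 => by simp [e0] at hedvd
    interval_cases e <;> simp_all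
  have he1 : e ≠ 1 := by
    rintro rfl
    exact inertial_ne_one hG (by norm_num) hdisj hXc hYc htriv (fun χ hχ => (hX χ hχ).1) hε hrel
  have hodd : Nat.card V % 2 = 1 := by
    by_contra hne
    obtain ⟨v, hv⟩ := exists_prime_orderOf_dvd_card' (G := V) 2 (by omega)
    exact not_involution hG hV v.2 (by rw [Subgroup.orderOf_coe, hv])
  obtain ⟨hn1, hn2⟩ := sylow_count P
  rw [hN, hG] at hn2
  have hn3 : Nat.card (Sylow 11 G) * (e * Nat.card V) = 8640 := by
    have : 11 * (Nat.card (Sylow 11 G) * (e * Nat.card V)) = 11 * 8640 :=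
      Eq.trans (by ring) hn2
    omega
  have hec : e = 5 ∧ Nat.card V = 1 := by
    have hd : Nat.card V ∣ 2 ^ 6 * 135 :=
      ⟨Nat.card (Sylow 11 G) * e, by rw [show 2 ^ 6 * 135 = 8640 from rfl, ← hn3]; ring⟩
    have hcop : (Nat.card V).Coprime (2 ^ 6) := Nat.Coprime.pow_right 6
      ((Nat.prime_two.coprime_iff_not_dvd.2 (by omega)).symm)
    have hle := Nat.le_of_dvd (by norm_num) (hcop.dvd_of_dvd_mul_left hd)
    have hpos : 0 < e * Nat.card V := Nat.mul_pos (by omega) Nat.card_pos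
    refine inertia_arith _ (List.mem_range.2 (by omega)) hodd e
      (by rcases hecase with rfl | rfl | rfl | rfl <;> simp_all) ?_ ?_
    · rw [← hn3]; simp
    · rw [← hn3, Nat.mul_div_cancel _ hpos]; exact hn1
  obtain ⟨rfl, hV1⟩ := hec
  have hVbot : V = ⊥ := Subgroup.card_eq_one.1 hV1
  have hP' : (P : Subgroup G) = Subgroup.zpowers z :=
    (Subgroup.eq_of_le_of_card_ge (Subgroup.zpowers_le.2 hzP)
      (le_of_eq (by rw [hP, Nat.card_zpowers, hz]))).symm
  have ht : trivChar G ∈ X := by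
    refine (Finset.mem_union.1 htriv).resolve_right fun hY => ?_
    have h1 := hYm _ hY
    rw [deg_trivChar] at h1
    unfold Int.ModEq at h1
    rcases hε with rfl | rfl <;> omega
  have hXs : ∀ χ ∈ X, (deg χ = 1 ∨ deg χ ∈ xDegrees) ∧ εX χ = sgn (deg χ) := fun χ hχ =>
    sgn_of_modEq hG (hX χ hχ).1 (hX χ hχ).2.1
  have hvalX : ∀ χ ∈ X, (χ : G → ℂ) z = (sgn (deg χ) : ℂ) := fun χ hχ => by
    have h1 := (hX χ hχ).2.2 1 0 z hzP 1 (one_mem V) (by rwa [pow_one])
    rw [pow_one, pow_zero, mul_one, (hXs χ hχ).2] at h1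
    exact h1
  have hiff := hall hVbot
  have hval0 : ∀ χ : IrrCharacter G, 11 ∣ deg χ → (χ : G → ℂ) z = 0 := fun χ hd =>
    vanish hG (p := 11) (n := 1) (by norm_num) (by norm_num) (by norm_num) (by simpa using hd)
      (by rw [hz])
  have hcent : cent z = 11 := by
    show Nat.card (Subgroup.centralizer ({z} : Set G)) = 11
    rw [hV.centralizer_singleton hzP hz1, hV.card_centralizer, hV1]
  refine ⟨⟨X, Y, ε, hdisj, hXc, by omega, ht, hε, hiff,
    fun χ hχ hne => (hXs χ hχ).1.resolve_left fun e1 => hne (deg_one hG e1), hvalX, hval0,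
    fun θ hθ => by simpa using hYm θ hθ, fun θ hθ => ?_, fun θ hθ g hg => ?_, ?_, hcent, ?_, ?_⟩⟩
  · have : 0 < deg θ := charDegree_pos θ
    by_contra hlt
    exact Finset.disjoint_left.1 hdisj ht (deg_one hG (show deg θ = 1 by omega) ▸ hθ)
  · rw [hrelg θ hθ g hg]
    exact Finset.sum_congr rfl fun χ hχ => by rw [(hXs χ hχ).2]
  · have := Fintype.ofFinite (IrrCharacter G)
    obtain ⟨θ, hθ⟩ : Y.Nonempty := by rw [← Finset.card_pos]; omega
    have hsum := sum_degree_mul_apply_of_ne_one hz1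
    rw [← Finset.sum_subset (Finset.subset_univ (X ∪ Y)) fun ψ _ hψ => by
        rw [hval0 ψ (by by_contra hc; exact hψ ((hiff ψ).1 hc)), mul_zero],
      Finset.sum_union hdisj] at hsum
    have h1 : ∑ χ ∈ X, (χ : G → ℂ) 1 * (χ : G → ℂ) z = (ε : ℂ) * (deg θ : ℂ) := by
      have h2 : ((ε * (deg θ : ℤ) : ℤ) : ℂ) = ((∑ χ ∈ X, εX χ * (deg χ : ℤ) : ℤ) : ℂ) := by
        rw [hrel θ hθ]
      push_cast at h2
      rw [h2]
      exact Finset.sum_congr rfl fun χ hχ => by
        rw [deg_cast, hvalX χ hχ, (hXs χ hχ).2, mul_comm]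
    have h3 : ∑ ψ ∈ Y, (ψ : G → ℂ) 1 * (ψ : G → ℂ) z = (deg θ : ℂ) * ∑ ψ ∈ Y, (ψ : G → ℂ) z := by
      rw [Finset.mul_sum]
      refine Finset.sum_congr rfl fun ψ hψ => ?_
      have h4 := (hrel ψ hψ).trans (hrel θ hθ).symm
      have h5 : deg ψ = deg θ := by rcases hε with rfl | rfl <;> omega
      rw [deg_cast, h5]
    rw [h1, h3] at hsum
    have hne : (deg θ : ℂ) ≠ 0 := Nat.cast_ne_zero.2 (charDegree_pos θ).ne'
    exact mul_left_cancel₀ hne (by linear_combination hsum)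
  · rw [← hP', hN, hV1]
  · intro hreal
    obtain ⟨c, hc⟩ := isConj_iff.1 hreal
    have hcN : c ∈ Subgroup.normalizer ((P : Subgroup G) : Set G) := by
      rw [hP']
      refine (Subgroup.mem_normalizer_iff_map_conj_eq).2 ?_
      rw [MonoidHom.map_zpowers]
      show Subgroup.zpowers (MulAut.conj c z) = _
      rw [MulAut.conj_apply, hc, Subgroup.zpowers_inv]
    have h55 : c ^ 55 = 1 := orderOf_dvd_iff_pow_eq_one.1
      (show orderOf c ∣ 55 by
        have := Subgroup.orderOf_dvd_natCard _ hcN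
        rwa [hN, hV1] at this)
    have hsq : Commute (c ^ 2) z := by
      have h1 : c * z⁻¹ * c⁻¹ = z := by
        have h2 := congrArg (·⁻¹) hc
        simpa [mul_assoc] using h2
      show c ^ 2 * z = z * c ^ 2
      calc c ^ 2 * z = c * (c * z * c⁻¹) * c := by simp [pow_two, mul_assoc]
        _ = c * z⁻¹ * c := by rw [hc]
        _ = (c * z⁻¹ * c⁻¹) * c ^ 2 := by simp [pow_two, mul_assoc]
        _ = z * c ^ 2 := by rw [h1]
    have h3 := (hsq.pow_left 28).eq
    rw [← pow_mul, show 2 * 28 = 55 + 1 from rfl, pow_succ, h55, one_mul] at h3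
    rw [h3, mul_inv_cancel_right] at hc
    have : z ^ 2 = 1 := by rw [pow_two]; nth_rewrite 2 [hc]; rw [mul_inv_cancel]
    have := orderOf_dvd_of_pow_eq_one this
    rw [hz] at this
    norm_num at this

end CfsgLib.Blocks.Order95040
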