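import Cfsg.Agent.Lib.Char.ComplexAut
import Cfsg.Agent.Lib.Char.Integral
import Mathlib.FieldTheory.Galois.Basic
import Mathlib.RingTheory.Polynomial.Cyclotomic.Basic
import Mathlib.Data.Nat.Squarefree
import Mathlib.Tactic

/-!
# Integers and square roots of integers among cyclotomic integers
-/

set_option autoImplicit false

namespace CfsgLib.Blocks.Order95040

open Polynomial

theorem isIntegral_aeval {N : ℕ} (hN : N ≠ 0) {ζ : ℂ} (hζ : IsPrimitiveRoot ζ N) (P : ℤ[X]) :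
    IsIntegral ℤ (aeval ζ P) :=
  adjoin_le_integralClosure (hζ.isIntegral (Nat.pos_of_ne_zero hN))
    (aeval_mem_adjoin_singleton ℤ ζ)

/-- A cyclotomic integer fixed by all Galois substitutions is a rational integer. -/
theorem exists_int_of_poly {N : ℕ} (hN0 : N ≠ 0) {ζ : ℂ} (hζ : IsPrimitiveRoot ζ N) (P : ℤ[X])
    {c : ℂ} (hinv : ∀ m : ℕ, m.Coprime N → aeval (ζ ^ m) P = c) : ∃ i : ℤ, c = i := by
  haveI : NeZero N := ⟨hN0⟩
  have hc : aeval ζ P = c := by simpa using hinv 1 (Nat.coprime_one_left N)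
  let F := IntermediateField.adjoin ℚ ({ζ} : Set ℂ)
  haveI : IsCyclotomicExtension {N} ℚ F := by
    show IsCyclotomicExtension {N} ℚ (IntermediateField.adjoin ℚ ({ζ} : Set ℂ)).toSubalgebra
    rw [IntermediateField.adjoin_simple_toSubalgebra_of_isAlgebraic
      ((hζ.isIntegral (Nat.pos_of_ne_zero hN0)).tower_top.isAlgebraic)]
    exact hζ.adjoin_isCyclotomicExtension ℚ
  haveI : IsGalois ℚ F := IsCyclotomicExtension.isGalois {N} ℚ F
  haveI : FiniteDimensional ℚ F := IsCyclotomicExtension.finiteDimensional {N} ℚ F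
  let z : F := IntermediateField.AdjoinSimple.gen ℚ ζ
  have hz : IsPrimitiveRoot z N :=
    IsPrimitiveRoot.of_map_of_injective (f := F.val) hζ F.val.injective
  let y : F := aeval z P
  have hval : ∀ m : ℕ, F.val (aeval (z ^ m) P) = aeval (ζ ^ m) P := fun m =>
    ((Polynomial.aeval_algHom_apply (F.val.toRingHom.toIntAlgHom) (z ^ m) P).symm).trans rfl
  have hy : F.val y = c := by
    have h := hval 1
    rw [pow_one, pow_one, hc] at h
    exact h
  have hfix : ∀ f : F ≃ₐ[ℚ] F, f y = y := by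
    intro f
    obtain ⟨m, -, hm, hfz⟩ := hz.isPrimitiveRoot_iff.1 (hz.map_of_injective (f := f) f.injective)
    have h1 : f y = aeval (z ^ m) P := by
      rw [hfz]
      exact (Polynomial.aeval_algHom_apply (f.toAlgHom.toRingHom.toIntAlgHom) z P).symm
    refine F.val.injective (?_ : F.val (f y) = F.val y)
    rw [h1, hval, hy, hinv m hm]
  obtain ⟨q, hq⟩ := IntermediateField.mem_bot.1 ((IsGalois.mem_bot_iff_fixed y).2 hfix)
  have hqx : c = (q : ℂ) := by
    rw [← hy, ← hq]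
    simp
  have hint : IsIntegral ℤ (q : ℚ) := by
    have h : IsIntegral ℤ (algebraMap ℚ ℂ q) := by
      rw [eq_ratCast, ← hqx, ← hc]
      exact isIntegral_aeval hN0 hζ P
    exact (isIntegral_algebraMap_iff (algebraMap ℚ ℂ).injective).1 h
  obtain ⟨i, hi⟩ := IsIntegrallyClosed.isIntegral_iff.mp hint
  exact ⟨i, by rw [hqx, ← hi]; simp⟩

/-- The primes of the squarefree part of the square of a cyclotomic integer divide the level. -/
theorem squarefree_part_dvd {N : ℕ} (hN : N ≠ 0) {ζ : ℂ} (hζ : IsPrimitiveRoot ζ N) (P : ℤ[X])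
    {D : ℕ} (hD : D ≠ 0) (h : aeval ζ P ^ 2 = (D : ℂ)) :
    ∃ m k : ℕ, k ^ 2 * m = D ∧ Squarefree m ∧ ∀ q : ℕ, q.Prime → q ∣ m → q ∣ N := by
  obtain ⟨m, k, hmk, hm⟩ := Nat.sq_mul_squarefree D
  refine ⟨m, k, hmk, hm, fun q hq hqm => ?_⟩
  by_contra hqN
  have hk : (k : ℂ) ≠ 0 := Nat.cast_ne_zero.2 fun e => hD (by rw [← hmk, e]; simp)
  set γ : ℂ := (((k : ℚ)⁻¹ : ℚ) : ℂ) * aeval ζ P with hγ
  have hγ2 : γ ^ 2 = (m : ℂ) := by
    rw [hγ, mul_pow, h, ← hmk]
    push_cast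
    field_simp
  have hint : IsIntegral ℤ γ := IsIntegral.of_pow (n := 2) (by norm_num) (by
    rw [hγ2]; exact_mod_cast isIntegral_algebraMap (R := ℤ) (x := (m : ℤ)))
  obtain ⟨Q, hQ⟩ := ComplexAut.exists_intPoly_of_isIntegral hN hζ _ P hint
  have hQ1 : aeval ζ Q = γ := by simpa [hγ] using (hQ 1 (Nat.coprime_one_left N)).symm
  have hdvd : cyclotomic N ℤ ∣ Q ^ 2 - C (m : ℤ) := by
    rw [cyclotomic_eq_minpoly hζ (Nat.pos_of_ne_zero hN)]
    refine minpoly.isIntegrallyClosed_dvd (hζ.isIntegral (Nat.pos_of_ne_zero hN)) ?_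
    simp [hQ1, hγ2]
  have : Fact q.Prime := ⟨hq⟩
  have : NeZero (N : ZMod q) := ⟨fun e => hqN ((ZMod.natCast_eq_zero_iff N q).1 e)⟩
  set φ := Int.castRingHom (ZMod q)
  have hq0 : φ (m : ℤ) = 0 := by simpa [φ, ZMod.natCast_eq_zero_iff] using hqm
  have h2 : cyclotomic N (ZMod q) ∣ (Q.map φ) ^ 2 := by
    have h3 := Polynomial.map_dvd φ hdvd
    rwa [map_cyclotomic, Polynomial.map_sub, Polynomial.map_pow, map_C, hq0, map_zero, sub_zero]
      at h3
  obtain ⟨A, hA⟩ := (squarefree_cyclotomic N (ZMod q)).isRadical 2 _ h2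
  obtain ⟨A0, hA0⟩ := map_surjective φ (ZMod.intCast_surjective) A
  obtain ⟨B, hB⟩ : C (q : ℤ) ∣ Q - cyclotomic N ℤ * A0 := by
    rw [C_dvd_iff_dvd_coeff]
    intro i
    rw [← ZMod.intCast_zmod_eq_zero_iff_dvd]
    have h3 : (Q - cyclotomic N ℤ * A0).map φ = 0 := by
      rw [Polynomial.map_sub, Polynomial.map_mul, map_cyclotomic, hA0, hA, sub_self]
    have h4 := congrArg (fun p => coeff p i) h3
    rwa [coeff_map, coeff_zero] at h4
  set b := aeval ζ B
  have hb : γ = (q : ℂ) * b := by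
    have h3 := congrArg (aeval ζ) hB
    have h4 : aeval ζ (cyclotomic N ℤ) = 0 := by
      rw [cyclotomic_eq_minpoly hζ (Nat.pos_of_ne_zero hN)]; exact minpoly.aeval ℤ ζ
    simpa [hQ1, h4] using h3
  have hb2 : b ^ 2 = algebraMap ℚ ℂ ((m : ℚ) / (q : ℚ) ^ 2) := by
    rw [eq_ratCast]
    push_cast
    rw [← hγ2, hb, mul_pow, mul_div_cancel_left₀]
    exact pow_ne_zero 2 (Nat.cast_ne_zero.2 hq.ne_zero)
  have hbint : IsIntegral ℤ (algebraMap ℚ ℂ ((m : ℚ) / (q : ℚ) ^ 2)) :=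
    hb2 ▸ (isIntegral_aeval hN hζ B).pow 2
  obtain ⟨i, hi⟩ := IsIntegrallyClosed.isIntegral_iff.mp
    ((isIntegral_algebraMap_iff (algebraMap ℚ ℂ).injective).1 hbint)
  have hi' : ((m : ℤ) : ℚ) = ((q : ℤ) ^ 2 * i : ℤ) := by
    rw [Int.cast_mul, show ((i : ℤ) : ℚ) = algebraMap ℤ ℚ i from rfl, hi]
    push_cast
    have hq0' : (q : ℚ) ≠ 0 := Nat.cast_ne_zero.2 hq.ne_zero
    field_simp
  have hdd : q * q ∣ m := by
    rw [← Int.natCast_dvd_natCast]
    exact ⟨i, by rw [Int.cast_inj.1 hi']; push_cast; ring⟩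
  exact hq.not_isUnit (hm q hdd)

end CfsgLib.Blocks.Order95040
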