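import Cfsg.Agent.Lib.Blocks.Order95040.InvolutionTables

/-!
# Checks for the columns at the Sylow 5-centralizer of a group of order 95040
-/

set_option autoImplicit false

namespace CfsgLib.Blocks.Order95040

/-- The degrees of the principal block in the true configuration. -/
def degsTrue : List ℕ := [45, 54, 120, 144]

/-- The degrees of the principal block in the other configuration. -/
def degsOther : List ℕ := [32, 45, 54, 120]

/-- The condition at an element of order five. -/
def goodFive (d : ℕ) (v : ℤ) : Bool :=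
  (v - (d : ℤ)) % 5 == 0 && (d % 5 != 0 || v == 0)

/-- The condition at an involution commuting with an element of order five. -/
def goodInvFive (d : ℕ) (v : ℤ) : Bool := goodInv d v && (d % 5 != 0 || v % 5 == 0)

/-- The exceptional value at an element of order five. -/
def okFive (C : ℕ) (A : Acc) : Bool :=
  let y := A.a.natAbs
  let ε : ℤ := if 0 ≤ A.a then 1 else -1
  let c := ε * A.b
  ((95040 / C : ℕ) : ℤ) * c % y == 0 && goodFive y c &&
    decide (1 + A.n + 2 * (c.natAbs * c.natAbs) ≤ C)

/-- The column at an element of order five. -/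
def columnFive : List Ty := [⟨45, 1, 0⟩, ⟨54, -1, -1⟩, ⟨120, -1, 0⟩, ⟨144, 1, -1⟩]

/-- No column, or the known one. -/
def finalFive (ds : List ℕ) (C : ℕ) (L : List Ty) (A : Acc) : Bool :=
  !(okFive C A && (L.map Ty.d).isPerm ds) || (C == 10 && ds == degsTrue && L.isPerm columnFive)

/-- The columns at an involution commuting with an element of order five. -/
def columnsFiveInv : List (List ℕ × List Ty) :=
  [([120, 240], [⟨45, 1, 5⟩, ⟨54, -1, 6⟩, ⟨120, -1, 0⟩, ⟨144, 1, 4⟩]),
    ([120, 240], [⟨45, 1, 5⟩, ⟨54, -1, 6⟩, ⟨120, -1, 0⟩, ⟨144, 1, -4⟩]),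
    ([1440], [⟨45, 1, -15⟩, ⟨54, -1, 18⟩, ⟨120, -1, 0⟩, ⟨144, 1, 24⟩])]

/-- No column, or a known one. -/
def finalFiveInv (ds : List ℕ) (C : ℕ) (L : List Ty) (A : Acc) : Bool :=
  !(okY C A && goodInvFive A.a.natAbs ((if 0 ≤ A.a then 1 else -1) * A.b) &&
      (L.map Ty.d).isPerm ds) ||
    (ds == degsTrue && columnsFiveInv.any fun e => e.1.contains C && L.isPerm e.2)

/-- The possible orders of centralizers of elements of order five. -/
def centsFive : List ℕ := [10, 60, 135, 360, 2160]

theorem mem_centsFive_aux : ∀ q ∈ List.range 75, ∀ r ∈ List.range 64, (64 * q + r) % 11 ≠ 0 →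
    19008 % (4 * (64 * q + r)) = 0 → 19008 / (4 * (64 * q + r)) % 5 = 1 →
      5 * (64 * q + r) ∈ centsFive := by
  decide +kernel

theorem mem_centsFive (c : ℕ) (hc : c < 4800) (h1 : c % 11 ≠ 0) (h2 : 19008 % (4 * c) = 0)
    (h3 : 19008 / (4 * c) % 5 = 1) : 5 * c ∈ centsFive := by
  have e : 64 * (c / 64) + c % 64 = c := by omega
  have h := mem_centsFive_aux (c / 64) (List.mem_range.2 (by omega)) (c % 64)
    (List.mem_range.2 (by omega))
  rw [e] at h
  exact h h1 h2 h3

theorem search_five : ∀ C ∈ centsFive, ∀ ds ∈ [degsTrue, degsOther],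
    (C = 135 ∨ ds = degsTrue) →
      searchL C 95040 (finalFive ds C) 4 (typesFrom ds C goodFive) [] ⟨0, 0, 1, 1, 4320⟩ = true := by
  decide +kernel

/-- The possible orders of centralizers of involutions commuting with elements of order five. -/
def centsFiveInv : List ℕ :=
  (List.range 865).filterMap fun m =>
    if 95040 % (10 * m) == 0 && m % 11 != 0 then some (10 * m) else none

theorem mem_centsFiveInv : ∀ m ∈ List.range 865, 95040 % (10 * m) = 0 → m % 11 ≠ 0 →
    10 * m ∈ centsFiveInv := by
  intro m hm h1 h2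
  refine List.mem_filterMap.2 ⟨m, hm, ?_⟩
  rw [if_pos]
  simp [h1, h2]

theorem search_five_inv : ∀ C ∈ centsFiveInv, ∀ ds ∈ [degsTrue, degsOther],
    searchL C 95040 (finalFiveInv ds C) 4 (typesFrom ds C goodInvFive) [] ⟨0, 0, 1, 1, 4320⟩ =
      true := by
  decide +kernel

end CfsgLib.Blocks.Order95040
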