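import Cfsg.Agent.Lib.Blocks.Order95040.FiveTen
import Cfsg.Agent.Lib.Blocks.Order95040.FiveTables

/-!
# The inertial index at five is four
-/

set_option autoImplicit false
set_option linter.unnecessarySeqFocus false

namespace CfsgLib.Blocks.Order95040

open Cfsg CfsgLib CfsgLib.Char CfsgLib.CharIntegral CfsgLib.Blocks.PrimeSylow
open scoped Classical ComplexConjugate

/-- The possible degrees in a configuration. -/
def allowed (ds : List ℕ) (y d : ℕ) : Bool :=
  95040 % d == 0 && (d % 11 == 0 || d == 1 || d == y || ds.contains d)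

theorem no_pair : ∀ e ∈ [(([45, 54, 120, 144] : List ℕ), 16), ([32, 45, 54, 120], 160)],
    ∀ a < 309, allowed e.1 e.2 a = true → (a % 5 = 1 ∨ a % 5 = 4) → 1 < a →
      ((allowed e.1 e.2 (a + 1) = true → (a + 1) % 5 = 2 ∨ (a + 1) % 5 = 3 → False) ∧
        (allowed e.1 e.2 (a - 1) = true → (a - 1) % 5 = 2 ∨ (a - 1) % 5 = 3 → False)) := by
  decide +kernel

variable {G : Type*} [Group G] [Fintype G] [IsSimpleGroup G] (hG : Nat.card G = 95040)
include hG

omit [IsSimpleGroup G] in
/-- The degrees are allowed. -/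
theorem allowed_deg {z : G} (D : ElevenData z) {ds : List ℕ} {y : ℕ}
    (hds : ∀ χ ∈ D.X, χ ≠ trivChar G → deg χ ∈ ds) (hy : ∀ θ ∈ D.Y, deg θ = y)
    (χ : IrrCharacter G) : allowed ds y (deg χ) = true := by
  simp only [allowed, Bool.and_eq_true, Bool.or_eq_true, beq_iff_eq, List.contains_iff_mem]
  refine ⟨Nat.mod_eq_zero_of_dvd (deg_facts hG χ).1, ?_⟩
  by_cases h : 11 ∣ deg χ
  · exact Or.inl (Or.inl (Or.inl (Nat.mod_eq_zero_of_dvd h)))
  rcases Finset.mem_union.1 ((D.iff χ).1 h) with hX | hY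
  · by_cases h1 : χ = trivChar G
    · exact Or.inl (Or.inl (Or.inr (by rw [h1, deg_trivChar])))
    · exact Or.inr (hds χ hX h1)
  · exact Or.inl (Or.inr (hy χ hY))

/-- Elements of order five are conjugate to all their powers and their centralizers are large. -/
theorem inertia_four {ds : List ℕ} {y : ℕ}
    (he : (ds, y) ∈ [(([45, 54, 120, 144] : List ℕ), 16), ([32, 45, 54, 120], 160)])
    {z : G} (D : ElevenData z) (hds : ∀ χ ∈ D.X, χ ≠ trivChar G → deg χ ∈ ds)
    (hy : ∀ θ ∈ D.Y, deg θ = y) [Fact (Nat.Prime 5)] (P : Sylow 5 G) :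
    ∃ V : Subgroup G, Setup 5 (P : Subgroup G) V ∧
      Nat.card (Subgroup.normalizer ((P : Subgroup G) : Set G)) = 4 * (5 * Nat.card V) ∧
      5 * Nat.card V ∈ centsFive ∧
      ∀ x ∈ (P : Subgroup G), x ≠ 1 →
        ∃ n ∈ Subgroup.normalizer ((P : Subgroup G) : Set G), n * x * n⁻¹ = x ^ 2 := by
  have hP := card_sylow hG (Or.inr rfl) P
  obtain ⟨V, hV, e', he', hN', -, h11, hdvd⟩ := five_setup hG P
  obtain ⟨e, X, Y, εX, ε, -, hN, hdisj, hXc, hYc, htriv, hX, hε, hYm, -, hrel, -⟩ :=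
    principal_data hV
  have hee : e' = e := by
    rw [hN] at hN'
    exact (Nat.eq_of_mul_eq_mul_right (Nat.mul_pos (by norm_num) Nat.card_pos) hN').symm
  subst hee
  have he4 : e' = 4 := by
    refine he'.resolve_left fun h2 => ?_
    subst h2
    have ht : trivChar G ∈ X := by
      refine (Finset.mem_union.1 htriv).resolve_right fun hY => ?_
      have h1 := hYm _ hY
      rw [deg_trivChar] at h1
      unfold Int.ModEq at h1
      rcases hε with rfl | rfl <;> omega
    obtain ⟨a, ha⟩ := Finset.card_eq_one.1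
      (show (X.erase (trivChar G)).card = 1 by rw [Finset.card_erase_of_mem ht, hXc])
    obtain ⟨θ, hθ⟩ : Y.Nonempty := by rw [← Finset.card_pos]; omega
    have hε1 : εX (trivChar G) = 1 := by
      obtain ⟨h1, h2', -⟩ := hX _ ht
      rw [deg_trivChar] at h2'
      unfold Int.ModEq at h2'
      rcases h1 with h1 | h1 <;> rw [h1] at h2' ⊢ <;> omega
    have hr := hrel θ hθ
    rw [← Finset.add_sum_erase _ _ ht, ha, Finset.sum_singleton, hε1, deg_trivChar] at hr
    have hmem : a ∈ X.erase (trivChar G) := ha ▸ Finset.mem_singleton_self a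
    have haX := hX a (Finset.mem_of_mem_erase hmem)
    have ha2 := haX.2.1
    unfold Int.ModEq at ha2
    have hθm := hYm θ hθ
    unfold Int.ModEq at hθm
    have ha1 : 1 < deg a := by
      have : 0 < deg a := charDegree_pos a
      by_contra hlt
      exact Finset.ne_of_mem_erase hmem (deg_one hG (show deg a = 1 by omega))
    have h309 := deg_facts hG a
    have hθpos : 0 < deg θ := charDegree_pos θ
    have hamod : deg a % 5 = 1 ∨ deg a % 5 = 4 := by
      rcases haX.1 with e | e <;> rw [e] at ha2 <;> omega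
    have hθmod : deg θ % 5 = 2 ∨ deg θ % 5 = 3 := by
      rcases hε with rfl | rfl <;> omega
    obtain ⟨k1, k2⟩ := no_pair _ he (deg a) (by omega) (allowed_deg hG D hds hy a) hamod ha1
    have hcase : deg θ = deg a + 1 ∨ deg θ = deg a - 1 := by
      rcases hε with rfl | rfl <;> rcases haX.1 with e | e <;> rw [e] at hr <;> omega
    rcases hcase with h | h
    · exact k1 (h ▸ allowed_deg hG D hds hy θ) (h ▸ hθmod)
    · exact k2 (h ▸ allowed_deg hG D hds hy θ) (h ▸ hθmod)
  subst he4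
  refine ⟨V, hV, hN', ?_, fun x hx hx1 => ?_⟩
  · obtain ⟨hn1, hn3⟩ := five_count hG hN'
    have hle : Nat.card V ≤ 4752 := by
      have : 4 * Nat.card V ∣ 19008 := ⟨Nat.card (Sylow 5 G), by rw [← hn3]; ring⟩
      have := Nat.le_of_dvd (by norm_num) this
      omega
    refine mem_centsFive _ (by omega) (fun h => h11 (Nat.dvd_of_mod_eq_zero h)) ?_ ?_
    · rw [← hn3]; simp
    · rw [← hn3, Nat.mul_div_cancel _ (Nat.mul_pos (by norm_num) Nat.card_pos)]; exact hn1
  set N := Subgroup.normalizer ((P : Subgroup G) : Set G) with hNdef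
  set C := Subgroup.centralizer ((P : Subgroup G) : Set G) with hCdef
  have hxo := hV.orderOf_eq hx hx1
  have himg : ∀ n ∈ N, ∃ a : ℕ, a < 5 ∧ n * x * n⁻¹ = x ^ a := fun n hn => by
    have h1 : n * x * n⁻¹ ∈ (P : Subgroup G) := (Subgroup.mem_normalizer_iff.1 hn x).1 hx
    rw [← hV.zpowers_eq hx hx1, ← mem_powers_iff_mem_zpowers] at h1
    obtain ⟨a, ha⟩ := h1
    exact ⟨a % 5, Nat.mod_lt _ (by norm_num), by rw [← hxo, pow_mod_orderOf]; exact ha.symm⟩
  have hiter : ∀ {n : G} {a : ℕ}, n * x * n⁻¹ = x ^ a → ∀ k, n * x ^ k * n⁻¹ = x ^ (a * k) :=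
    fun h k => by rw [pow_mul, ← h, conj_pow]
  have hcomm : ∀ {n : G}, n * x * n⁻¹ = x → n ∈ C := fun {n} h => by
    rw [hCdef, ← hV.centralizer_singleton hx hx1, Subgroup.mem_centralizer_singleton_iff]
    exact mul_inv_eq_iff_eq_mul.1 h
  by_contra hno
  push Not at hno
  have hgood : ∀ n ∈ N, n * x * n⁻¹ = x ∨ n * x * n⁻¹ = x ^ 4 := by
    intro n hn
    obtain ⟨a, ha, h⟩ := himg n hn
    interval_cases a
    · rw [pow_zero, mul_inv_eq_one] at h
      exact absurd (mul_left_cancel (h.trans (mul_one n).symm)) hx1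
    · exact Or.inl (by rw [h, pow_one])
    · exact absurd h (hno n hn)
    · refine absurd ?_ (hno (n * n * n) (N.mul_mem (N.mul_mem hn hn) hn))
      have h3 : n * n * n * x * (n * n * n)⁻¹ = x ^ (3 * (3 * 3)) := by
        rw [← hiter h, ← hiter h 3, ← h]
        group
      rw [h3, ← pow_mod_orderOf, hxo]
    · exact Or.inr h
  obtain ⟨n0, hn0⟩ : ∃ n0, ∀ n ∈ N, n * x * n⁻¹ = x ^ 4 → n0⁻¹ * n ∈ C := by
    by_cases h : ∃ n0 ∈ N, n0 * x * n0⁻¹ = x ^ 4
    · obtain ⟨n0, -, h0⟩ := h
      refine ⟨n0, fun n _ hn' => hcomm ?_⟩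
      calc n0⁻¹ * n * x * (n0⁻¹ * n)⁻¹ = n0⁻¹ * (n * x * n⁻¹) * n0 := by group
        _ = n0⁻¹ * (n0 * x * n0⁻¹) * n0 := by rw [hn', h0]
        _ = x := by group
    · push Not at h
      exact ⟨1, fun n hn hn' => absurd hn' (h n hn)⟩
  have hsub : (Finset.univ.filter fun g => g ∈ N) ⊆
      (Finset.univ.filter fun g => g ∈ C) ∪ (Finset.univ.filter fun g => g ∈ C).image (n0 * ·) := by
    intro g hg
    rw [Finset.mem_filter] at hg
    rcases hgood g hg.2 with h | h
    · exact Finset.mem_union_left _ (Finset.mem_filter.2 ⟨Finset.mem_univ _, hcomm h⟩)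
    · exact Finset.mem_union_right _ (Finset.mem_image.2 ⟨n0⁻¹ * g,
        Finset.mem_filter.2 ⟨Finset.mem_univ _, hn0 g hg.2 h⟩, by simp⟩)
  have hle := (Finset.card_le_card hsub).trans
    ((Finset.card_union_le _ _).trans (Nat.add_le_add_left Finset.card_image_le _))
  have hcN : (Finset.univ.filter fun g => g ∈ N).card = Nat.card N := by
    rw [Nat.card_eq_fintype_card, Fintype.card_subtype]
  have hcC : (Finset.univ.filter fun g => g ∈ C).card = Nat.card C := by
    rw [Nat.card_eq_fintype_card, Fintype.card_subtype]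
  rw [hcN, hcC, hN', hCdef, hV.card_centralizer] at hle
  have : 0 < Nat.card V := Nat.card_pos
  omega

end CfsgLib.Blocks.Order95040
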