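import Cfsg.Agent.Lib.Blocks.Order95040.InvolutionTwo
import Cfsg.Agent.Lib.Char.FieldDegree

/-!
# The Sylow 5-subgroups of a simple group of order 95040: small degrees are excluded
-/

set_option autoImplicit false

namespace CfsgLib.Blocks.Order95040

open Cfsg CfsgLib CfsgLib.Char CfsgLib.CharIntegral CfsgLib.Blocks.PrimeSylow
open scoped Classical ComplexConjugate

variable {G : Type*} [Group G] [Fintype G] [IsSimpleGroup G] (hG : Nat.card G = 95040)
include hG

omit [Group G] [Fintype G] [IsSimpleGroup G] hG in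
/-- Arithmetic of the inertial index at five. -/
theorem five_arith : ∀ c ∈ List.range 298, c % 2 = 1 → c % 11 ≠ 0 → ∀ e ∈ [2, 4],
    19008 % (e * c) = 0 → 19008 / (e * c) % 5 = 1 → c = 9 ∨ c = 27 := by
  decide +kernel

omit [IsSimpleGroup G] in
/-- The number of the Sylow subgroups at five. -/
theorem five_count {P : Sylow 5 G} {e c : ℕ} [Fact (Nat.Prime 5)]
    (hN : Nat.card (Subgroup.normalizer ((P : Subgroup G) : Set G)) = e * (5 * c)) :
    Nat.card (Sylow 5 G) % 5 = 1 ∧ Nat.card (Sylow 5 G) * (e * c) = 19008 := by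
  obtain ⟨hn1, hn2⟩ := sylow_count P
  rw [hN, hG] at hn2
  refine ⟨hn1, ?_⟩
  have : 5 * (Nat.card (Sylow 5 G) * (e * c)) = 5 * 19008 := Eq.trans (by ring) hn2
  omega

/-- A Sylow 5-centralizer has a nontrivial `5'`-part, and the inertial index is two or four. -/
theorem five_setup [Fact (Nat.Prime 5)] (P : Sylow 5 G) :
    ∃ V : Subgroup G, Setup 5 (P : Subgroup G) V ∧ ∃ e : ℕ, (e = 2 ∨ e = 4) ∧
      Nat.card (Subgroup.normalizer ((P : Subgroup G) : Set G)) = e * (5 * Nat.card V) ∧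
      1 < Nat.card V ∧ ¬ 11 ∣ Nat.card V ∧ Nat.card V ∣ 19008 := by
  have hP := card_sylow hG (Or.inr rfl) P
  obtain ⟨V, hV⟩ := exists_setup hP P.not_dvd_index
  obtain ⟨e, X, Y, εX, ε, hedvd, hN, hdisj, hXc, hYc, htriv, hX, hε, -, -, hrel, -⟩ :=
    principal_data hV
  have hecase : e = 1 ∨ e = 2 ∨ e = 4 := by
    have h1 := Nat.le_of_dvd (by norm_num) hedvd
    have h2 : e ≠ 0 := fun e0 => by simp [e0] at hedvd
    interval_cases e <;> simp_all
  have he1 : e ≠ 1 := by
    rintro rfl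
    exact inertial_ne_one hG (by norm_num) hdisj hXc hYc htriv (fun χ hχ => (hX χ hχ).1) hε hrel
  obtain ⟨hn1, hn3⟩ := five_count hG hN
  refine ⟨V, hV, e, hecase.resolve_left he1, hN, ?_, fun hd => ?_,
    ⟨Nat.card (Sylow 5 G) * e, by rw [← hn3]; ring⟩⟩
  · by_contra hle
    have : Nat.card V = 1 := by have := Nat.card_pos (α := V); omega
    rw [this, mul_one] at hn3
    rcases hecase with rfl | rfl | rfl <;> omega
  · have : Fact (Nat.Prime 11) := ⟨by norm_num⟩
    obtain ⟨y, hy⟩ := exists_prime_orderOf_dvd_card' (G := V) 11 hd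
    have hyo : orderOf (y : G) = 11 := by rw [Subgroup.orderOf_coe, hy]
    obtain ⟨x, hx, hx1⟩ : ∃ x ∈ (P : Subgroup G), x ≠ (1 : G) := by
      refine (P : Subgroup G).bot_or_exists_ne_one.resolve_left fun hb => ?_
      have := hV.card
      rw [hb, Subgroup.card_bot] at this
      omega
    have hd5 : 5 ∣ cent (y : G) := hV.orderOf_eq hx hx1 ▸ Subgroup.orderOf_dvd_natCard _
      (Subgroup.mem_centralizer_singleton_iff.2 (hV.commute hx y.2).eq)
    obtain ⟨D'⟩ := exists_elevenData hG hyo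
    rw [D'.hcent] at hd5
    norm_num at hd5

omit [IsSimpleGroup G] in
/-- A nontrivial element of the `5'`-part of the centralizer and a faithful representation of
degree divisible by five: the hypotheses of the multiplicity lemma. -/
theorem five_vanish {P V : Subgroup G} (hV : Setup 5 P V) {χ : IrrCharacter G} (hd : 5 ∣ deg χ)
    {x v : G} (hx : x ∈ P) (hv : v ∈ V) (i j : ℕ) (hi : x ^ i ≠ 1) :
    (χ : G → ℂ) (x ^ i * v ^ j) = 0 := by
  refine vanish hG (p := 5) (n := 1) (by norm_num) (by norm_num) (by norm_num) (by simpa using hd) ?_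
  have h5 : orderOf (x ^ i) = 5 := hV.orderOf_eq (Subgroup.pow_mem _ hx i) hi
  have hnd : ¬ 5 ∣ orderOf (v ^ j) := hV.not_dvd_orderOf (Subgroup.pow_mem _ hv j)
  rw [((hV.commute hx hv).pow_pow i j).orderOf_mul_eq_mul_orderOf_of_coprime
    (by rw [h5]; exact (Nat.prime_five.coprime_iff_not_dvd).2 hnd), h5]
  exact dvd_mul_right _ _

/-- There is no character of degree five. -/
theorem deg_ne_five (χ : IrrCharacter G) : deg χ ≠ 5 := by
  intro hd
  have : Fact (Nat.Prime 5) := ⟨Nat.prime_five⟩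
  obtain ⟨P⟩ : Nonempty (Sylow 5 G) := inferInstance
  obtain ⟨V, hV, -, -, -, hc, -, -⟩ := five_setup hG P
  obtain ⟨x, hx, hx1⟩ : ∃ x ∈ (P : Subgroup G), x ≠ (1 : G) := by
    refine (P : Subgroup G).bot_or_exists_ne_one.resolve_left fun hb => ?_
    have := hV.card
    rw [hb, Subgroup.card_bot] at this
    omega
  obtain ⟨r, hr, hrd⟩ := Nat.exists_prime_and_dvd hc.ne'
  have := Fact.mk hr
  obtain ⟨v, hv⟩ := exists_prime_orderOf_dvd_card' r hrd
  have hvo : orderOf (v : G) = r := by rw [Subgroup.orderOf_coe, hv]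
  have hne5 : (5 : ℕ) ≠ r := fun h => hV.not_dvd_orderOf v.2 (by rw [hvo, h])
  obtain ⟨n, ρ, hρ, hρc'⟩ := χ.2
  have hρc := hρc'.symm
  obtain ⟨ε, b, hb, hεr, hεv, hdvd⟩ := Order7920.dvd_multiplicity ρ (p := 5) (r := r)
    Nat.prime_five hr hne5 (hV.pow_eq_one hx) hx1
    (by rw [← hvo]; exact pow_orderOf_eq_one _) (hV.commute hx v.2) (c := 0)
    fun i j hi => by rw [← hρc]; exact five_vanish hG hV (by rw [hd]) hx v.2 i j hi
  have hfr : Module.finrank ℂ (Fin n → ℂ) = 5 := by
    rw [Module.finrank_fin_fun, ← deg_eq_finrank hρc, hd]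
  have hone : ∀ i, ε i = 1 := by
    intro i
    by_contra hne
    obtain ⟨k, hk⟩ := hdvd _ hne
    have hpos : 0 < (Finset.univ.filter fun j => ε j = ε i).card :=
      Finset.card_pos.2 ⟨i, by simp⟩
    have hle := (Finset.univ.filter fun j => ε j = ε i).card_le_univ
    rw [Fintype.card_fin] at hle
    have hall : ∀ j, ε j = ε i := fun j => by
      have hu : (Finset.univ.filter fun j => ε j = ε i) = Finset.univ :=
        Finset.eq_univ_of_card _ (by rw [Fintype.card_fin]; omega)
      have hj := Finset.mem_univ j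
      rw [← hu] at hj
      exact (Finset.mem_filter.1 hj).2
    have hdet : LinearMap.det (ρ (v : G)) = 1 := by
      rw [← CharExt.detHom_apply, hom_eq_one hG (CharExt.detHom ρ)]
      rfl
    have hmat : LinearMap.toMatrix b b (ρ (v : G)) = Matrix.diagonal ε := by
      ext p q
      rw [LinearMap.toMatrix_apply, hb, map_smul, Finsupp.smul_apply, b.repr_self, Matrix.diagonal]
      simp only [Matrix.of_apply, Finsupp.single_apply]
      split_ifs with h1 h2 <;> simp_all
    rw [← LinearMap.det_toMatrix b, hmat, Matrix.det_diagonal,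
      Finset.prod_congr rfl fun j _ => hall j, Finset.prod_const, Finset.card_univ,
      Fintype.card_fin] at hdet
    have hdet5 : ε i ^ 5 = 1 := (congrArg (ε i ^ ·) hfr).symm.trans hdet
    have h1 := pow_gcd_eq_one.2 (⟨hdet5, hεr i⟩ : ε i ^ 5 = 1 ∧ ε i ^ r = 1)
    rw [(Nat.coprime_primes Nat.prime_five hr).2 hne5, pow_one] at h1
    exact hne h1
  have hv1 : (v : G) = 1 := by
    refine faithful hG (χ := χ) (fun e => by rw [e, deg_trivChar] at hd; omega) ?_
    rw [deg_cast, hρc, hεv, Finset.sum_congr rfl fun i _ => hone i, Finset.sum_const,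
      Finset.card_univ, Fintype.card_fin, hfr, hd, nsmul_eq_mul, mul_one]
  rw [hv1, orderOf_one] at hvo
  exact hr.ne_one hvo.symm

omit [IsSimpleGroup G] hG in
/-- The sum of a character over a subgroup is a multiple of its order. -/
theorem exists_sum_subgroup (χ : IrrCharacter G) (H : Subgroup G) [Fintype H] :
    ∃ m : ℕ, ∑ h : H, (χ : G → ℂ) h = (Nat.card H : ℂ) * m := by
  obtain ⟨m, hm⟩ := IsChar.classInner_eq_natCast
    (IsChar.restrict H (IsIrr.isCharacter χ.2)) (isCharacter_one (G := H))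
  refine ⟨m, ?_⟩
  simp only [classInner, map_one, mul_one] at hm
  rw [← hm, ← mul_assoc, mul_inv_cancel₀ (Nat.cast_ne_zero.2 Nat.card_pos.ne'), one_mul]

/-- An element of order three of the centralizer takes the value `-5` at a degree ten. -/
theorem value_three {P V : Subgroup G} (hV : Setup 5 P V) {χ : IrrCharacter G} (hd : deg χ = 10)
    {x v : G} (hx : x ∈ P) (hx1 : x ≠ 1) (hv : v ∈ V) (ho : orderOf v = 3) :
    (χ : G → ℂ) v = -5 := by
  obtain ⟨n, ρ, hρ, hρc'⟩ := χ.2
  have hρc := hρc'.symm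
  obtain ⟨ε, b, hb, hεr, hεv, hdvd⟩ := Order7920.dvd_multiplicity ρ (p := 5) (r := 3)
    Nat.prime_five Nat.prime_three (by norm_num) (hV.pow_eq_one hx) hx1
    (by rw [← ho]; exact pow_orderOf_eq_one _) (hV.commute hx hv) (c := 0)
    fun i j hi => by rw [← hρc]; exact five_vanish hG hV (by rw [hd]; norm_num) hx hv i j hi
  have hfr : Module.finrank ℂ (Fin n → ℂ) = 10 := by
    rw [Module.finrank_fin_fun, ← deg_eq_finrank hρc, hd]
  obtain ⟨ω, hω⟩ : ∃ ω : ℂ, IsPrimitiveRoot ω 3 := ⟨_, Complex.isPrimitiveRoot_exp 3 (by norm_num)⟩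
  have hω1 : ω ≠ 1 := hω.ne_one (by norm_num)
  have hω2 : ω ^ 2 ≠ 1 := hω.pow_ne_one_of_pos_of_lt (by norm_num) (by norm_num)
  have hω12 : ω ≠ ω ^ 2 := fun h => hω1 (by
    have h0 : ω ≠ 0 := hω.ne_zero (by norm_num)
    exact mul_left_cancel₀ h0 (by rw [mul_one, ← pow_two]; exact h.symm))
  have hω3 := hω.pow_eq_one
  have hcase : ∀ i, ε i = 1 ∨ ε i = ω ∨ ε i = ω ^ 2 := fun i => by
    obtain ⟨k, hk, hk'⟩ := hω.eq_pow_of_pow_eq_one (hεr i)
    interval_cases k <;> simp_all
  set A := (Finset.univ.filter fun i => ε i = ω).card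
  set B := (Finset.univ.filter fun i => ε i = ω ^ 2).card
  set C := (Finset.univ.filter fun i => ε i = 1).card
  have hsplit : ∀ {M : Type} [CommMonoid M] (f : ℂ → M),
      ∏ i, f (ε i) = f 1 ^ C * f ω ^ A * f (ω ^ 2) ^ B := by
    intro M _ f
    rw [← Finset.prod_filter_mul_prod_filter_not Finset.univ (fun i => ε i = 1),
      ← Finset.prod_filter_mul_prod_filter_not (Finset.univ.filter fun i => ¬ ε i = 1)
        (fun i => ε i = ω), Finset.filter_filter, Finset.filter_filter, ← mul_assoc]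
    have e1 : (Finset.univ.filter fun i => ¬ ε i = 1 ∧ ε i = ω) =
        Finset.univ.filter fun i => ε i = ω :=
      Finset.filter_congr fun i _ => ⟨And.right, fun h => ⟨fun h' => hω1 (h.symm.trans h'), h⟩⟩
    have e2 : (Finset.univ.filter fun i => ¬ ε i = 1 ∧ ¬ ε i = ω) =
        Finset.univ.filter fun i => ε i = ω ^ 2 :=
      Finset.filter_congr fun i _ => ⟨fun h => ((hcase i).resolve_left h.1).resolve_left h.2,
        fun h => ⟨fun h' => hω2 (h.symm.trans h'), fun h' => hω12 (h'.symm.trans h)⟩⟩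
    rw [e1, e2, Finset.prod_congr rfl fun i hi => by rw [(Finset.mem_filter.1 hi).2],
      Finset.prod_congr rfl (fun i hi => by rw [(Finset.mem_filter.1 hi).2])
        (s₁ := Finset.univ.filter fun i => ε i = ω),
      Finset.prod_congr rfl (fun i hi => by rw [(Finset.mem_filter.1 hi).2])
        (s₁ := Finset.univ.filter fun i => ε i = ω ^ 2),
      Finset.prod_const, Finset.prod_const, Finset.prod_const]
  have hcount : C + A + B = 10 := by
    have h := hsplit (M := Multiplicative ℕ) fun _ => Multiplicative.ofAdd 1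
    have h' := congrArg Multiplicative.toAdd h
    simp [hfr] at h'
    omega
  have hdet : LinearMap.det (ρ v) = 1 := by
    rw [← CharExt.detHom_apply, hom_eq_one hG (CharExt.detHom ρ)]
    rfl
  have hmat : LinearMap.toMatrix b b (ρ v) = Matrix.diagonal ε := by
    ext p q
    rw [LinearMap.toMatrix_apply, hb, map_smul, Finsupp.smul_apply, b.repr_self, Matrix.diagonal]
    simp only [Matrix.of_apply, Finsupp.single_apply]
    split_ifs with h1 h2 <;> simp_all
  rw [← LinearMap.det_toMatrix b, hmat, Matrix.det_diagonal,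
    show ∏ i, ε i = _ from hsplit (M := ℂ) id] at hdet
  simp only [id, one_pow, one_mul] at hdet
  rw [← pow_mul, ← pow_add] at hdet
  have hmod : 3 ∣ A + 2 * B := (hω.pow_eq_one_iff_dvd _).1 hdet
  obtain ⟨a, ha⟩ := hdvd ω hω1
  obtain ⟨b', hb'⟩ := hdvd (ω ^ 2) hω2
  have hA : A = 5 * a := ha
  have hB : B = 5 * b' := hb'
  have hne : A + B ≠ 0 := fun h0 => by
    have hall : ∀ i, ε i = 1 := fun i => by
      rcases hcase i with h | h | h
      · exact h
      · exact absurd (Finset.card_pos.2 ⟨i, Finset.mem_filter.2 ⟨Finset.mem_univ i, h⟩⟩ : 0 < A)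
          (by omega)
      · exact absurd (Finset.card_pos.2 ⟨i, Finset.mem_filter.2 ⟨Finset.mem_univ i, h⟩⟩ : 0 < B)
          (by omega)
    have : v = 1 := by
      refine faithful hG (χ := χ) (fun e => by rw [e, deg_trivChar] at hd; omega) ?_
      rw [deg_cast, hρc, hεv, Finset.sum_congr rfl fun i _ => hall i, Finset.sum_const,
        Finset.card_univ, Fintype.card_fin, hfr, hd, nsmul_eq_mul, mul_one]
    rw [this, orderOf_one] at ho
    omega
  have key : ∀ A B C : ℕ, C + A + B = 10 → 5 ∣ A → 5 ∣ B → 3 ∣ A + 2 * B → A + B ≠ 0 →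
      A = 5 ∧ B = 5 ∧ C = 0 := by
    intro A B C h1 h2 h3 h4 h5
    omega
  have hA5 := key A B C hcount ⟨a, hA⟩ ⟨b', hB⟩ hmod hne
  rw [hρc, hεv]
  have hs : ∑ i, ε i = (C : ℂ) * 1 + (A : ℂ) * ω + (B : ℂ) * ω ^ 2 := by
    have h := hsplit (M := Multiplicative ℂ) fun z => Multiplicative.ofAdd z
    have h' := congrArg Multiplicative.toAdd h
    simpa [toAdd_prod, nsmul_eq_mul] using h'
  rw [hs, hA5.1, hA5.2.1, hA5.2.2]
  have hsum : 1 + ω + ω ^ 2 = 0 := by
    have h := hω.geom_sum_eq_zero (by norm_num)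
    simpa [Finset.sum_range_succ] using h
  push_cast
  linear_combination 5 * hsum

/-- The conjugate of a character under a power map prime to the order. -/
theorem exists_powerMap (χ : IrrCharacter G) {m : ℕ} (hm : m.Coprime 95040) :
    ∃ ψ : IrrCharacter G, ∀ g, (ψ : G → ℂ) g = (χ : G → ℂ) (g ^ m) := by
  have hN : NeZero (Nat.card G) := ⟨Nat.card_pos.ne'⟩
  refine ⟨ZMod.unitOfCoprime m (hG ▸ hm) • χ, fun g => ?_⟩
  show (χ : G → ℂ) (g ^ _) = _
  rw [ZMod.coe_unitOfCoprime, ZMod.val_natCast, pow_mod_natCard]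

/-- At an element of order nine of the centralizer a degree ten is not fixed by `g ↦ g ^ 4`. -/
theorem not_fixed_nine {P V : Subgroup G} (hV : Setup 5 P V) {χ : IrrCharacter G} (hd : deg χ = 10)
    {x w : G} (hx : x ∈ P) (hx1 : x ≠ 1) (hw : w ∈ V) (ho : orderOf w = 9)
    (hfix : ∀ k : ℕ, (χ : G → ℂ) (w ^ (4 * k)) = (χ : G → ℂ) (w ^ k)) : False := by
  obtain ⟨n, ρ, hρ, hρc'⟩ := χ.2
  have hρc := hρc'.symm
  obtain ⟨μ, hμ, -, hpow, -⟩ := exists_eigenvalues ρ w
  rw [ho] at hμ
  have hfr : Module.finrank ℂ (Fin n → ℂ) = 10 := by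
    rw [Module.finrank_fin_fun, ← deg_eq_finrank hρc, hd]
  set f : ℕ → ℂ := fun k => ρ.character (w ^ k) with hf
  have hw9 : w ^ 9 = 1 := by rw [← ho]; exact pow_orderOf_eq_one w
  have hper : ∀ k, f k = f (k % 9) := fun k => by
    show ρ.character _ = ρ.character _
    rw [← ho, pow_mod_orderOf]
  have h0 : f 0 = 10 := by simp [hf, hfr]
  have h3o : ∀ k, k = 3 ∨ k = 6 → orderOf (w ^ k) = 3 := fun k hk => by
    rw [orderOf_pow, ho]
    rcases hk with rfl | rfl <;> norm_num
  have h3 : ∀ k, k = 3 ∨ k = 6 → f k = -5 := fun k hk => by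
    show ρ.character _ = _
    rw [← hρc]
    exact value_three hG hV hd hx hx1 (Subgroup.pow_mem _ hw k) (h3o k hk)
  have h4 : ∀ k, f (4 * k) = f k := fun k => by
    show ρ.character _ = ρ.character _
    rw [← hρc]; exact hfix k
  -- no eigenvalue with trivial cube
  have hcube : ∀ i, μ i ^ 3 ≠ 1 := by
    intro i hi
    have hsum : ∑ k ∈ Finset.range 3, f (3 * k) =
        3 * ((Finset.univ.filter fun j => μ j ^ 3 = 1).card : ℂ) := by
      simp only [hf, hpow]
      rw [Finset.sum_comm, Finset.sum_congr rfl fun j _ => by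
        rw [Finset.sum_congr rfl fun k _ => pow_mul (μ j) 3 k,
          Order7920.geom_root (show (μ j ^ 3) ^ 3 = 1 by rw [← pow_mul]; exact hμ j)],
        ← Finset.sum_filter, Finset.sum_const, nsmul_eq_mul, mul_comm]
      norm_num
    simp only [Finset.sum_range_succ, Finset.sum_range_zero, zero_add, Nat.reduceMul, h0,
      h3 3 (Or.inl rfl), h3 6 (Or.inr rfl)] at hsum
    norm_num at hsum
    exact hsum hi
  have htri : ∀ k : ℕ, k = 1 ∨ k = 2 → f k + f (4 * k) + f (7 * k) = 0 := by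
    intro k hk
    simp only [hf, hpow, ← Finset.sum_add_distrib]
    refine Finset.sum_eq_zero fun i _ => ?_
    have h9 : ((μ i) ^ (3 * k)) ^ 3 = 1 := by
      rw [← pow_mul, show 3 * k * 3 = 9 * k by ring, pow_mul, hμ i, one_pow]
    have hne : (μ i) ^ (3 * k) ≠ 1 := by
      rcases hk with rfl | rfl
      · simpa using hcube i
      · intro h
        refine hcube i ?_
        calc μ i ^ 3 = μ i ^ 3 * μ i ^ 9 := by rw [hμ i, mul_one]
          _ = (μ i ^ (3 * 2)) ^ 2 := by ring
          _ = 1 := by rw [h, one_pow]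
    have hg := Order7920.geom_root h9
    rw [if_neg hne] at hg
    simp only [Finset.sum_range_succ, Finset.sum_range_zero, zero_add, pow_zero, pow_one] at hg
    linear_combination (μ i ^ k) * hg
  have h1 : f 1 = 0 := by
    have := htri 1 (Or.inl rfl)
    rw [h4 1, show f (7 * 1) = f 1 by
      rw [hper (7 * 1), show 7 * 1 % 9 = (4 * (4 * 1)) % 9 from rfl, ← hper, h4, h4]] at this
    linear_combination this / 3
  have h2 : f 2 = 0 := by
    have := htri 2 (Or.inr rfl)
    rw [h4 2, show f (7 * 2) = f 2 by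
      rw [hper (7 * 2), show 7 * 2 % 9 = (4 * (4 * 2)) % 9 from rfl, ← hper, h4, h4]] at this
    linear_combination this / 3
  have hz : ∀ k, k = 1 ∨ k = 4 ∨ k = 7 ∨ k = 2 ∨ k = 5 ∨ k = 8 → f k = 0 := by
    intro k hk
    rcases hk with rfl | rfl | rfl | rfl | rfl | rfl
    · exact h1
    · rw [show 4 = 4 * 1 from rfl, h4, h1]
    · rw [hper, show 7 % 9 = (4 * (4 * 1)) % 9 from rfl, ← hper, h4, h4, h1]
    · exact h2
    · rw [hper, show 5 % 9 = (4 * (4 * 2)) % 9 from rfl, ← hper, h4, h4, h2]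
    · rw [show 8 = 4 * 2 from rfl, h4, h2]
  obtain ⟨ζ, hζ⟩ : ∃ ζ : ℂ, IsPrimitiveRoot ζ 9 := ⟨_, Complex.isPrimitiveRoot_exp 9 (by norm_num)⟩
  have hS : ∑ k ∈ Finset.range 9, f k * ζ⁻¹ ^ k =
      9 * ((Finset.univ.filter fun j => μ j = ζ).card : ℂ) := by
    simp only [hf, hpow, Finset.sum_mul]
    rw [Finset.sum_comm, Finset.sum_congr rfl fun j _ => by
      rw [Finset.sum_congr rfl fun k _ => (mul_pow (μ j) ζ⁻¹ k).symm,
        Order7920.geom_root (show (μ j * ζ⁻¹) ^ 9 = 1 by
          rw [mul_pow, hμ j, inv_pow, hζ.pow_eq_one, inv_one, one_mul])],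
      ← Finset.sum_filter, Finset.sum_const, nsmul_eq_mul, mul_comm]
    congr 2
    rw [Finset.filter_congr fun j _ => mul_inv_eq_one₀ (hζ.ne_zero (by norm_num))]
  simp only [Finset.sum_range_succ, Finset.sum_range_zero, zero_add, h0, h3 3 (Or.inl rfl),
    h3 6 (Or.inr rfl), hz 1 (by simp), hz 2 (by simp), hz 4 (by simp), hz 5 (by simp),
    hz 7 (by simp), hz 8 (by simp), zero_mul, add_zero, pow_zero, mul_one] at hS
  have hsum3 : 1 + ζ⁻¹ ^ 3 + ζ⁻¹ ^ 6 = 0 := by
    have hp := (hζ.inv.pow (by norm_num) (show 9 = 3 * 3 from rfl)).geom_sum_eq_zero (by norm_num)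
    simp only [Finset.sum_range_succ, Finset.sum_range_zero, zero_add, ← pow_mul] at hp
    exact hp
  have : ((9 * (Finset.univ.filter fun j => μ j = ζ).card : ℕ) : ℂ) = ((15 : ℕ) : ℂ) := by
    push_cast
    linear_combination -hS - 5 * hsum3
  have := Nat.cast_injective this
  omega

end CfsgLib.Blocks.Order95040
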