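import Cfsg.Agent.Lib.Blocks.Order95040.FiveInertia
import Cfsg.Agent.Lib.Blocks.Order95040.Congr

/-!
# The configuration at five and eleven

The principal block at eleven has the degrees 1, 45, 54, 120, 144, 16, 16, and an element of order
five has a centralizer of order ten and is conjugate to all its powers.
-/

set_option autoImplicit false

namespace CfsgLib.Blocks.Order95040

open Cfsg CfsgLib CfsgLib.Char CfsgLib.CharIntegral CfsgLib.Blocks.PrimeSylow
open scoped Classical ComplexConjugate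

variable {G : Type*} [Group G] [Fintype G]

/-- The characters, elements and columns found so far. -/
structure FiveData {z : G} (D : ElevenData z) where
  a45 : IrrCharacter G
  a54 : IrrCharacter G
  a120 : IrrCharacter G
  a144 : IrrCharacter G
  b1 : IrrCharacter G
  b2 : IrrCharacter G
  x : G
  v : G
  n : G
  t : G
  u : ℤ
  d45 : deg a45 = 45
  d54 : deg a54 = 54
  d120 : deg a120 = 120
  d144 : deg a144 = 144
  d1 : deg b1 = 16
  d2 : deg b2 = 16
  hX : D.X = {trivChar G, a45, a54, a120, a144}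
  hY : D.Y = {b1, b2}
  hne : b1 ≠ b2
  hε : D.ε = 1
  hx : orderOf x = 5
  hv : orderOf v = 2
  ht : orderOf t = 2
  hxv : Commute x v
  hnx : n * x * n⁻¹ = x ^ 2
  hnv : n * v * n⁻¹ = v
  cent_x : cent x = 10
  cent_xv : cent (x * v) = 10
  cent_t : cent t = 192
  cent_v : cent v = 120 ∨ cent v = 240
  hu : u = 4 ∨ u = -4
  x45 : (a45 : G → ℂ) x = 0
  x54 : (a54 : G → ℂ) x = -1
  x120 : (a120 : G → ℂ) x = 0
  x144 : (a144 : G → ℂ) x = -1
  x16 : ∀ θ ∈ D.Y, (θ : G → ℂ) x = 1
  v45 : (a45 : G → ℂ) v = 5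
  v54 : (a54 : G → ℂ) v = 6
  v120 : (a120 : G → ℂ) v = 0
  v144 : (a144 : G → ℂ) v = (u : ℂ)
  v16 : ∀ θ ∈ D.Y, (θ : G → ℂ) v = (u : ℂ)
  t45 : (a45 : G → ℂ) t = -3
  t54 : (a54 : G → ℂ) t = 6
  t120 : (a120 : G → ℂ) t = -8
  t144 : (a144 : G → ℂ) t = 0
  t16 : ∀ θ ∈ D.Y, (θ : G → ℂ) t = 0

variable [IsSimpleGroup G] (hG : Nat.card G = 95040)
include hG

omit hG [IsSimpleGroup G] [Fintype G] in
/-- The sum over the nontrivial nonexceptional characters, in a configuration. -/
theorem addAll_a_eq {X : Finset (IrrCharacter G)} {w : IrrCharacter G → ℤ} {L : List Ty}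
    (h : X.val.map (fun (χ : IrrCharacter G) => (⟨deg χ, sgn (deg χ), w χ⟩ : Ty)) = L) :
    1 + ∑ χ ∈ X, sgn (deg χ) * (deg χ : ℤ) =
      ((⟨0, 0, 1, 1, 4320⟩ : Acc).addAll (L : Multiset Ty)).a := by
  rw [← h, addAll_map]

omit [IsSimpleGroup G] in
/-- The sums over the principal block at eleven at an element of order prime to eleven. -/
theorem block_totals {z : G} (D : ElevenData z) {g : G} (hg : ¬ 11 ∣ orderOf g)
    {w : IrrCharacter G → ℤ} (hw : ∀ χ : IrrCharacter G, (χ : G → ℂ) g = (w χ : ℂ))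
    {θ : IrrCharacter G} (hθ : θ ∈ D.Y) :
    (⟨0, 0, 1, 1, 4320⟩ : Acc).addAll ((D.X.erase (trivChar G)).val.map
        fun (χ : IrrCharacter G) => ⟨deg χ, sgn (deg χ), w χ⟩) =
      (⟨∑ χ ∈ D.X.erase (trivChar G), (w χ).natAbs * (w χ).natAbs,
        ∑ χ ∈ D.X.erase (trivChar G), deg χ * deg χ, D.ε * deg θ, D.ε * w θ,
        4320 + ∑ χ ∈ D.X.erase (trivChar G),
          sgn (deg χ) * (w χ * w χ) * ((4320 / deg χ : ℕ) : ℤ)⟩ : Acc) ∧
    (∀ ψ ∈ D.Y, deg ψ = deg θ ∧ w ψ = w θ) ∧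
    1 + ∑ χ ∈ D.X.erase (trivChar G), (w χ).natAbs * (w χ).natAbs +
      2 * ((w θ).natAbs * (w θ).natAbs) ≤ cent g ∧
    ∑ χ ∈ D.X.erase (trivChar G), deg χ * deg χ ≤ 95040 := by
  have hw1 : w (trivChar G) = 1 := by
    have h1 := hw (trivChar G)
    rw [trivChar_apply] at h1
    exact_mod_cast h1.symm
  have h1 : ¬ 11 ∣ orderOf (1 : G) := by rw [orderOf_one]; norm_num
  have hYd : ∀ ψ ∈ D.Y, D.ε * (deg ψ : ℤ) = ∑ χ ∈ D.X, sgn (deg χ) * (deg χ : ℤ) := fun ψ hψ => by
    have h2 := D.relY ψ hψ 1 h1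
    simp only [deg_cast] at h2
    exact_mod_cast h2
  have hYw : ∀ ψ ∈ D.Y, D.ε * w ψ = ∑ χ ∈ D.X, sgn (deg χ) * w χ := fun ψ hψ => by
    have h2 := D.relY ψ hψ g hg
    simp only [hw] at h2
    exact_mod_cast h2
  have hsame : ∀ ψ ∈ D.Y, deg ψ = deg θ ∧ w ψ = w θ := fun ψ hψ => by
    have h2 := (hYw ψ hψ).trans (hYw θ hθ).symm
    have h3 := (hYd ψ hψ).trans (hYd θ hθ).symm
    rcases D.hε with e | e <;> rw [e] at h2 h3 <;> constructor <;> omega
  refine ⟨?_, hsame, ?_, hG ▸ sum_sq_deg_le _⟩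
  · rw [addAll_map, hYd θ hθ, hYw θ hθ, ← Finset.add_sum_erase _ _ D.triv,
      ← Finset.add_sum_erase D.X (fun χ => sgn (deg χ) * w χ) D.triv, deg_trivChar, hw1,
      show sgn 1 = 1 from rfl]
    simp
  · have h2 := sum_sq_le_cent (g := g) (D.X ∪ D.Y) w fun ψ _ => hw ψ
    rw [Finset.sum_union D.disj, ← Finset.add_sum_erase _ _ D.triv,
      Finset.sum_congr rfl (fun ψ hψ => by rw [(hsame ψ hψ).2]) (s₁ := D.Y), Finset.sum_const,
      D.cardY, smul_eq_mul, hw1] at h2
    simpa only [Int.natAbs_one, mul_one, Nat.one_mul] using h2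

omit [IsSimpleGroup G] in
/-- The column test at an element of order five. -/
theorem column_five {z : G} (D : ElevenData z) {ds : List ℕ}
    (hds : (D.X.erase (trivChar G)).val.map deg = (ds : Multiset ℕ))
    {x : G} (hx : orderOf x = 5) (hconj : ∀ k, 0 < k → k < 5 → IsConj (x ^ k) x)
    (hmem : cent x ∈ centsFive) (hds' : ds ∈ [degsTrue, degsOther])
    (hC : cent x = 135 ∨ ds = degsTrue) :
    cent x = 10 ∧ ds = degsTrue ∧ ∃ w : IrrCharacter G → ℤ,
      (∀ χ : IrrCharacter G, (χ : G → ℂ) x = (w χ : ℂ)) ∧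
      (D.X.erase (trivChar G)).val.map (fun (χ : IrrCharacter G) =>
        (⟨deg χ, sgn (deg χ), w χ⟩ : Ty)) = columnFive := by
  have hcl : ∀ (χ : IrrCharacter G) (k : ℕ), 0 < k → k < 5 →
      (χ : G → ℂ) (x ^ k) = (χ : G → ℂ) x := fun χ k h1 h2 => by
    obtain ⟨c, hc⟩ := isConj_iff.1 (hconj k h1 h2)
    have h3 := IsIrr.isClassFunction χ.2 (x ^ k) c
    rw [hc] at h3
    exact h3.symm
  have hint : ∀ χ : IrrCharacter G, ∃ w : ℤ, (χ : G → ℂ) x = (w : ℂ) := fun χ =>
    exists_int_value χ fun m hm => by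
      rw [← pow_mod_orderOf, hx]
      refine hconj _ (Nat.pos_of_ne_zero fun h0 => ?_) (Nat.mod_lt _ (by norm_num))
      rw [hx] at hm
      have := Nat.eq_one_of_dvd_coprimes hm (Nat.dvd_of_mod_eq_zero h0) dvd_rfl
      omega
  choose w hw using hint
  have hgood : ∀ χ : IrrCharacter G, goodFive (deg χ) (w χ) = true := fun χ => by
    simp only [goodFive, Bool.and_eq_true, Bool.or_eq_true, beq_iff_eq, bne_iff_ne]
    refine ⟨?_, ?_⟩
    · have h := value_congr (p := 5) (A := 1) (B := 0) (by norm_num) (g := x) (by rw [hx]) χ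
        (u := w χ) (v := (deg χ : ℤ)) (fun k hk hk5 => ?_) (by rw [pow_zero, deg_cast]; norm_num)
      · omega
      · rw [mul_one, add_zero, hcl χ k hk hk5, hw]
    · by_cases hd : deg χ % 5 = 0
      · right
        have h0 := vanish hG (p := 5) (n := 1) (by norm_num) (by norm_num) (by norm_num)
          (χ := χ) (by simpa using Nat.dvd_of_mod_eq_zero hd) (x := x) (by rw [hx])
        rw [hw] at h0
        exact_mod_cast h0
      · exact Or.inl hd
  obtain ⟨θ, hθ⟩ : D.Y.Nonempty := by rw [← Finset.card_pos, D.cardY]; norm_num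
  obtain ⟨hA, hsame, hnorm, hd2⟩ := block_totals hG D (by rw [hx]; norm_num) hw hθ
  have hCle : cent x ≤ 2160 := by
    have h : ∀ C ∈ centsFive, C ≤ 2160 := by decide
    exact h _ hmem
  set M := (D.X.erase (trivChar G)).val.map fun (χ : IrrCharacter G) =>
    (⟨deg χ, sgn (deg χ), w χ⟩ : Ty) with hM
  obtain ⟨L, hL, hfin⟩ := searchL_sound (search_five _ hmem _ hds' hC) M
    (by rw [hM, Multiset.card_map, ← Finset.card_def, Finset.card_erase_of_mem D.triv, D.cardX])
    (fun u hu => by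
      obtain ⟨χ, hχ, rfl⟩ := Multiset.mem_map.1 hu
      refine mem_typesFrom ?_ (by omega) ?_
        (Int.emod_eq_zero_of_dvd (dvd_index_mul hG χ (hw χ))) (hgood χ)
      · have : deg χ ∈ (ds : Multiset ℕ) := hds ▸ Multiset.mem_map.2 ⟨χ, hχ, rfl⟩
        exact Multiset.mem_coe.1 this
      · have h4 := sum_sq_le_cent (g := x) {χ} w fun ψ _ => hw ψ
        rwa [Finset.sum_singleton] at h4)
    (by rw [hA]; dsimp only; omega) (by rw [hA]; exact hd2)
  rw [Multiset.coe_nil, zero_add] at hL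
  have hperm : (L.map Ty.d).isPerm ds = true := by
    rw [List.isPerm_iff, ← Multiset.coe_eq_coe, ← hds, ← Multiset.map_coe, hL, hM, Multiset.map_map]
    rfl
  have hok : okFive (cent x) ((⟨0, 0, 1, 1, 4320⟩ : Acc).addAll M) = true := by
    rw [hA]
    have hy : (D.ε * (deg θ : ℤ)).natAbs = deg θ := by rcases D.hε with e | e <;> simp [e]
    have hy1 := D.neY θ hθ
    have hs : (if 0 ≤ D.ε * (deg θ : ℤ) then (1 : ℤ) else -1) = D.ε := by
      rcases D.hε with e | e <;> rw [e] <;> (split_ifs <;> omega)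
    have hee : D.ε * (D.ε * w θ) = w θ := by rcases D.hε with e | e <;> simp [e]
    simp only [okFive, hy, hs, hee, Bool.and_eq_true, decide_eq_true_eq, beq_iff_eq]
    exact ⟨⟨Int.emod_eq_zero_of_dvd (dvd_index_mul hG θ (hw θ)), hgood θ⟩, hnorm⟩
  simp only [finalFive, hok, hperm, Bool.and_self, Bool.not_true, Bool.false_or, Bool.and_eq_true,
    beq_iff_eq, List.isPerm_iff] at hfin
  exact ⟨hfin.1.1, hfin.1.2, w, hw, hL.symm.trans (Multiset.coe_eq_coe.2 hfin.2)⟩

/-- The column test at an involution commuting with an element of order five. -/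
theorem column_five_involution {z : G} (D : ElevenData z) {ds : List ℕ}
    (hds : (D.X.erase (trivChar G)).val.map deg = (ds : Multiset ℕ))
    (hds' : ds ∈ [degsTrue, degsOther])
    {x v : G} (hx : orderOf x = 5) (hv : orderOf v = 2) (hc : Commute x v) :
    ds = degsTrue ∧ ∃ w : IrrCharacter G → ℤ,
      (∀ χ : IrrCharacter G, (χ : G → ℂ) v = (w χ : ℂ)) ∧
      ∃ e ∈ columnsFiveInv, cent v ∈ e.1 ∧
      (D.X.erase (trivChar G)).val.map (fun (χ : IrrCharacter G) =>
        (⟨deg χ, sgn (deg χ), w χ⟩ : Ty)) = e.2 := by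
  obtain ⟨w, hw, hmemX, hCle, h11, hY, hn, hd⟩ := column_involution hG D hv
  have hmem : cent v ∈ centsFiveInv := by
    obtain ⟨m, hm⟩ : 10 ∣ cent v := (by norm_num : Nat.Coprime 2 5).mul_dvd_of_dvd_of_dvd
      (hv ▸ Subgroup.orderOf_dvd_natCard _ (Subgroup.mem_centralizer_singleton_iff.2 rfl))
      (hx ▸ Subgroup.orderOf_dvd_natCard _ (Subgroup.mem_centralizer_singleton_iff.2 hc.eq))
    rw [hm]
    refine mem_centsFiveInv m (List.mem_range.2 (by omega))
      (hm ▸ Nat.mod_eq_zero_of_dvd (cent_dvd hG v)) fun h0 => h11 ?_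
    rw [hm]
    exact Dvd.dvd.mul_left (Nat.dvd_of_mod_eq_zero h0) 10
  have hvp : ¬ 5 ∣ orderOf v := by rw [hv]; norm_num
  have hgood : ∀ χ : IrrCharacter G, deg χ % 5 = 0 → w χ % 5 = 0 := by
    intro χ hd5
    have hd5' : 5 ^ 1 ∣ deg χ := by simpa using Nat.dvd_of_mod_eq_zero hd5
    have hord : ∀ k, 0 < k → k < 5 → 5 ∣ orderOf (x ^ k * v) := fun k h1 h2 => by
      have h5 : orderOf (x ^ k) = 5 := by
        rw [orderOf_pow, hx]; interval_cases k <;> norm_num
      rw [(hc.pow_left k).orderOf_mul_eq_mul_orderOf_of_coprime (by rw [h5, hv]; norm_num), h5]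
      exact dvd_mul_right _ _
    have hq : orderOf (x * v) = 10 := by
      rw [hc.orderOf_mul_eq_mul_orderOf_of_coprime (by rw [hx, hv]; norm_num), hx, hv]
    have hq5 : (x * v) ^ 5 = v := by
      rw [hc.mul_pow, show x ^ 5 = 1 by rw [← hx]; exact pow_orderOf_eq_one x, one_mul,
        show v ^ 5 = v by rw [show (5 : ℕ) = 2 * 2 + 1 from rfl, pow_succ, pow_mul,
          show v ^ 2 = 1 by rw [← hv]; exact pow_orderOf_eq_one v, one_pow, one_mul]]
    have h := value_congr (p := 5) (A := 2) (B := 5) (by norm_num) (g := x * v)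
      (by rw [hq]) χ (u := 0) (v := w χ) (fun k h1 h2 => ?_) (by rw [hq5, hw])
    · omega
    · rw [Int.cast_zero]
      refine vanish hG (p := 5) (n := 1) (by norm_num) (by norm_num) (by norm_num) hd5' ?_
      rw [orderOf_pow, hq]
      interval_cases k <;> norm_num
  obtain ⟨θ, hθ⟩ : D.Y.Nonempty := by rw [← Finset.card_pos, D.cardY]; norm_num
  obtain ⟨hA, hok⟩ := hY θ hθ
  set M := (D.X.erase (trivChar G)).val.map fun (χ : IrrCharacter G) =>
    (⟨deg χ, sgn (deg χ), w χ⟩ : Ty) with hM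
  obtain ⟨L, hL, hfin⟩ := searchL_sound (search_five_inv _ hmem _ hds') M
    (by rw [hM, Multiset.card_map, ← Finset.card_def, Finset.card_erase_of_mem D.triv, D.cardX])
    (fun u hu => by
      obtain ⟨χ, hχ, rfl⟩ := Multiset.mem_map.1 hu
      obtain ⟨h1, h2, h3, h4⟩ := hmemX χ hχ
      refine mem_typesFrom ?_ (by omega) h3 h4 ?_
      · have : deg χ ∈ (ds : Multiset ℕ) := hds ▸ Multiset.mem_map.2 ⟨χ, hχ, rfl⟩
        exact Multiset.mem_coe.1 this
      · simp only [goodInvFive, h2, Bool.true_and, Bool.or_eq_true, bne_iff_ne, beq_iff_eq]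
        by_cases h5 : deg χ % 5 = 0
        · exact Or.inr (hgood χ h5)
        · exact Or.inl h5) hn hd
  rw [Multiset.coe_nil, zero_add] at hL
  have hperm : (L.map Ty.d).isPerm ds = true := by
    rw [List.isPerm_iff, ← Multiset.coe_eq_coe, ← hds, ← Multiset.map_coe, hL, hM, Multiset.map_map]
    rfl
  have hok' : goodInvFive ((⟨0, 0, 1, 1, 4320⟩ : Acc).addAll M).a.natAbs
      ((if 0 ≤ ((⟨0, 0, 1, 1, 4320⟩ : Acc).addAll M).a then 1 else -1) *
        ((⟨0, 0, 1, 1, 4320⟩ : Acc).addAll M).b) = true := by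
    rw [hA]
    have hy : (D.ε * (deg θ : ℤ)).natAbs = deg θ := by rcases D.hε with e | e <;> simp [e]
    have hy1 := D.neY θ hθ
    have hs : (if 0 ≤ D.ε * (deg θ : ℤ) then (1 : ℤ) else -1) = D.ε := by
      rcases D.hε with e | e <;> rw [e] <;> (split_ifs <;> omega)
    have hee : D.ε * (D.ε * w θ) = w θ := by rcases D.hε with e | e <;> simp [e]
    simp only [hy, hs, hee, goodInvFive, goodInv, Bool.and_eq_true, Bool.or_eq_true, bne_iff_ne,
      beq_iff_eq, decide_eq_true_eq]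
    have hθne : θ ≠ trivChar G := fun e => Finset.disjoint_left.1 D.disj D.triv (e ▸ hθ)
    obtain ⟨w', hw', hw4, hwlt⟩ := value_involution hG hv θ
    have hww : w' = w θ := by
      have h := hw'.symm.trans (hw θ)
      exact_mod_cast h
    subst hww
    refine ⟨⟨hwlt hθne, hw4⟩, ?_⟩
    by_cases h5 : deg θ % 5 = 0
    · exact Or.inr (hgood θ h5)
    · exact Or.inl h5
  simp only [finalFiveInv, hok, hok', hperm, Bool.and_self, Bool.not_true, Bool.false_or,
    Bool.and_eq_true, beq_iff_eq, List.any_eq_true, List.contains_iff_mem, List.isPerm_iff] at hfin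
  obtain ⟨h1, e, he, he1, he2⟩ := hfin
  exact ⟨h1, w, hw, e, he, he1, hL.symm.trans (Multiset.coe_eq_coe.2 he2)⟩

omit [IsSimpleGroup G] [Fintype G] hG in
/-- The value of a member of a block from a list of types with distinct degrees. -/
theorem value_of_list {X : Finset (IrrCharacter G)} {w : IrrCharacter G → ℤ} {L : List Ty}
    (h : X.val.map (fun (χ : IrrCharacter G) => (⟨deg χ, sgn (deg χ), w χ⟩ : Ty)) = L)
    {χ : IrrCharacter G} (hχ : χ ∈ X) {v : ℤ}
    (hv : ∀ t ∈ L, t.d = deg χ → t.v = v) : w χ = v := by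
  have hm : (⟨deg χ, sgn (deg χ), w χ⟩ : Ty) ∈ (L : Multiset Ty) :=
    h ▸ Multiset.mem_map.2 ⟨χ, hχ, rfl⟩
  exact hv _ (Multiset.mem_coe.1 hm) rfl

/-- The configuration exists. -/
theorem exists_fiveData {z : G} (D : ElevenData z) : Nonempty (FiveData D) := by
  have : Fact (Nat.Prime 5) := ⟨Nat.prime_five⟩
  obtain ⟨t, ht, hct, wt, hwt, hcfg⟩ := exists_column_two hG D
  obtain ⟨ds, hds', hds, y, hy, he⟩ : ∃ ds ∈ [degsTrue, degsOther],
      (D.X.erase (trivChar G)).val.map deg = (ds : Multiset ℕ) ∧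
      ∃ y, (∀ θ ∈ D.Y, deg θ = y) ∧
        (ds, y) ∈ [(([45, 54, 120, 144] : List ℕ), 16), ([32, 45, 54, 120], 160)] := by
    have hY : ∀ L : List Ty, (D.X.erase (trivChar G)).val.map (fun (χ : IrrCharacter G) =>
        (⟨deg χ, sgn (deg χ), wt χ⟩ : Ty)) = L → ∀ θ ∈ D.Y,
        (((⟨0, 0, 1, 1, 4320⟩ : Acc).addAll (L : Multiset Ty)).a).natAbs = deg θ := by
      intro L hL θ hθ
      rw [← hL, (block_totals hG D (g := t) (by rw [ht]; norm_num) hwt hθ).1]
      rcases D.hε with e | e <;> simp [e]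
    have hd : ∀ L : List Ty, (D.X.erase (trivChar G)).val.map (fun (χ : IrrCharacter G) =>
        (⟨deg χ, sgn (deg χ), wt χ⟩ : Ty)) = L →
        (D.X.erase (trivChar G)).val.map deg = ((L.map Ty.d : List ℕ) : Multiset ℕ) := by
      intro L hL
      rw [← Multiset.map_coe, ← hL, Multiset.map_map]
      rfl
    rcases hcfg with h | h
    · exact ⟨degsTrue, by simp, hd _ h, 16, fun θ hθ => (hY _ h θ hθ).symm.trans (by decide), by simp [degsTrue]⟩
    · exact ⟨degsOther, by simp, hd _ h, 160, fun θ hθ => (hY _ h θ hθ).symm.trans (by decide), by simp [degsOther]⟩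
  have hdsX : ∀ χ ∈ D.X, χ ≠ trivChar G → deg χ ∈ ds := fun χ hχ hne => Multiset.mem_coe.1
    (hds ▸ Multiset.mem_map.2 ⟨χ, Finset.mem_erase.2 ⟨hne, hχ⟩, rfl⟩)
  obtain ⟨P⟩ : Nonempty (Sylow 5 G) := inferInstance
  obtain ⟨V, hV, hN, hcV, hconjP⟩ := inertia_four hG he D hdsX hy P
  obtain ⟨x, hxP, hx1⟩ : ∃ x ∈ (P : Subgroup G), x ≠ (1 : G) := by
    refine (P : Subgroup G).bot_or_exists_ne_one.resolve_left fun hb => ?_
    have := hV.card
    rw [hb, Subgroup.card_bot] at this
    omega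
  have hx := hV.orderOf_eq hxP hx1
  obtain ⟨n, hn, hnx⟩ := hconjP x hxP hx1
  have hcent : cent x = 5 * Nat.card V := by
    show Nat.card (Subgroup.centralizer ({x} : Set G)) = _
    rw [hV.centralizer_singleton hxP hx1, hV.card_centralizer]
  have hconj : ∀ k, 0 < k → k < 5 → IsConj (x ^ k) x := by
    have h1 : IsConj x (x ^ 2) := isConj_iff.2 ⟨n, hnx⟩
    have h2 : IsConj (x ^ 2) (x ^ 4) := isConj_iff.2 ⟨n, by rw [← conj_pow, hnx, ← pow_mul]⟩
    have h3 : IsConj (x ^ 4) (x ^ 3) := isConj_iff.2 ⟨n, by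
      rw [← conj_pow, hnx, ← pow_mul, ← pow_mod_orderOf, hx]⟩
    intro k hk hk5
    interval_cases k
    · rw [pow_one]
    · exact h1.symm
    · exact ((h1.trans h2).trans h3).symm
    · exact (h1.trans h2).symm
  have hmemx : cent x ∈ centsFive := hcent ▸ hcV
  have hne135 : cent x ≠ 135 := fun h => by
    have := (column_five hG D hds hx hconj hmemx hds' (Or.inl h)).1
    omega
  have heven : 2 ∣ Nat.card V := by
    have h : ∀ C ∈ centsFive, C = 135 ∨ 10 ∣ C := by decide
    have h10 := (h _ hmemx).resolve_left hne135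
    rw [hcent] at h10
    omega
  have : Fact (Nat.Prime 2) := ⟨Nat.prime_two⟩
  obtain ⟨v, hv'⟩ := exists_prime_orderOf_dvd_card' (G := V) 2 heven
  have hv : orderOf (v : G) = 2 := by rw [Subgroup.orderOf_coe, hv']
  have hxv := hV.commute hxP v.2
  obtain ⟨hdsT, wv, hwv, e, hemem, hev, hLv⟩ := column_five_involution hG D hds hds' hx hv hxv
  subst hdsT
  obtain ⟨hc10, -, wx, hwx, hLx⟩ := column_five hG D hds hx hconj hmemx hds' (Or.inr rfl)
  have hV2 : Nat.card V = 2 := by omega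
  have hLt : (D.X.erase (trivChar G)).val.map (fun (χ : IrrCharacter G) =>
      (⟨deg χ, sgn (deg χ), wt χ⟩ : Ty)) = columnTwo := by
    refine hcfg.resolve_right fun h => ?_
    have h1 : (D.X.erase (trivChar G)).val.map deg = ((columnTwo'.map Ty.d : List ℕ) : Multiset ℕ) := by
      rw [← Multiset.map_coe, ← h, Multiset.map_map]
      rfl
    rw [hds, Multiset.coe_eq_coe] at h1
    exact absurd (List.isPerm_iff.2 h1) (by decide)
  have hsel : ∀ d ∈ degsTrue, ∃ χ ∈ D.X.erase (trivChar G), deg χ = d := fun d hd => by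
    have : d ∈ (D.X.erase (trivChar G)).val.map deg := hds ▸ Multiset.mem_coe.2 hd
    exact Multiset.mem_map.1 this
  obtain ⟨a45, m45, d45⟩ := hsel 45 (by simp [degsTrue])
  obtain ⟨a54, m54, d54⟩ := hsel 54 (by simp [degsTrue])
  obtain ⟨a120, m120, d120⟩ := hsel 120 (by simp [degsTrue])
  obtain ⟨a144, m144, d144⟩ := hsel 144 (by simp [degsTrue])
  obtain ⟨b1, b2, hne, hY⟩ := Finset.card_eq_two.1 D.cardY
  have hy16 : y = 16 := by
    simp [degsTrue] at he
    omega
  subst hy16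
  have hε : D.ε = 1 := by
    have hb1 : b1 ∈ D.Y := by simp [hY]
    have h := D.modY b1 hb1
    rw [hy b1 hb1] at h
    unfold Int.ModEq at h
    rcases D.hε with e | e <;> rw [e] at h
    · exact e
    · simp at h
  have hne4 : trivChar G ≠ a45 ∧ trivChar G ≠ a54 ∧ trivChar G ≠ a120 ∧ trivChar G ≠ a144 :=
    ⟨(Finset.ne_of_mem_erase m45).symm, (Finset.ne_of_mem_erase m54).symm,
      (Finset.ne_of_mem_erase m120).symm, (Finset.ne_of_mem_erase m144).symm⟩
  have hX : D.X = {trivChar G, a45, a54, a120, a144} := by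
    refine (Finset.eq_of_subset_of_card_le ?_ ?_).symm
    · intro χ hχ
      simp only [Finset.mem_insert, Finset.mem_singleton] at hχ
      rcases hχ with rfl | rfl | rfl | rfl | rfl
      · exact D.triv
      all_goals exact Finset.mem_of_mem_erase ‹_›
    · rw [D.cardX]
      have h45 : ∀ {a b : IrrCharacter G}, deg a ≠ deg b → a ≠ b := fun h e => h (by rw [e])
      rw [Finset.card_insert_of_notMem, Finset.card_insert_of_notMem,
        Finset.card_insert_of_notMem, Finset.card_pair]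
      · exact h45 (by omega)
      · simp only [Finset.mem_insert, Finset.mem_singleton, not_or]
        exact ⟨h45 (by omega), h45 (by omega)⟩
      · simp only [Finset.mem_insert, Finset.mem_singleton, not_or]
        exact ⟨h45 (by omega), h45 (by omega), h45 (by omega)⟩
      · simp only [Finset.mem_insert, Finset.mem_singleton, not_or]
        exact hne4
  have hYval : ∀ (g : G) (w : IrrCharacter G → ℤ), ¬ 11 ∣ orderOf g →
      (∀ χ : IrrCharacter G, (χ : G → ℂ) g = (w χ : ℂ)) → ∀ (L : List Ty),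
      (D.X.erase (trivChar G)).val.map (fun (χ : IrrCharacter G) =>
        (⟨deg χ, sgn (deg χ), w χ⟩ : Ty)) = L → ∀ θ ∈ D.Y,
        w θ = ((⟨0, 0, 1, 1, 4320⟩ : Acc).addAll (L : Multiset Ty)).b := by
    intro g w hg hw L hL θ hθ
    rw [← hL, (block_totals hG D hg hw hθ).1]
    simp [hε]
  have hq : orderOf (x * (v : G)) = 10 := by
    rw [hxv.orderOf_mul_eq_mul_orderOf_of_coprime (by rw [hx, hv]; norm_num), hx, hv]
  have hv2 : (v : G) ^ 2 = 1 := by rw [← hv]; exact pow_orderOf_eq_one _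
  have hx5 : x ^ 5 = 1 := by rw [← hx]; exact pow_orderOf_eq_one x
  have hxq : (x * (v : G)) ^ 6 = x := by
    rw [hxv.mul_pow, show x ^ 6 = x by rw [pow_succ, hx5, one_mul],
      show (v : G) ^ 6 = 1 by rw [show (6 : ℕ) = 2 * 3 from rfl, pow_mul, hv2, one_pow], mul_one]
  have hcxv : cent (x * (v : G)) = 10 := by
    refine le_antisymm (le_of_le_of_eq (Subgroup.card_le_of_le fun g hg => ?_) hc10) ?_
    · rw [Subgroup.mem_centralizer_singleton_iff] at hg ⊢
      have h : Commute g (x * (v : G)) := hg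
      have h' := (h.pow_right 6).eq
      rwa [hxq] at h'
    · exact hq ▸ Nat.le_of_dvd Nat.card_pos
        (Subgroup.orderOf_dvd_natCard _ (Subgroup.mem_centralizer_singleton_iff.2 rfl))
  have hnv : n * (v : G) * n⁻¹ = (v : G) := by
    have hmem := hV.conj_mem hn v.2
    have hV1 : ∀ a b : V, a ≠ 1 → b ≠ 1 → a = b := fun a b ha hb => by
      have := Fintype.ofFinite V
      rw [Nat.card_eq_fintype_card] at hV2
      by_contra hab
      have h3 : ({1, a, b} : Finset V).card ≤ 2 := hV2 ▸ Finset.card_le_univ _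
      rw [Finset.card_insert_of_notMem (by simp [ha.symm, hb.symm]), Finset.card_pair hab] at h3
      omega
    have h := hV1 ⟨_, hmem⟩ v (fun e => by
      have e' := congrArg Subtype.val e
      simp only [Subgroup.coe_one, mul_inv_eq_one] at e'
      have hv1 : (v : G) = 1 := by
        have := mul_left_cancel (e'.trans (mul_one n).symm)
        exact this
      rw [hv1, orderOf_one] at hv
      omega) (fun e => by rw [e, Subgroup.coe_one, orderOf_one] at hv; omega)
    exact congrArg Subtype.val h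
  have hnq : n * (x * (v : G)) * n⁻¹ = (x * (v : G)) ^ 7 := by
    rw [hxv.mul_pow, show x ^ 7 = x ^ 2 by rw [show (7 : ℕ) = 5 + 2 from rfl, pow_add, hx5, one_mul],
      show (v : G) ^ 7 = v by
        rw [show (7 : ℕ) = 2 * 3 + 1 from rfl, pow_succ, pow_mul, hv2, one_pow, one_mul],
      ← hnx]
    nth_rewrite 2 [← hnv]
    group
  set q := x * (v : G) with hqdef
  have hqk : ∀ m, m % 10 = 1 ∨ m % 10 = 3 ∨ m % 10 = 7 ∨ m % 10 = 9 → IsConj (q ^ m) q := by
    intro m hm
    have h1 : IsConj q (q ^ 7) := isConj_iff.2 ⟨n, hnq⟩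
    have h2 : IsConj (q ^ 7) (q ^ 9) := isConj_iff.2 ⟨n, by
      rw [← conj_pow, hnq, ← pow_mul, ← pow_mod_orderOf, hq]⟩
    have h3 : IsConj (q ^ 9) (q ^ 3) := isConj_iff.2 ⟨n, by
      rw [← conj_pow, hnq, ← pow_mul, ← pow_mod_orderOf, hq]⟩
    rw [← pow_mod_orderOf, hq]
    rcases hm with h | h | h | h <;> rw [h]
    · rw [pow_one]
    · exact ((h1.trans h2).trans h3).symm
    · exact h1.symm
    · exact (h1.trans h2).symm
  have hqint : ∀ χ : IrrCharacter G, ∃ u : ℤ, (χ : G → ℂ) q = (u : ℂ) := fun χ =>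
    exists_int_value χ fun m hm => hqk m (by
      rw [hq] at hm
      have h2 : ¬ 2 ∣ m := fun h => by
        have := Nat.eq_one_of_dvd_coprimes hm h (by norm_num)
        omega
      have h5 : ¬ 5 ∣ m := fun h => by
        have := Nat.eq_one_of_dvd_coprimes hm h (by norm_num)
        omega
      omega)
  choose wq hwq using hqint
  have hclq : ∀ (χ : IrrCharacter G) (m : ℕ), m % 10 = 1 ∨ m % 10 = 3 ∨ m % 10 = 7 ∨ m % 10 = 9 →
      (χ : G → ℂ) (q ^ m) = (wq χ : ℂ) := fun χ m hm => by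
    obtain ⟨c, hc⟩ := isConj_iff.1 (hqk m hm)
    have h3 := IsIrr.isClassFunction χ.2 (q ^ m) c
    rw [hc, hwq] at h3
    exact h3.symm
  have hq5 : q ^ 5 = (v : G) := by
    rw [hqdef, hxv.mul_pow, hx5, one_mul, show (5 : ℕ) = 2 * 2 + 1 from rfl, pow_succ, pow_mul,
      hv2, one_pow, one_mul]
  have hcong5 : ∀ χ : IrrCharacter G, (5 : ℤ) ∣ wv χ - wq χ := fun χ => by
    have h := value_congr (p := 5) (A := 6) (B := 5) (by norm_num) (g := q) (by rw [hq]; norm_num) χ
      (u := wq χ) (v := wv χ) (fun k h1 h2 => hclq χ _ (by interval_cases k <;> norm_num))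
      (by rw [hq5, hwv])
    exact_mod_cast h
  have hcong2 : ∀ χ : IrrCharacter G, (2 : ℤ) ∣ wx χ - wq χ := fun χ => by
    have h := value_congr (p := 2) (A := 5) (B := 6) (by norm_num) (g := q) (by rw [hq]) χ
      (u := wq χ) (v := wx χ) (fun k h1 h2 => hclq χ _ (by interval_cases k; norm_num))
      (by rw [hxq, hwx])
    exact_mod_cast h
  have hx45 := value_of_list hLx m45 (v := 0) (by rw [d45]; decide)
  have hx54 := value_of_list hLx m54 (v := -1) (by rw [d54]; decide)
  have hx120 := value_of_list hLx m120 (v := 0) (by rw [d120]; decide)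
  have hx144 := value_of_list hLx m144 (v := -1) (by rw [d144]; decide)
  have hx16 : ∀ θ ∈ D.Y, wx θ = 1 := fun θ hθ =>
    (hYval x wx (by rw [hx]; norm_num) hwx _ hLx θ hθ).trans (by decide)
  have ht16 : ∀ θ ∈ D.Y, wt θ = 0 := fun θ hθ =>
    (hYval t wt (by rw [ht]; norm_num) hwt _ hLt θ hθ).trans (by decide)
  have hno1440 : e ≠ ([1440], [⟨45, 1, -15⟩, ⟨54, -1, 18⟩, ⟨120, -1, 0⟩, ⟨144, 1, 24⟩]) := by
    rintro rfl
    have hv54 := value_of_list hLv m54 (v := 18) (by rw [d54]; decide)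
    have hv144 := value_of_list hLv m144 (v := 24) (by rw [d144]; decide)
    have hv16 : ∀ θ ∈ D.Y, wv θ = -8 := fun θ hθ =>
      (hYval (v : G) wv (by rw [hv]; norm_num) hwv _ hLv θ hθ).trans (by decide)
    have hsq := sum_sq_le_cent (g := q) ({a54, b1, b2} : Finset (IrrCharacter G)) wq
      fun ψ _ => hwq ψ
    have hb1 : b1 ∈ D.Y := by simp [hY]
    have hb2 : b2 ∈ D.Y := by simp [hY]
    have hd1 := hy b1 hb1
    have hd2 := hy b2 hb2
    rw [Finset.sum_insert (by
      simp only [Finset.mem_insert, Finset.mem_singleton, not_or]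
      exact ⟨fun e => by rw [e] at d54; omega, fun e => by rw [e] at d54; omega⟩),
      Finset.sum_pair hne, hcxv] at hsq
    have k54 := hcong5 a54
    have l54 := hcong2 a54
    have k1 := hcong5 b1
    have l1 := hcong2 b1
    have k2 := hcong5 b2
    have l2 := hcong2 b2
    rw [hx54] at l54
    rw [hx16 b1 hb1] at l1
    rw [hx16 b2 hb2] at l2
    rw [hv54] at k54
    rw [hv16 b1 hb1] at k1
    rw [hv16 b2 hb2] at k2
    have a1 : 3 ≤ (wq a54).natAbs := by omega
    have a2 : 3 ≤ (wq b1).natAbs := by omega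
    have := Nat.mul_le_mul a1 a1
    have := Nat.mul_le_mul a2 a2
    omega
  have hu : ∃ u : ℤ, (u = 4 ∨ u = -4) ∧ cent (v : G) ∈ [120, 240] ∧
      e.2 = [⟨45, 1, 5⟩, ⟨54, -1, 6⟩, ⟨120, -1, 0⟩, ⟨144, 1, u⟩] := by
    simp only [columnsFiveInv, List.mem_cons, List.not_mem_nil, or_false] at hemem
    rcases hemem with rfl | rfl | rfl
    · exact ⟨4, Or.inl rfl, hev, rfl⟩
    · exact ⟨-4, Or.inr rfl, hev, rfl⟩
    · exact absurd rfl hno1440
  obtain ⟨u, hu, hcv, he2⟩ := hu
  rw [he2] at hLv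
  simp only [List.mem_cons, List.not_mem_nil, or_false] at hcv
  have hv45 := value_of_list hLv m45 (v := 5) (by rw [d45]; simp)
  have hv54 := value_of_list hLv m54 (v := 6) (by rw [d54]; simp)
  have hv120 := value_of_list hLv m120 (v := 0) (by rw [d120]; simp)
  have hv144 := value_of_list hLv m144 (v := u) (by rw [d144]; simp)
  have hv16 : ∀ θ ∈ D.Y, wv θ = u := fun θ hθ =>
    (hYval (v : G) wv (by rw [hv]; norm_num) hwv _ hLv θ hθ).trans (by
      rcases hu with rfl | rfl <;> decide)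
  have ht45 := value_of_list hLt m45 (v := -3) (by rw [d45]; decide)
  have ht54 := value_of_list hLt m54 (v := 6) (by rw [d54]; decide)
  have ht120 := value_of_list hLt m120 (v := -8) (by rw [d120]; decide)
  have ht144 := value_of_list hLt m144 (v := 0) (by rw [d144]; decide)
  exact ⟨⟨a45, a54, a120, a144, b1, b2, x, (v : G), n, t, u, d45, d54, d120, d144,
    hy b1 (by simp [hY]), hy b2 (by simp [hY]), hX, hY, hne, hε, hx, hv, ht, hxv, hnx, hnv, hc10,
    hcxv, hct, hcv, hu,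
    by rw [hwx, hx45, Int.cast_zero], by rw [hwx, hx54]; norm_num,
    by rw [hwx, hx120, Int.cast_zero], by rw [hwx, hx144]; norm_num,
    fun θ hθ => by rw [hwx, hx16 θ hθ, Int.cast_one],
    by rw [hwv, hv45]; norm_num, by rw [hwv, hv54]; norm_num,
    by rw [hwv, hv120, Int.cast_zero], by rw [hwv, hv144],
    fun θ hθ => by rw [hwv, hv16 θ hθ],
    by rw [hwt, ht45]; norm_num, by rw [hwt, ht54]; norm_num,
    by rw [hwt, ht120]; norm_num, by rw [hwt, ht144, Int.cast_zero],
    fun θ hθ => by rw [hwt, ht16 θ hθ, Int.cast_zero]⟩⟩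

end CfsgLib.Blocks.Order95040
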