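import Cfsg.Agent.Lib.Blocks.Order95040.FiveLocal

/-!
# No small degrees in the principal block at eleven
-/

set_option autoImplicit false
set_option linter.unnecessarySeqFocus false

namespace CfsgLib.Blocks.Order95040

open Cfsg CfsgLib CfsgLib.Char CfsgLib.CharIntegral CfsgLib.Blocks.PrimeSylow
open scoped Classical ComplexConjugate

variable {G : Type*} [Group G] [Fintype G] [IsSimpleGroup G] (hG : Nat.card G = 95040)
include hG

/-- With a character of degree ten the centralizer of an element of order five has an element of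
order nine. -/
theorem exists_nine [Fact (Nat.Prime 5)] {P : Sylow 5 G} {χ : IrrCharacter G} (hd : deg χ = 10) :
    ∃ V : Subgroup G, Setup 5 (P : Subgroup G) V ∧
      ∃ x ∈ (P : Subgroup G), x ≠ 1 ∧ ∃ w ∈ V, orderOf w = 9 := by
  obtain ⟨V, hV, e, he, hN, hc1, h11, hdvd⟩ := five_setup hG P
  obtain ⟨x, hx, hx1⟩ : ∃ x ∈ (P : Subgroup G), x ≠ (1 : G) := by
    refine (P : Subgroup G).bot_or_exists_ne_one.resolve_left fun hb => ?_
    have := hV.card
    rw [hb, Subgroup.card_bot] at this
    omega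
  obtain ⟨n, ρ, hρ, hρc'⟩ := χ.2
  have hρc := hρc'.symm
  have hne : χ ≠ trivChar G := fun e => by rw [e, deg_trivChar] at hd; omega
  have hodd : Nat.card V % 2 = 1 := by
    by_contra h2
    have : Fact (Nat.Prime 2) := ⟨Nat.prime_two⟩
    obtain ⟨v, hv⟩ := exists_prime_orderOf_dvd_card' (G := V) 2 (by omega)
    have hvo : orderOf (v : G) = 2 := by rw [Subgroup.orderOf_coe, hv]
    have hdet : LinearMap.det (ρ (v : G)) = 1 := by
      rw [← CharExt.detHom_apply, hom_eq_one hG (CharExt.detHom ρ)]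
      rfl
    rcases Order7920.scalar_of_finrank_eq_two_mul ρ (p := 5) Nat.prime_five (by norm_num)
      (hV.pow_eq_one hx) hx1 (by rw [← hvo]; exact pow_orderOf_eq_one _) (hV.commute hx v.2)
      (c := 0) (fun i j hi => by
        rw [← hρc]; exact five_vanish hG hV (by rw [hd]; norm_num) hx v.2 i j hi)
      (by rw [Module.finrank_fin_fun, ← deg_eq_finrank hρc, hd]) hdet with h | h
    · have hv1 : (v : G) = 1 := faithful hG hne (by
        rw [hρc]
        show ρ.character _ = ρ.character _
        rw [Representation.character, Representation.character, h, map_one ρ])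
      rw [hv1, orderOf_one] at hvo
      omega
    · have hz : (v : G) ∈ Subgroup.center G := Subgroup.mem_center_iff.2 fun g => by
        refine mul_inv_eq_one.1 (faithful hG hne ?_)
        have h1 : ρ (g * (v : G)) = ρ ((v : G) * g) := by
          rw [map_mul, map_mul, h]
          exact ((Commute.one_right (ρ g)).neg_right).eq
        rw [hρc, Representation.character, Representation.character, map_mul, h1, ← map_mul,
          mul_inv_cancel]
      rw [center_eq_bot hG, Subgroup.mem_bot] at hz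
      rw [hz, orderOf_one] at hvo
      omega
  have hc : Nat.card V = 9 ∨ Nat.card V = 27 := by
    obtain ⟨hn1, hn3⟩ := five_count hG hN
    have hcop : (Nat.card V).Coprime (2 ^ 6) := Nat.Coprime.pow_right 6
      ((Nat.prime_two.coprime_iff_not_dvd.2 (by omega)).symm)
    have hle := Nat.le_of_dvd (by norm_num)
      (hcop.dvd_of_dvd_mul_left (show Nat.card V ∣ 2 ^ 6 * 297 from hdvd))
    have hpos : 0 < e * Nat.card V := Nat.mul_pos (by omega) Nat.card_pos
    refine five_arith _ (List.mem_range.2 (by omega)) hodd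
      (fun h => h11 (Nat.dvd_of_mod_eq_zero h)) e (by rcases he with rfl | rfl <;> simp) ?_ ?_
    · rw [← hn3]; simp
    · rw [← hn3, Nat.mul_div_cancel _ hpos]; exact hn1
  refine ⟨V, hV, x, hx, hx1, ?_⟩
  by_contra hno
  push Not at hno
  have hall : ∀ h : V, h ≠ 1 → orderOf (h : G) = 3 := by
    intro h h1
    have hd1 : orderOf (h : G) ∣ 27 := (Subgroup.orderOf_coe h).symm ▸ (orderOf_dvd_natCard h).trans
      (by rcases hc with e | e <;> rw [e] <;> norm_num)
    have hne1 : orderOf (h : G) ≠ 1 := fun e1 => h1 (Subtype.ext (orderOf_eq_one_iff.1 e1))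
    have h27 : orderOf (h : G) ≠ 27 := fun e1 => hno _ (Subgroup.pow_mem _ h.2 3) (by
      rw [orderOf_pow, e1]; norm_num)
    have h9 := hno _ h.2
    obtain ⟨k, hk, hk'⟩ := (Nat.dvd_prime_pow Nat.prime_three).1
      (show orderOf (h : G) ∣ 3 ^ 3 from hd1)
    interval_cases k <;> omega
  have : Fintype V := Fintype.ofFinite V
  obtain ⟨m, hm⟩ := exists_sum_subgroup χ V
  rw [← Finset.add_sum_erase _ _ (Finset.mem_univ (1 : V)),
    Finset.sum_congr rfl fun h hh => value_three hG hV hd hx hx1 h.2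
      (hall h (Finset.ne_of_mem_erase hh)), Finset.sum_const,
    Finset.card_erase_of_mem (Finset.mem_univ _), Finset.card_univ, ← Nat.card_eq_fintype_card,
    Subgroup.coe_one, deg_cast, hd, nsmul_eq_mul] at hm
  rcases hc with e1 | e1 <;> rw [e1] at hm
  · have h5 : ((9 * m + 30 : ℕ) : ℂ) = ((0 : ℕ) : ℂ) := by
      push_cast at hm ⊢; linear_combination -hm
    have := Nat.cast_injective h5; omega
  · have h5 : ((27 * m + 120 : ℕ) : ℂ) = ((0 : ℕ) : ℂ) := by
      push_cast at hm ⊢; linear_combination -hm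
    have := Nat.cast_injective h5; omega

/-- The configuration at a central involution. -/
theorem exists_column_two {z : G} (D : ElevenData z) :
    ∃ t : G, orderOf t = 2 ∧ cent t = 192 ∧
      ∃ w : IrrCharacter G → ℤ, (∀ χ : IrrCharacter G, (χ : G → ℂ) t = (w χ : ℂ)) ∧
        ((D.X.erase (trivChar G)).val.map (fun (χ : IrrCharacter G) =>
            (⟨deg χ, sgn (deg χ), w χ⟩ : Ty)) = columnTwo ∨
          (D.X.erase (trivChar G)).val.map (fun (χ : IrrCharacter G) =>
            (⟨deg χ, sgn (deg χ), w χ⟩ : Ty)) = columnTwo') := by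
  obtain ⟨t, ht, h | ⟨⟨χ, -, hd⟩, h⟩ | h⟩ := exists_two hG D
  · obtain ⟨θ, hθ⟩ : D.Y.Nonempty := by rw [← Finset.card_pos, D.cardY]; norm_num
    exact absurd (h θ hθ) (deg_ne_five hG θ)
  · exfalso
    have : Fact (Nat.Prime 5) := ⟨Nat.prime_five⟩
    obtain ⟨P⟩ : Nonempty (Sylow 5 G) := inferInstance
    obtain ⟨V, hV, x, hx, hx1, w, hw, hwo⟩ := exists_nine hG (P := P) hd
    have hcop : Nat.Coprime 13 95040 := by norm_num
    obtain ⟨ψ, hψ⟩ := exists_powerMap hG χ hcop
    obtain ⟨φ, hφ⟩ := exists_powerMap hG ψ hcop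
    have hdψ : deg ψ = 10 := by
      refine charDegree_eq ?_
      rw [hψ, one_pow, deg_cast, hd]
    have hdφ : deg φ = 10 := by
      refine charDegree_eq ?_
      rw [hφ, one_pow, deg_cast, hdψ]
    have hX : ∀ η : IrrCharacter G, deg η = 10 → η ∈ D.X := fun η hη => by
      refine (Finset.mem_union.1 ((D.iff η).1 (by rw [hη]; norm_num))).resolve_right fun hY => ?_
      have hm := D.modY η hY
      rw [hη] at hm
      unfold Int.ModEq at hm
      rcases D.hε with e | e <;> rw [e] at hm <;> omega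
    have ht13 : t ^ 13 = t := by
      rw [show (13 : ℕ) = 2 * 6 + 1 from rfl, pow_succ, pow_mul,
        show t ^ 2 = 1 by rw [← ht]; exact pow_orderOf_eq_one t, one_pow, one_mul]
    have hpow : ∀ a b : ℕ, a % 9 = b % 9 → w ^ a = w ^ b := fun a b h => by
      rw [← pow_mod_orderOf, hwo, h, ← hwo, pow_mod_orderOf]
    have hfix : ∀ (η : IrrCharacter G), deg η = 10 → ∀ m : ℕ, (m % 9 = 4 ∨ m % 9 = 7) →
        ¬ ∀ g, (η : G → ℂ) (g ^ m) = (η : G → ℂ) g := by
      intro η hη m hm hall
      refine not_fixed_nine hG hV hη hx hx1 hw hwo fun k => ?_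
      rcases hm with hm | hm
      · rw [← hall (w ^ k), ← pow_mul]
        exact congrArg _ (hpow _ _ (by rw [Nat.mul_mod k m, Nat.mul_mod 4 k, hm, mul_comm]))
      · rw [← hall (w ^ (4 * k)), ← pow_mul]
        exact congrArg _ (hpow _ _ (by
          rw [Nat.mul_mod (4 * k) m, hm, Nat.mul_mod 4 k]
          have := Nat.mod_lt k (show 9 > 0 by norm_num)
          interval_cases k % 9 <;> rfl))
    have h1 : ψ ≠ χ := fun e => hfix χ hd 13 (Or.inl rfl) fun g => by rw [← hψ g, e]
    have h2 : φ ≠ χ := fun e => hfix χ hd 169 (Or.inr rfl) fun g => by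
      have h' := hφ g
      rw [e, hψ, ← pow_mul] at h'
      exact h'.symm
    have h3 : φ ≠ ψ := fun e => hfix ψ hdψ 13 (Or.inl rfl) fun g => by rw [← hφ g, e]
    have hψt : (ψ : G → ℂ) t = (χ : G → ℂ) t := by rw [hψ, ht13]
    have hφt : (φ : G → ℂ) t = (χ : G → ℂ) t := by rw [hφ, ht13, hψt]
    have hlt := h χ (hX χ hd) hd
    refine absurd hlt (not_lt.2 (le_of_eq_of_le
      (Finset.card_eq_three.2 ⟨φ, ψ, χ, h3, h2, h1, rfl⟩).symm (Finset.card_le_card ?_)))
    intro η hη
    simp only [Finset.mem_insert, Finset.mem_singleton] at hη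
    rcases hη with rfl | rfl | rfl
    · exact Finset.mem_filter.2 ⟨hX _ hdφ, hdφ, hφt⟩
    · exact Finset.mem_filter.2 ⟨hX _ hdψ, hdψ, hψt⟩
    · exact Finset.mem_filter.2 ⟨hX _ hd, hd, rfl⟩
  · exact ⟨t, ht, h⟩

end CfsgLib.Blocks.Order95040
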