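import Cfsg.Agent.Lib.Char.Rep
import Mathlib.RepresentationTheory.Character
import Mathlib.RepresentationTheory.Invariants
import Mathlib.RepresentationTheory.Irreducible
import Mathlib.LinearAlgebra.Trace
import Mathlib.Analysis.Complex.Basic
import Mathlib.Tactic

/-!
# A vector fixed by a subgroup with multiplicity one
-/

set_option autoImplicit false

namespace CfsgLib.Blocks.Order95040

open scoped Classical

/-- An irreducible representation with a one-dimensional fixed space under `B` has a coordinate
whose values on the orbit of the fixed vector are averages of the character. -/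
theorem exists_fixed {G : Type*} [Group G] [Fintype G] {n : ℕ}
    (ρ : Representation ℂ G (Fin n → ℂ)) [ρ.IsIrreducible] (B : Subgroup G)
    (hsum : ∑ b : B, ρ.character b = (Nat.card B : ℂ)) :
    ∃ (w : Fin n → ℂ) (f : (Fin n → ℂ) →ₗ[ℂ] ℂ),
      (∀ g, f (ρ g w) = (Nat.card B : ℂ)⁻¹ * ∑ b : B, ρ.character (g * b)) ∧
      (∀ u, (∀ g, f (ρ g u) = 0) → u = 0) ∧
      Submodule.span ℂ (Set.range fun g => ρ g w) = ⊤ := by
  set σ : Representation ℂ B (Fin n → ℂ) := ρ.comp B.subtype
  have hc : (Fintype.card B : ℂ) ≠ 0 := Nat.cast_ne_zero.2 Fintype.card_ne_zero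
  have : Invertible (Fintype.card B : ℂ) := invertibleOfNonzero hc
  set E := σ.averageMap with hE
  have hEf : E = (Nat.card B : ℂ)⁻¹ • ∑ b : B, ρ b := by
    rw [hE, Representation.averageMap, GroupAlgebra.average, map_smul, map_sum, invOf_eq_inv,
      Nat.card_eq_fintype_card]
    congr 1
    exact Finset.sum_congr rfl fun b _ => by
      rw [MonoidAlgebra.of_apply, Representation.asAlgebraHom_single_one]
      rfl
  have hproj : LinearMap.IsProj σ.invariants E := σ.isProj_averageMap
  have htr : ∀ g, LinearMap.trace ℂ _ (ρ g * E) =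
      (Nat.card B : ℂ)⁻¹ * ∑ b : B, ρ.character (g * b) := fun g => by
    rw [hEf, mul_smul_comm, map_smul, Finset.mul_sum, map_sum, smul_eq_mul]
    simp [Representation.character]
  have hrank : Module.finrank ℂ σ.invariants = 1 := by
    have h := hproj.trace
    rw [← one_mul E] at h
    rw [show (1 : Module.End ℂ (Fin n → ℂ)) = ρ 1 by simp, htr] at h
    simp only [one_mul, hsum] at h
    rw [inv_mul_cancel₀ (Nat.cast_ne_zero.2 Nat.card_pos.ne')] at h
    exact_mod_cast h.symm
  obtain ⟨⟨w, hwmem⟩, hw0, hw⟩ := finrank_eq_one_iff'.1 hrank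
  have hex : ∀ u, ∃ c : ℂ, E u = c • w := fun u => by
    obtain ⟨c, hc⟩ := hw ⟨E u, hproj.map_mem u⟩
    exact ⟨c, (congrArg Subtype.val hc).symm⟩
  choose c hc' using hex
  have hw0' : w ≠ 0 := fun e => hw0 (Subtype.ext e)
  let f : (Fin n → ℂ) →ₗ[ℂ] ℂ :=
    { toFun := c
      map_add' := fun a b => by
        refine smul_left_injective ℂ hw0' ?_
        simp only
        rw [add_smul, ← hc', ← hc', ← hc', map_add]
      map_smul' := fun r a => by
        refine smul_left_injective ℂ hw0' ?_
        simp only [RingHom.id_apply, smul_eq_mul]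
        rw [mul_smul, ← hc', ← hc', map_smul] }
  have hEs : E = f.smulRight w := LinearMap.ext fun u => hc' u
  have hf : ∀ g, f (ρ g w) = (Nat.card B : ℂ)⁻¹ * ∑ b : B, ρ.character (g * b) := fun g => by
    rw [← htr, hEs, ← LinearMap.trace_smulRight (f := f) (x := ρ g w)]
    congr 1
    exact LinearMap.ext fun u => by simp
  have hfw : f w = 1 := smul_left_injective ℂ hw0' (show f w • w = (1 : ℂ) • w by
    rw [one_smul]
    exact (hc' w).symm.trans (hproj.map_id w hwmem))
  refine ⟨w, f, hf, fun u hu => ?_, ?_⟩
  · let U : Subrepresentation ρ :=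
      { toSubmodule := ⨅ g, LinearMap.ker (f ∘ₗ ρ g)
        apply_mem_toSubmodule := fun a v hv => by
          simp only [Submodule.mem_iInf, LinearMap.mem_ker, LinearMap.comp_apply] at hv ⊢
          intro g
          rw [← Module.End.mul_apply, ← map_mul]
          exact hv _ }
    rcases IsSimpleOrder.eq_bot_or_eq_top U with h | h
    · have hu' : u ∈ U.toSubmodule := by simpa [U, Submodule.mem_iInf] using hu
      rw [h] at hu'
      exact hu'
    · have hw' : w ∈ U.toSubmodule := by rw [h]; trivial
      have h1 : f w = 0 := by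
        simpa [U, Submodule.mem_iInf] using
          (Submodule.mem_iInf _).1 hw' (1 : G)
      rw [hfw] at h1
      exact absurd h1 one_ne_zero
  · let U : Subrepresentation ρ :=
      { toSubmodule := Submodule.span ℂ (Set.range fun g => ρ g w)
        apply_mem_toSubmodule := fun a v hv => by
          induction hv using Submodule.span_induction with
          | mem x hx =>
            obtain ⟨g, rfl⟩ := hx
            exact Submodule.subset_span ⟨a * g, by simp⟩
          | zero => simp
          | add x y _ _ hx hy => rw [map_add]; exact Submodule.add_mem _ hx hy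
          | smul r x _ hx => rw [map_smul]; exact Submodule.smul_mem _ r hx }
    rcases IsSimpleOrder.eq_bot_or_eq_top U with h | h
    · have hw' : w ∈ U.toSubmodule := Submodule.subset_span ⟨1, by simp⟩
      rw [h] at hw'
      exact absurd hw' hw0'
    · have h' := congrArg Subrepresentation.toSubmodule h
      exact h'

end CfsgLib.Blocks.Order95040
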