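import Cfsg.Agent.Lib.Blocks.Order95040.ElevenTables

/-!
# Checks for the involution columns of the principal block at eleven
-/

set_option autoImplicit false

namespace CfsgLib.Blocks.Order95040

/-- Types at an element with centralizer of order `C`: values bounded by the centralizer. -/
def typesFrom (ds : List ℕ) (C : ℕ) (good : ℕ → ℤ → Bool) : List Ty :=
  ds.flatMap fun (d : ℕ) => (List.range 189).filterMap fun (a : ℕ) =>
    if decide (((a : ℤ) - 94).natAbs * ((a : ℤ) - 94).natAbs ≤ C) &&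
      ((95040 / C : ℕ) : ℤ) * ((a : ℤ) - 94) % (d : ℤ) == 0 && good d ((a : ℤ) - 94)
    then some ⟨d, sgn d, (a : ℤ) - 94⟩ else none

theorem mem_typesFrom {ds : List ℕ} {C d : ℕ} {v : ℤ} {good : ℕ → ℤ → Bool} (hd : d ∈ ds)
    (hC : C ≤ 8835) (h1 : v.natAbs * v.natAbs ≤ C)
    (h2 : ((95040 / C : ℕ) : ℤ) * v % (d : ℤ) = 0) (h3 : good d v = true) :
    ⟨d, sgn d, v⟩ ∈ typesFrom ds C good := by
  have h94 : v.natAbs ≤ 93 := by
    by_contra hlt
    have := Nat.mul_le_mul (show 94 ≤ v.natAbs by omega) (show 94 ≤ v.natAbs by omega)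
    omega
  refine List.mem_flatMap.2 ⟨d, hd, List.mem_filterMap.2 ⟨(v + 94).toNat, List.mem_range.2 (by omega), ?_⟩⟩
  have e : (((v + 94).toNat : ℕ) : ℤ) - 94 = v := by omega
  simp only [e]
  rw [if_pos]
  simp only [Bool.and_eq_true, decide_eq_true_eq, beq_iff_eq]
  exact ⟨⟨h1, h2⟩, h3⟩

/-- The condition at an involution. -/
def goodInv (d : ℕ) (v : ℤ) : Bool := decide (v.natAbs < d) && ((d : ℤ) - v) % 4 == 0

/-- The exceptional degree and value with their conditions. -/
def okY (C : ℕ) (A : Acc) : Bool :=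
  let y := A.a.natAbs
  let ε : ℤ := if 0 ≤ A.a then 1 else -1
  let c := ε * A.b
  decide (1 < y) && 95040 % y == 0 && ((y : ℤ) - ε * 5) % 11 == 0 && decide (c.natAbs < y) &&
    ((y : ℤ) - c) % 4 == 0 && decide (1 + A.n + 2 * (c.natAbs * c.natAbs) ≤ C) &&
    decide (1 + A.d2 + 2 * (y * y) ≤ 95040) && ((95040 / C : ℕ) : ℤ) * c % y == 0 &&
    A.q * y == ε * (c * c) * 4320

/-- The column of the principal block at a central involution in the true configuration. -/
def columnTwo : List Ty := [⟨45, 1, -3⟩, ⟨54, -1, 6⟩, ⟨120, -1, -8⟩, ⟨144, 1, 0⟩]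

/-- The column in the other configuration without small degrees. -/
def columnTwo' : List Ty := [⟨32, -1, 0⟩, ⟨45, 1, -3⟩, ⟨54, -1, 6⟩, ⟨120, -1, -8⟩]

/-- The degree five occurs, or equal values at few characters of degree ten, or a known column. -/
def finalTwo (C : ℕ) (L : List Ty) (A : Acc) : Bool :=
  !okY C A || A.a.natAbs == 5 ||
    (L.any (fun t => t.d == 10) &&
      L.all (fun t => t.d != 10 || decide ((L.filter fun u => u == t).length < 3))) ||
    (C == 192 && (L.isPerm columnTwo || L.isPerm columnTwo'))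

/-- The possible centralizer orders of a central involution of a Sylow 2-subgroup. -/
def centsTwo : List ℕ := [64, 192, 576, 1728, 320, 960, 2880, 8640]

theorem mem_centsTwo : ∀ m ∈ List.range 136, 95040 % (64 * m) = 0 → m % 11 ≠ 0 →
    64 * m ∈ centsTwo := by
  decide +kernel

theorem search_two : ∀ C ∈ centsTwo,
    searchL C 95040 (finalTwo C) 4 (typesFrom xDegrees C goodInv) [] ⟨0, 0, 1, 1, 4320⟩ = true := by
  decide +kernel

end CfsgLib.Blocks.Order95040
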