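import Cfsg.Agent.Lib.Blocks.Order95040.Eleven
import Cfsg.Agent.Lib.Blocks.Order95040.InvolutionTables

/-!
# The principal block at eleven on involutions
-/

set_option autoImplicit false

namespace CfsgLib.Blocks.Order95040

open Cfsg CfsgLib CfsgLib.Char CfsgLib.CharIntegral CfsgLib.Blocks.PrimeSylow
open scoped Classical ComplexConjugate

variable {G : Type*} [Group G] [Fintype G]

/-- No product of two conjugates of an involution is conjugate to an element not conjugate to its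
inverse. -/
theorem triple_sum_eq_zero [Fintype (IrrCharacter G)] {t z : G} (ht : orderOf t = 2)
    (hz : ¬ IsConj z z⁻¹) :
    ∑ χ : IrrCharacter G,
      (χ : G → ℂ) t * (χ : G → ℂ) t / (χ : G → ℂ) 1 * conj ((χ : G → ℂ) z) = 0 := by
  have hzero : ∀ x ∈ CfsgLib.CharIntegral.classFinset t,
      ∑ χ : IrrCharacter G, (χ : G → ℂ) (x * t) * conj ((χ : G → ℂ) z) = 0 := by
    intro x hx
    obtain ⟨c, rfl⟩ := isConj_iff.1 (CfsgLib.CharIntegral.mem_classFinset.1 hx)
    rw [column_orthogonality, if_neg]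
    intro hcon
    have htt : t * t = 1 := by rw [← pow_two, ← ht]; exact pow_orderOf_eq_one t
    have ht' : t⁻¹ = t := inv_eq_of_mul_eq_one_left htt
    have hstep : IsConj (c * t * c⁻¹ * t) (t * (c * t * c⁻¹)) := isConj_iff.2 ⟨t, by group⟩
    refine hz ((hcon.symm.trans hstep).trans ?_)
    have : t * (c * t * c⁻¹) = (c * t * c⁻¹ * t)⁻¹ := by
      simp only [mul_inv_rev, inv_inv, ht', mul_assoc]
    rw [this]
    obtain ⟨d, hd⟩ := isConj_iff.1 hcon
    exact isConj_iff.2 ⟨d, by rw [← MulAut.conj_apply, map_inv, MulAut.conj_apply, hd]⟩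
  have h := Finset.sum_eq_zero hzero
  rw [Finset.sum_comm] at h
  simp only [← Finset.sum_mul, Order7920.sum_class_mul] at h
  have hi : ((Subgroup.centralizer ({t} : Set G)).index : ℂ) ≠ 0 :=
    Nat.cast_ne_zero.2 Subgroup.index_ne_zero_of_finite
  refine (mul_eq_zero.1 ?_).resolve_left hi
  rw [Finset.mul_sum]
  refine Eq.trans (Finset.sum_congr rfl fun χ _ => ?_) h
  ring

variable [IsSimpleGroup G] (hG : Nat.card G = 95040)
include hG

variable {z : G} (D : ElevenData z)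

omit [IsSimpleGroup G] hG in
/-- A sum against the column of an element of order eleven. -/
theorem ElevenData.sum_z [Fintype (IrrCharacter G)] (F : IrrCharacter G → ℂ) {θ : IrrCharacter G}
    (hθ : ∀ ψ ∈ D.Y, F ψ = F θ) :
    ∑ χ, F χ * conj ((χ : G → ℂ) z) =
      ∑ χ ∈ D.X, (sgn (deg χ) : ℂ) * F χ - (D.ε : ℂ) * F θ := by
  rw [← Finset.sum_subset (Finset.subset_univ (D.X ∪ D.Y)) fun ψ _ hψ => by
      rw [D.val0 ψ (by by_contra hc; exact hψ ((D.iff ψ).1 hc)), map_zero, mul_zero],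
    Finset.sum_union D.disj, sub_eq_add_neg]
  congr 1
  · exact Finset.sum_congr rfl fun χ hχ => by rw [D.valX χ hχ, map_intCast, mul_comm]
  · rw [Finset.sum_congr rfl fun ψ hψ => by rw [hθ ψ hψ], ← Finset.mul_sum, ← map_sum, D.sumY,
      map_neg, map_intCast]
    ring

/-- An element whose order is prime to eleven and is not one has centralizer order prime to
eleven. -/
theorem not_eleven_dvd_cent {g : G} (hg : g ≠ 1) (ho : ¬ 11 ∣ orderOf g) : ¬ 11 ∣ cent g := by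
  intro hd
  have : Fact (Nat.Prime 11) := ⟨by norm_num⟩
  obtain ⟨y, hy⟩ := exists_prime_orderOf_dvd_card' (G := Subgroup.centralizer ({g} : Set G)) 11 hd
  have hyo : orderOf (y : G) = 11 := by rw [Subgroup.orderOf_coe, hy]
  obtain ⟨D'⟩ := exists_elevenData hG hyo
  have hgC : g ∈ Subgroup.centralizer ({(y : G)} : Set G) :=
    Subgroup.mem_centralizer_singleton_iff.2
      (Subgroup.mem_centralizer_singleton_iff.1 y.2).symm
  have h := Subgroup.orderOf_dvd_natCard _ hgC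
  rw [show Nat.card (Subgroup.centralizer ({(y : G)} : Set G)) = 11 from D'.hcent] at h
  rcases (Nat.dvd_prime (by norm_num)).1 h with h1 | h1
  · exact hg (orderOf_eq_one_iff.1 h1)
  · exact ho (by rw [h1])

/-- The types and the tests of the principal block at an involution. -/
theorem column_involution {t : G} (ht : orderOf t = 2) :
    ∃ w : IrrCharacter G → ℤ, (∀ χ : IrrCharacter G, (χ : G → ℂ) t = (w χ : ℂ)) ∧
      (∀ χ ∈ D.X.erase (trivChar G), deg χ ∈ xDegrees ∧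
        goodInv (deg χ) (w χ) = true ∧ (w χ).natAbs * (w χ).natAbs ≤ cent t ∧
        ((95040 / cent t : ℕ) : ℤ) * w χ % (deg χ : ℤ) = 0) ∧
      cent t ≤ 8640 ∧ ¬ 11 ∣ cent t ∧
      (∀ θ ∈ D.Y, (⟨0, 0, 1, 1, 4320⟩ : Acc).addAll ((D.X.erase (trivChar G)).val.map
          fun (χ : IrrCharacter G) => ⟨deg χ, sgn (deg χ), w χ⟩) =
        (⟨∑ χ ∈ D.X.erase (trivChar G), (w χ).natAbs * (w χ).natAbs,
          ∑ χ ∈ D.X.erase (trivChar G), deg χ * deg χ, D.ε * deg θ, D.ε * w θ,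
          4320 + ∑ χ ∈ D.X.erase (trivChar G),
            sgn (deg χ) * (w χ * w χ) * ((4320 / deg χ : ℕ) : ℤ)⟩ : Acc) ∧
        okY (cent t) ((⟨0, 0, 1, 1, 4320⟩ : Acc).addAll ((D.X.erase (trivChar G)).val.map
          fun (χ : IrrCharacter G) => ⟨deg χ, sgn (deg χ), w χ⟩)) = true) ∧
      ((⟨0, 0, 1, 1, 4320⟩ : Acc).addAll ((D.X.erase (trivChar G)).val.map
          fun (χ : IrrCharacter G) => ⟨deg χ, sgn (deg χ), w χ⟩)).n ≤ cent t ∧
      ((⟨0, 0, 1, 1, 4320⟩ : Acc).addAll ((D.X.erase (trivChar G)).val.map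
          fun (χ : IrrCharacter G) => ⟨deg χ, sgn (deg χ), w χ⟩)).d2 ≤ 95040 := by
  choose w hw hw4 hwlt using fun χ => value_involution hG ht χ
  have ht1 : t ≠ 1 := fun e => by simp [e] at ht
  have h11 : ¬ 11 ∣ cent t := not_eleven_dvd_cent hG ht1 (by rw [ht]; norm_num)
  have hCle : cent t ≤ 8640 := by
    have h1 := eleven_le_index hG ht1
    have h2 : 11 * cent t ≤ 95040 :=
      le_trans (Nat.mul_le_mul_right (cent t) h1) (Nat.div_mul_le_self 95040 (cent t))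
    omega
  set X' := D.X.erase (trivChar G) with hX'
  have hA := addAll_map (X := X') ⟨0, 0, 1, 1, 4320⟩ fun (χ : IrrCharacter G) => ⟨deg χ, sgn (deg χ), w χ⟩
  simp only [zero_add] at hA
  have hw1 : w (trivChar G) = 1 := by
    have h1 := hw (trivChar G)
    rw [trivChar_apply] at h1
    exact_mod_cast h1.symm
  have hmem : ∀ χ ∈ X', deg χ ∈ xDegrees ∧ goodInv (deg χ) (w χ) = true ∧
      (w χ).natAbs * (w χ).natAbs ≤ cent t ∧
      ((95040 / cent t : ℕ) : ℤ) * w χ % (deg χ : ℤ) = 0 := fun χ hχ => by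
    refine ⟨D.degX χ (Finset.mem_of_mem_erase hχ) (Finset.ne_of_mem_erase hχ), ?_, ?_,
      Int.emod_eq_zero_of_dvd (dvd_index_mul hG χ (hw χ))⟩
    · simp only [goodInv, Bool.and_eq_true, decide_eq_true_eq, beq_iff_eq]
      exact ⟨hwlt χ (Finset.ne_of_mem_erase hχ), hw4 χ⟩
    · have h4 := sum_sq_le_cent (g := t) {χ} w fun ψ _ => hw ψ
      rwa [Finset.sum_singleton] at h4
  refine ⟨w, hw, hmem, hCle, h11, fun θ hθ => ?_, ?_, ?_⟩
  swap
  · rw [hA]
    exact sum_sq_le_cent (g := t) X' w fun ψ _ => hw ψ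
  swap
  · rw [hA]
    exact hG ▸ sum_sq_deg_le X'
  have ha : D.ε * (deg θ : ℤ) = 1 + ∑ χ ∈ X', sgn (deg χ) * (deg χ : ℤ) := by
    have h1 := D.relY θ hθ 1 (by rw [orderOf_one]; norm_num)
    simp only [deg_cast] at h1
    have h2 : D.ε * (deg θ : ℤ) = ∑ χ ∈ D.X, sgn (deg χ) * (deg χ : ℤ) := by exact_mod_cast h1
    rw [h2, ← Finset.add_sum_erase _ _ D.triv, deg_trivChar, show sgn 1 = 1 from rfl,
      Nat.cast_one, one_mul]
  have hYw : ∀ ψ ∈ D.Y, D.ε * w ψ = ∑ χ ∈ D.X, sgn (deg χ) * w χ := fun ψ hψ => by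
    have h1 := D.relY ψ hψ t (by rw [ht]; norm_num)
    simp only [hw] at h1
    exact_mod_cast h1
  have hb : D.ε * w θ = 1 + ∑ χ ∈ X', sgn (deg χ) * w χ := by
    rw [hYw θ hθ, ← Finset.add_sum_erase _ _ D.triv, deg_trivChar, hw1, show sgn 1 = 1 from rfl,
      mul_one]
  have hsame : ∀ ψ ∈ D.Y, deg ψ = deg θ ∧ w ψ = w θ := fun ψ hψ => by
    have h1 := (hYw ψ hψ).trans (hYw θ hθ).symm
    have h2 := D.relY ψ hψ 1 (by rw [orderOf_one]; norm_num)
    rw [← D.relY θ hθ 1 (by rw [orderOf_one]; norm_num), deg_cast, deg_cast] at h2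
    have h3 : D.ε * (deg ψ : ℤ) = D.ε * (deg θ : ℤ) := by exact_mod_cast h2
    rcases D.hε with e | e <;> rw [e] at h1 h3 <;> constructor <;> omega
  refine ⟨by rw [hA, ← ha, ← hb], ?_⟩
  rw [hA, ← ha, ← hb]
  have hθne : θ ≠ trivChar G := fun e => Finset.disjoint_left.1 D.disj D.triv (e ▸ hθ)
  have hy : (D.ε * (deg θ : ℤ)).natAbs = deg θ := by rcases D.hε with e | e <;> simp [e]
  have hy1 := D.neY θ hθ
  have hs : (if 0 ≤ D.ε * (deg θ : ℤ) then (1 : ℤ) else -1) = D.ε := by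
    rcases D.hε with e | e <;> rw [e] <;> (split_ifs <;> omega)
  have hee : D.ε * (D.ε * w θ) = w θ := by rcases D.hε with e | e <;> simp [e]
  simp only [okY, hy, hs, hee, Bool.and_eq_true, decide_eq_true_eq, beq_iff_eq]
  have hdθ := deg_facts hG θ
  refine ⟨⟨⟨⟨⟨⟨⟨⟨hy1, Nat.mod_eq_zero_of_dvd hdθ.1⟩, ?_⟩, hwlt θ hθne⟩, hw4 θ⟩, ?_⟩, ?_⟩,
    Int.emod_eq_zero_of_dvd (dvd_index_mul hG θ (hw θ))⟩, ?_⟩
  · have hm := D.modY θ hθ
    unfold Int.ModEq at hm
    omega
  · have h1 := sum_sq_le_cent (g := t) (D.X ∪ D.Y) w fun ψ _ => hw ψ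
    rw [Finset.sum_union D.disj, ← Finset.add_sum_erase _ _ D.triv,
      Finset.sum_congr rfl (fun ψ hψ => by rw [(hsame ψ hψ).2]) (s₁ := D.Y), Finset.sum_const,
      D.cardY, smul_eq_mul, hw1] at h1
    simpa only [Int.natAbs_one, mul_one, Nat.one_mul] using h1
  · have h1 := sum_sq_deg_le (D.X ∪ D.Y)
    rw [Finset.sum_union D.disj, ← Finset.add_sum_erase _ _ D.triv,
      Finset.sum_congr rfl (fun ψ hψ => by rw [(hsame ψ hψ).1]) (s₁ := D.Y), Finset.sum_const,
      D.cardY, smul_eq_mul, deg_trivChar, hG] at h1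
    simpa only [mul_one, Nat.one_mul] using h1
  · have := Fintype.ofFinite (IrrCharacter G)
    have h0 := triple_sum_eq_zero ht D.notReal
    rw [D.sum_z (θ := θ) _ fun ψ hψ => by
      rw [deg_cast, deg_cast, hw, hw, (hsame ψ hψ).1, (hsame ψ hψ).2],
      ← Finset.add_sum_erase _ _ D.triv] at h0
    simp only [hw, hw1, deg_cast, deg_trivChar, show sgn 1 = 1 from rfl, Int.cast_one,
      Nat.cast_one, mul_one, div_one] at h0
    have hy0 : (deg θ : ℂ) ≠ 0 := Nat.cast_ne_zero.2 (by omega)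
    apply Int.cast_injective (α := ℂ)
    push_cast
    have hterm : ∀ χ ∈ X', (((4320 : ℤ) / (deg χ : ℤ) : ℤ) : ℂ) = 4320 / (deg χ : ℂ) := fun χ hχ => by
      have hd : deg χ ∣ 4320 := by
        have h : ∀ d ∈ xDegrees, d ∣ 4320 := by decide
        exact h _ (hmem χ hχ).1
      have hd' : (deg χ : ℤ) ∣ 4320 := by exact_mod_cast Int.natCast_dvd_natCast.2 hd
      rw [Int.cast_div hd' (by exact_mod_cast (charDegree_pos χ).ne')]
      norm_num
    rw [Finset.sum_congr rfl fun χ hχ => by rw [hterm χ hχ]]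
    have h0' : (1 : ℂ) + ∑ χ ∈ X', (sgn (deg χ) : ℂ) * ((w χ : ℂ) * (w χ : ℂ)) / (deg χ : ℂ) =
        (D.ε : ℂ) * ((w θ : ℂ) * (w θ : ℂ) / (deg θ : ℂ)) := by
      rw [Finset.sum_congr rfl (fun χ _ => mul_div_assoc _ _ _) (s₁ := X')]
      linear_combination h0
    have hsum : ∑ χ ∈ X', (sgn (deg χ) : ℂ) * ((w χ : ℂ) * (w χ : ℂ)) * (4320 / (deg χ : ℂ)) =
        4320 * ∑ χ ∈ X', (sgn (deg χ) : ℂ) * ((w χ : ℂ) * (w χ : ℂ)) / (deg χ : ℂ) := by
      rw [Finset.mul_sum]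
      exact Finset.sum_congr rfl fun χ _ => by ring
    rw [hsum]
    have h5 : (deg θ : ℂ) * ((D.ε : ℂ) * ((w θ : ℂ) * (w θ : ℂ) / (deg θ : ℂ))) =
        (D.ε : ℂ) * ((w θ : ℂ) * (w θ : ℂ)) := by
      field_simp
    linear_combination (4320 * (deg θ : ℂ)) * h0' + 4320 * h5

/-- A central involution of a Sylow 2-subgroup. -/
theorem exists_two :
    ∃ t : G, orderOf t = 2 ∧ ((∀ θ ∈ D.Y, deg θ = 5) ∨
      ((∃ χ ∈ D.X, deg χ = 10) ∧ ∀ χ ∈ D.X, deg χ = 10 →
        (D.X.filter fun ψ => deg ψ = 10 ∧ (ψ : G → ℂ) t = (χ : G → ℂ) t).card < 3) ∨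
      (cent t = 192 ∧ ∃ w : IrrCharacter G → ℤ, (∀ χ : IrrCharacter G, (χ : G → ℂ) t = (w χ : ℂ)) ∧
        ((D.X.erase (trivChar G)).val.map (fun (χ : IrrCharacter G) => (⟨deg χ, sgn (deg χ), w χ⟩ : Ty)) = columnTwo ∨
          (D.X.erase (trivChar G)).val.map (fun (χ : IrrCharacter G) => (⟨deg χ, sgn (deg χ), w χ⟩ : Ty)) =
            columnTwo'))) := by
  have : Fact (Nat.Prime 2) := ⟨Nat.prime_two⟩
  obtain ⟨P⟩ : Nonempty (Sylow 2 G) := inferInstance
  have hP : Nat.card (P : Subgroup G) = 64 := by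
    rw [P.card_eq_multiplicity, hG, show (95040 : ℕ) = 2 ^ 6 * 1485 from rfl,
      Nat.factorization_mul (by norm_num) (by norm_num), Finsupp.add_apply,
      Nat.Prime.factorization_pow Nat.prime_two, Finsupp.single_eq_same,
      Nat.factorization_eq_zero_of_not_dvd (show ¬ 2 ∣ 1485 by norm_num)]
    norm_num
  have : Nontrivial (P : Subgroup G) := Finite.one_lt_card_iff_nontrivial.1 (by rw [hP]; norm_num)
  have := P.isPGroup'.center_nontrivial
  obtain ⟨k, hk⟩ := IsPGroup.iff_card.1 (P.isPGroup'.to_subgroup (Subgroup.center (P : Subgroup G)))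
  have hk0 : k ≠ 0 := fun h => by
    have := Finite.one_lt_card (α := Subgroup.center (P : Subgroup G))
    rw [hk, h] at this
    simp at this
  obtain ⟨s, hs⟩ := exists_prime_orderOf_dvd_card' (G := Subgroup.center (P : Subgroup G)) 2
    (by rw [hk]; exact dvd_pow_self 2 hk0)
  set t : G := ((s : (P : Subgroup G)) : G) with ht_def
  have ht : orderOf t = 2 := by rw [ht_def, Subgroup.orderOf_coe, Subgroup.orderOf_coe, hs]
  refine ⟨t, ht, ?_⟩
  obtain ⟨w, hw, hmem, hCle, h11, hY, hn, hd⟩ := column_involution hG D ht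
  have hPle : (P : Subgroup G) ≤ Subgroup.centralizer ({t} : Set G) := fun g hg =>
    Subgroup.mem_centralizer_singleton_iff.2
      (congrArg Subtype.val (Subgroup.mem_center_iff.1 s.2 ⟨g, hg⟩))
  obtain ⟨m, hm⟩ : 64 ∣ cent t := hP ▸ Subgroup.card_dvd_of_le hPle
  have hmem' : cent t ∈ centsTwo := by
    rw [hm]
    refine mem_centsTwo m (List.mem_range.2 (by omega)) ?_ ?_
    · rw [← hm]; exact Nat.mod_eq_zero_of_dvd (cent_dvd hG t)
    · intro h0
      exact h11 (hm ▸ Dvd.dvd.mul_left (Nat.dvd_of_mod_eq_zero h0) 64)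
  set M := (D.X.erase (trivChar G)).val.map fun (χ : IrrCharacter G) => (⟨deg χ, sgn (deg χ), w χ⟩ : Ty) with hM
  obtain ⟨θ, hθ⟩ : D.Y.Nonempty := by rw [← Finset.card_pos, D.cardY]; norm_num
  obtain ⟨L, hL, hfin⟩ := searchL_sound (search_two _ hmem') M
    (by rw [hM, Multiset.card_map, ← Finset.card_def, Finset.card_erase_of_mem D.triv, D.cardX])
    (fun u hu => by
      obtain ⟨χ, hχ, rfl⟩ := Multiset.mem_map.1 hu
      obtain ⟨h1, h2, h3, h4⟩ := hmem χ hχ
      exact mem_typesFrom h1 (by omega) h3 h4 h2) hn hd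
  rw [Multiset.coe_nil, zero_add] at hL
  simp only [finalTwo, Bool.or_eq_true, Bool.not_eq_true', Bool.and_eq_true, List.any_eq_true,
    List.all_eq_true, beq_iff_eq, bne_iff_ne, decide_eq_true_eq, List.isPerm_iff] at hfin
  rcases hfin with ((h | h) | h) | h
  · rw [(hY θ hθ).2] at h
    exact absurd h (by decide)
  · left
    intro ψ hψ
    rw [(hY ψ hψ).1] at h
    simp only at h
    rcases D.hε with e | e <;> rw [e] at h <;> omega
  · right; left
    obtain ⟨⟨u, hu, hu10⟩, hall⟩ := h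
    have hmemL : ∀ u, u ∈ L ↔ u ∈ M := fun u => by rw [← hL]; exact Multiset.mem_coe.symm
    refine ⟨?_, fun χ hχ hχ10 => ?_⟩
    · obtain ⟨χ, hχ, rfl⟩ := Multiset.mem_map.1 ((hmemL u).1 hu)
      exact ⟨χ, Finset.mem_of_mem_erase hχ, hu10⟩
    · have hne : χ ≠ trivChar G := fun e => by rw [e, deg_trivChar] at hχ10; omega
      set u : Ty := ⟨deg χ, sgn (deg χ), w χ⟩ with hudef
      have huL : u ∈ L := (hmemL u).2 (Multiset.mem_map.2
        ⟨χ, Finset.mem_erase.2 ⟨hne, hχ⟩, rfl⟩)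
      have h3 := (hall u huL).resolve_left (fun h => h hχ10)
      refine lt_of_le_of_lt ?_ h3
      rw [← List.countP_eq_length_filter, ← List.count, ← Multiset.coe_count, hL, hM,
        Multiset.count_map]
      refine le_trans (Finset.card_le_card (t := (D.X.erase (trivChar G)).filter
        fun ψ : IrrCharacter G => u = ⟨deg ψ, sgn (deg ψ), w ψ⟩) fun ψ hψ => ?_) (le_refl _)
      obtain ⟨hψX, hψ10, hψt⟩ := Finset.mem_filter.1 hψ
      rw [hw, hw] at hψt
      have hwe : w ψ = w χ := by exact_mod_cast hψt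
      refine Finset.mem_filter.2 ⟨Finset.mem_erase.2 ⟨fun e => ?_, hψX⟩, ?_⟩
      · rw [e, deg_trivChar] at hψ10; omega
      · rw [hudef, hψ10, hχ10, hwe]
  · right; right
    refine ⟨h.1, w, hw, h.2.imp (fun e => ?_) (fun e => ?_)⟩ <;>
      exact hL.symm.trans (Multiset.coe_eq_coe.2 e)

end CfsgLib.Blocks.Order95040
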