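import Cfsg.Agent.Lib.Blocks.Order95040.Checks

/-!
# The search over candidate involutions, first part
-/

set_option autoImplicit false
set_option maxRecDepth 100000

namespace CfsgLib.Blocks.Order95040

theorem checkA_0 : checkA (1476, 570, 1) = true := by decide +kernel

theorem checkA_1 : checkA (1476, 2047, 1) = true := by decide +kernel

theorem checkA_2 : checkA (570, 1, 1476) = true := by decide +kernel

theorem checkA_3 : checkA (570, 1, 2047) = true := by decide +kernel

theorem checkA_4 : checkA (2046, 570, 571) = true := by decide +kernel

theorem checkA_5 : checkA (2046, 1477, 1476) = true := by decide +kernel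

theorem checkA_6 : checkA (1, 1476, 570) = true := by decide +kernel

theorem checkA_7 : checkA (1, 570, 1476) = true := by decide +kernel

theorem checkA_8 : checkA (1, 570, 2046) = true := by decide +kernel

theorem checkA_9 : checkA (1, 570, 1477) = true := by decide +kernel

theorem checkA_10 : checkA (1, 570, 2047) = true := by decide +kernel

end CfsgLib.Blocks.Order95040
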