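import Cfsg.Agent.Lib.Blocks.Order95040.Checks

/-!
# The search over candidate involutions, second part
-/

set_option autoImplicit false
set_option maxRecDepth 100000

namespace CfsgLib.Blocks.Order95040

theorem checkA_11 : checkA (1, 2046, 1476) = true := by decide +kernel

theorem checkA_12 : checkA (1, 1477, 571) = true := by decide +kernel

theorem checkA_13 : checkA (1, 571, 1476) = true := by decide +kernel

theorem checkA_14 : checkA (1, 571, 1477) = true := by decide +kernel

theorem checkA_15 : checkA (1, 2047, 1476) = true := by decide +kernel

theorem checkA_16 : checkA (1477, 570, 1476) = true := by decide +kernel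

theorem checkA_17 : checkA (1477, 2046, 1476) = true := by decide +kernel

theorem checkA_18 : checkA (571, 570, 1476) = true := by decide +kernel

theorem checkA_19 : checkA (571, 570, 2046) = true := by decide +kernel

theorem checkA_20 : checkA (2047, 1476, 570) = true := by decide +kernel

theorem checkA_21 : checkA (2047, 570, 1476) = true := by decide +kernel

end CfsgLib.Blocks.Order95040
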