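import Cfsg.Agent.Lib.Blocks.Order95040.Checks

/-!
# Subgroups of order eight and twenty-seven of the standard group
-/

set_option autoImplicit false
set_option maxRecDepth 100000

namespace CfsgLib.Blocks.Order95040

/-- An element of order eight of the standard group. -/
def wordEight : List ℕ := [0, 1, 1, 2]

/-- The elements of a subgroup of order twenty-seven of the standard group. -/
def subTwentySeven : List (List ℕ × ℕ) :=
  [([],
    1329552593586084350528447794605199361),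
   ([1, 2, 0, 1, 2, 0],
    1327604767605059398509494377033764860),
   ([0, 0, 1, 2, 0, 2],
    167369767959976184251344668046131067),
   ([1, 2, 0, 1, 2, 0, 1, 2, 0, 1, 2, 0],
    1326306020917430502449715121643053058),
   ([1, 2, 0, 1, 2, 0, 0, 0, 1, 2, 0, 2],
    6487042250584488606905331651174139),
   ([0, 0, 1, 2, 0, 2, 1, 2, 0, 1, 2, 0],
    2324687309584045282894789493313232511),
   ([0, 0, 1, 2, 0, 2, 0, 0, 1, 2, 0, 2],
    1162422606216994656459133108254390783),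
   ([1, 2, 0, 1, 2, 0, 1, 2, 0, 1, 2, 0, 0, 0, 1, 2, 0, 2],
    333441783801842637195662274892127871),
   ([1, 2, 0, 1, 2, 0, 0, 0, 1, 2, 0, 2, 1, 2, 0, 1, 2, 0],
    2490921822502098884174367514923630459),
   ([1, 2, 0, 1, 2, 0, 0, 0, 1, 2, 0, 2, 0, 0, 1, 2, 0, 2],
    1827361281505877939511240867955342839),
   ([0, 0, 1, 2, 0, 2, 1, 2, 0, 1, 2, 0, 1, 2, 0, 1, 2, 0],
    2649372637324726625301649951775514363),
   ([0, 0, 1, 2, 0, 2, 1, 2, 0, 1, 2, 0, 0, 0, 1, 2, 0, 2],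
    2642711767712020296671086451404815351),
   ([0, 0, 1, 2, 0, 2, 0, 0, 1, 2, 0, 2, 1, 2, 0, 1, 2, 0],
    996190513334819998995199554115058175),
   ([1, 2, 0, 1, 2, 0, 1, 2, 0, 1, 2, 0, 0, 0, 1, 2, 0, 2, 1, 2, 0, 1, 2, 0],
    2651961499316295236685737317157822203),
   ([1, 2, 0, 1, 2, 0, 1, 2, 0, 1, 2, 0, 0, 0, 1, 2, 0, 2, 0, 0, 1, 2, 0, 2],
    2481909661434745855687637088137624567),
   ([1, 2, 0, 1, 2, 0, 0, 0, 1, 2, 0, 2, 1, 2, 0, 1, 2, 0, 1, 2, 0, 1, 2, 0],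
    2322417425357428807906225261584572031),
   ([1, 2, 0, 1, 2, 0, 0, 0, 1, 2, 0, 2, 1, 2, 0, 1, 2, 0, 0, 0, 1, 2, 0, 2],
    1323224085164974856919122829964720639),
   ([1, 2, 0, 1, 2, 0, 0, 0, 1, 2, 0, 2, 0, 0, 1, 2, 0, 2, 1, 2, 0, 1, 2, 0],
    1661129187231771597004053068974652919),
   ([0, 0, 1, 2, 0, 2, 1, 2, 0, 1, 2, 0, 0, 0, 1, 2, 0, 2, 0, 0, 1, 2, 0, 2],
    1991239427128325166511790135240024066),
   ([0, 0, 1, 2, 0, 2, 0, 0, 1, 2, 0, 2, 1, 2, 0, 1, 2, 0, 0, 0, 1, 2, 0, 2],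
    11033670439074590513435902212050945),
   ([1, 2, 0, 1, 2, 0, 1, 2, 0, 1, 2, 0, 0, 0, 1, 2, 0, 2, 1, 2, 0, 1, 2, 0, 1, 2, 0, 1, 2, 0],
    2488489676293071309144356882778161019),
   ([1, 2, 0, 1, 2, 0, 1, 2, 0, 1, 2, 0, 0, 0, 1, 2, 0, 2, 1, 2, 0, 1, 2, 0, 0, 0, 1, 2, 0, 2],
    1988162443851298738541088954817445367),
   ([1, 2, 0, 1, 2, 0, 1, 2, 0, 1, 2, 0, 0, 0, 1, 2, 0, 2, 0, 0, 1, 2, 0, 2, 1, 2, 0, 1, 2, 0],
    2315678195878838404713666011011726327),
   ([1, 2, 0, 1, 2, 0, 0, 0, 1, 2, 0, 2, 1, 2, 0, 1, 2, 0, 0, 0, 1, 2, 0, 2, 0, 0, 1, 2, 0, 2],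
    664619069771485697780593398651031553),
   ([1, 2, 0, 1, 2, 0, 0, 0, 1, 2, 0, 2, 0, 0, 1, 2, 0, 2, 1, 2, 0, 1, 2, 0, 0, 0, 1, 2, 0, 2],
    2646123573148368706427131118433079292),
   ([1, 2, 0, 1, 2, 0, 1, 2, 0, 1, 2, 0, 0, 0, 1, 2, 0, 2, 1, 2, 0, 1, 2, 0, 0, 0, 1, 2, 0, 2, 0, 0, 1, 2, 0, 2],
    1992538175110712432482780883405770748),
   ([1, 2, 0, 1, 2, 0, 1, 2, 0, 1, 2, 0, 0, 0, 1, 2, 0, 2, 0, 0, 1, 2, 0, 2, 1, 2, 0, 1, 2, 0, 0, 0, 1, 2, 0, 2],
    2644824942769674807276942234673471490)]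

theorem eval_wordEight :
    (eqP (mulP (mulP (evalP shiftP tripleP stdP wordEight) (evalP shiftP tripleP stdP wordEight))
        (mulP (evalP shiftP tripleP stdP wordEight) (evalP shiftP tripleP stdP wordEight))) oneP) =
      false ∧
    eqP (mulP
      (mulP (mulP (evalP shiftP tripleP stdP wordEight) (evalP shiftP tripleP stdP wordEight))
        (mulP (evalP shiftP tripleP stdP wordEight) (evalP shiftP tripleP stdP wordEight)))
      (mulP (mulP (evalP shiftP tripleP stdP wordEight) (evalP shiftP tripleP stdP wordEight))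
        (mulP (evalP shiftP tripleP stdP wordEight) (evalP shiftP tripleP stdP wordEight)))) oneP =
      true := by decide +kernel

theorem eval_subTwentySeven :
    (subTwentySeven.all fun p => eqP (evalP shiftP tripleP stdP p.1) p.2) = true := by
  decide +kernel

theorem closed_subTwentySeven :
    (subTwentySeven.all fun p => subTwentySeven.all fun q =>
      subTwentySeven.any fun r => eqP (mulP p.2 q.2) r.2) = true := by
  decide +kernel

theorem distinct_subTwentySeven :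
    subTwentySeven.Pairwise (fun p q => eqP p.2 q.2 = false) ∧ subTwentySeven.length = 27 ∧
      eqP ((subTwentySeven.headI).2) oneP = true := by
  decide +kernel

end CfsgLib.Blocks.Order95040
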