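import Cfsg.Agent.Lib.Blocks.Order95040.BitsLemmas
import Cfsg.Agent.Lib.Blocks.Order95040.Coords
import Cfsg.Agent.Lib.Blocks.Order95040.CoverA
import Cfsg.Agent.Lib.Blocks.Order95040.CoverB1
import Cfsg.Agent.Lib.Blocks.Order95040.CoverB2
import Cfsg.Agent.Lib.Blocks.Order95040.Kill1
import Cfsg.Agent.Lib.Blocks.Order95040.Kill2
import Cfsg.Agent.Lib.Blocks.Order95040.StdSub
import Mathlib.GroupTheory.GroupAction.Quotient
import Mathlib.GroupTheory.Perm.Sign

/-!
# A simple group of order 95040 is determined up to isomorphism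
-/

set_option autoImplicit false
set_option maxRecDepth 10000
set_option maxHeartbeats 1000000

namespace CfsgLib.Blocks.Order95040

open Matrix
open scoped Classical

theorem checkA_all : ∀ a ∈ listA, checkA a = true := by
  simp only [listA, List.forall_mem_cons]
  exact ⟨checkA_0, checkA_1, checkA_2, checkA_3, checkA_4, checkA_5,
    checkA_6, checkA_7, checkA_8, checkA_9, checkA_10, checkA_11,
    checkA_12, checkA_13, checkA_14, checkA_15, checkA_16, checkA_17,
    checkA_18, checkA_19, checkA_20, checkA_21, by simp⟩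

theorem coverB_all : ∀ b1 ∈ cycRows, ∀ b2 ∈ cycRows, coverB b1 b2 = true := by
  intro b1 h1 b2 h2
  obtain ⟨n, hn, rfl⟩ := List.mem_iff_getElem.1 h1
  have hlen : cycRows.length = 256 := rfl
  have key : ∀ k, ((cycRows.drop (32 * k)).take 32).all (fun b1 => cycRows.all (coverB b1)) = true →
      32 * k ≤ n → n < 32 * (k + 1) → coverB cycRows[n] b2 = true := fun k hk h3 h4 => by
    rw [List.all_eq_true] at hk
    have hmem : cycRows[n] ∈ (cycRows.drop (32 * k)).take 32 := by
      refine List.mem_iff_getElem.2 ⟨n - 32 * k, by simp; omega, ?_⟩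
      rw [List.getElem_take, List.getElem_drop]
      congr 1
      omega
    exact List.all_eq_true.1 (hk _ hmem) b2 h2
  rcases (show n / 32 = 0 ∨ n / 32 = 1 ∨ n / 32 = 2 ∨ n / 32 = 3 ∨ n / 32 = 4 ∨ n / 32 = 5 ∨
      n / 32 = 6 ∨ n / 32 = 7 by omega) with e | e | e | e | e | e | e | e
  · exact key 0 coverB_0 (by omega) (by omega)
  · exact key 1 coverB_1 (by omega) (by omega)
  · exact key 2 coverB_2 (by omega) (by omega)
  · exact key 3 coverB_3 (by omega) (by omega)
  · exact key 4 coverB_4 (by omega) (by omega)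
  · exact key 5 coverB_5 (by omega) (by omega)
  · exact key 6 coverB_6 (by omega) (by omega)
  · exact key 7 coverB_7 (by omega) (by omega)

/-- A vector fixed by a packed idempotent is listed. -/
theorem mem_fixedRows {F : ℕ} {v : Fin 11 → ZMod 2} (h : v ᵥ* toMat F = v) :
    rowNat v ∈ fixedRows F := by
  rw [fixedRows, List.mem_filter, List.mem_range, Nat.beq_eq]
  refine ⟨rowNat_lt v, Nat.eq_of_testBit_eq fun t => ?_⟩
  rw [Nat.testBit_and, show (2047 : ℕ) = 2 ^ 11 - 1 from rfl, Nat.testBit_two_pow_sub_one]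
  by_cases ht : t < 11
  · rw [decide_eq_true ht, Bool.and_true]
    have h1 : bitVal ((mulP (rowNat v) F).testBit t) = v ⟨t, ht⟩ := by
      have hrow : (toMat (rowNat v)) 0 = v := funext fun j => by
        rw [toMat_apply, show 11 * ((0 : Fin 11) : ℕ) + j = (j : ℕ) by simp]
        exact bitVal_rowNat v j
      have h2 : toMat (mulP (rowNat v) F) 0 = v := by
        rw [toMat_mulP, Matrix.mul_apply_eq_vecMul, hrow, h]
      have h3 := congrFun h2 ⟨t, ht⟩
      rw [toMat_apply] at h3
      simpa using h3
    have h4 : bitVal ((rowNat v).testBit t) = v ⟨t, ht⟩ := bitVal_rowNat v ⟨t, ht⟩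
    rw [← h4] at h1
    revert h1
    cases (mulP (rowNat v) F).testBit t <;> cases (rowNat v).testBit t <;> simp [bitVal]
  · rw [decide_eq_false ht, Bool.and_false]
    exact (Nat.testBit_lt_two_pow ((rowNat_lt v).trans_le
      (Nat.pow_le_pow_right (n := 2) (i := 11) (by norm_num) (Nat.le_of_not_lt ht)))).symm

theorem invariant_of_commute {A : Matrix (Fin 11) (Fin 11) (ZMod 2)}
    (h : Commute (toMat tripleP) A) (i j : Fin 11) : A (3 * i) (3 * j) = A i j := by
  have h1 := congrFun (congrFun h.eq i) (3 * j)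
  rw [Matrix.mul_apply, Matrix.mul_apply, toMat_tripleP, Finset.sum_eq_single (3 * i),
    Finset.sum_eq_single j] at h1
  · simpa using h1
  · intro b _ hb
    have h3 : ∀ a c : Fin 11, 3 * a = 3 * c → a = c := by decide
    have : 3 * b ≠ 3 * j := fun e => hb (h3 b j e)
    simp [this]
  · simp
  · intro b _ hb; simp [Ne.symm hb]
  · simp

/-- An involution commuting with the tripling is one of the candidates. -/
theorem exists_candidate {V : Matrix (Fin 11) (Fin 11) (ZMod 2)}
    (hV : V * V = 1) (hc : Commute (toMat tripleP) V) :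
    ∃ a ∈ listA, ∃ b ∈ listB, toMat (build a.1 (a.2.1 ^^^ b.1) (a.2.2 ^^^ b.2)) = V := by
  set H := toMat tripleP with hH
  set F := toMat fixP with hF
  set C := toMat cycP with hC
  have hFH : F = 1 + H + H * H + H * H * H + H * H * (H * H) := by
    rw [hF, hH, ← toMat_oneP, ← toMat_mulP, ← toMat_mulP, ← toMat_mulP, ← toMat_xor, ← toMat_xor,
      ← toMat_xor, ← toMat_xor]
    exact toMat_eq (by decide +kernel)
  have hFF : F * F = F := by rw [hF, ← toMat_mulP]; exact toMat_eq (by decide +kernel)
  have hCC : C * C = C := by rw [hC, ← toMat_mulP]; exact toMat_eq (by decide +kernel)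
  have hsum : F + C = 1 := by
    rw [hF, hC, ← toMat_oneP, ← toMat_xor]; exact toMat_eq (by decide +kernel)
  have hC0 : ∀ j, C 0 j = 0 := by rw [hC]; decide +kernel
  have hFV : Commute F V := by
    rw [hFH]
    exact ((((Commute.one_left V).add_left hc).add_left (hc.mul_left hc)).add_left
      ((hc.mul_left hc).mul_left hc)).add_left ((hc.mul_left hc).mul_left (hc.mul_left hc))
  have hCV : Commute C V := by
    have e : C = 1 - F := by rw [← hsum, add_sub_cancel_left]
    rw [e]
    exact (Commute.one_left V).sub_left hFV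
  have hHF : Commute H F := by
    rw [hFH]
    exact ((((Commute.one_right H).add_right rfl).add_right ((Commute.refl H).mul_right rfl)).add_right
      (((Commute.refl H).mul_right rfl).mul_right rfl)).add_right
      (((Commute.refl H).mul_right rfl).mul_right ((Commute.refl H).mul_right rfl))
  have hHC : Commute H C := by
    have e : C = 1 - F := by rw [← hsum, add_sub_cancel_left]
    rw [e]
    exact (Commute.one_right H).sub_right hHF
  have hsq : ∀ E : Matrix (Fin 11) (Fin 11) (ZMod 2), E * E = E → Commute E V →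
      E * V * (E * V) = E := fun E h1 h2 => by
    rw [show E * V * (E * V) = E * (V * E) * V by simp only [mul_assoc], ← h2.eq,
      ← mul_assoc, h1, mul_assoc, hV, mul_one]
  set A := F * V with hA
  set B := C * V with hB
  have hAb := eq_build (A := A) (invariant_of_commute (hHF.mul_right hc : Commute H A))
  have hBb := eq_build (A := B) (invariant_of_commute (hHC.mul_right hc : Commute H B))
  have hB0 : rowNat (B 0) = 0 := by
    have e : B 0 = 0 := by
      funext j
      rw [hB, Matrix.mul_apply]
      exact Finset.sum_eq_zero fun k _ => by rw [hC0, zero_mul]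
    rw [e]; decide +kernel
  rw [hB0] at hBb
  have hrowA : ∀ i, rowNat (A i) ∈ fixRows := fun i => by
    rw [← fixedRows_fixP]
    refine mem_fixedRows ?_
    rw [← Matrix.mul_apply_eq_vecMul, hA, mul_assoc, ← hFV.eq, ← mul_assoc, hFF]
  have hrowB : ∀ i, rowNat (B i) ∈ cycRows := fun i => by
    rw [← fixedRows_cycP]
    refine mem_fixedRows ?_
    rw [← Matrix.mul_apply_eq_vecMul, hB, mul_assoc, ← hCV.eq, ← mul_assoc, hCC]
  have hmA : (rowNat (A 0), rowNat (A 1), rowNat (A 2)) ∈ listA := by
    have h := List.all_eq_true.1 (List.all_eq_true.1 (List.all_eq_true.1 coverA_all _ (hrowA 0)) _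
      (hrowA 1)) _ (hrowA 2)
    rw [coverA, Bool.or_eq_true, List.contains_iff_mem] at h
    refine h.resolve_left fun h' => ?_
    rw [Bool.not_eq_true'] at h'
    exact toMat_ne h' (by rw [toMat_mulP, ← hAb]; exact hsq F hFF hFV)
  have hmB : (rowNat (B 1), rowNat (B 2)) ∈ listB := by
    have h := coverB_all _ (hrowB 1) _ (hrowB 2)
    rw [coverB, Bool.or_eq_true, List.contains_iff_mem] at h
    refine h.resolve_left fun h' => ?_
    rw [Bool.not_eq_true'] at h'
    exact toMat_ne h' (by rw [toMat_mulP, ← hBb]; exact hsq C hCC hCV)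
  refine ⟨_, hmA, _, hmB, ?_⟩
  have hV' : V = A + B := by
    show V = F * V + C * V
    rw [← add_mul, hsum, one_mul]
  conv_rhs => rw [hV', hAb, hBb]
  ext i j
  rw [Matrix.add_apply, toMat_build, toMat_build, toMat_build, ← bitVal_xor]
  congr 1
  generalize rowClass i = c
  fin_cases c <;> simp [Nat.testBit_xor]

/-- The standard group of matrices. -/
noncomputable def stdMonoid : Submonoid (Matrix (Fin 11) (Fin 11) (ZMod 2)) :=
  Submonoid.closure {toMat shiftP, toMat tripleP, toMat stdP}

theorem mem_of_gen {G : Type*} [Group G] [Finite G] {s : Set G} {S : Submonoid G} (h : s ⊆ S)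
    {g : G} (hg : g ∈ Subgroup.closure s) : g ∈ S := by
  induction hg using Subgroup.closure_induction with
  | mem x hx => exact h hx
  | one => exact S.one_mem
  | mul x y _ _ hx hy => exact S.mul_mem hx hy
  | inv x _ hx =>
    rw [show x⁻¹ = x ^ (orderOf x - 1) from inv_eq_of_mul_eq_one_right (by
      rw [← pow_succ', Nat.sub_add_cancel (orderOf_pos x), pow_orderOf_eq_one])]
    exact S.pow_mem hx _

theorem twentySeven_dvd {U : Type*} [Group U] [Finite U]
    (Θ : U →* Matrix (Fin 11) (Fin 11) (ZMod 2)) {z h v : U} (hz : Θ z = toMat shiftP)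
    (hh : Θ h = toMat tripleP) (hv : Θ v = toMat stdP) : 27 ∣ Nat.card U := by
  let W : Submonoid U :=
    { carrier := {u | ∃ p ∈ subTwentySeven, Θ u = toMat p.2}
      one_mem' := by
        refine ⟨subTwentySeven.headI, List.mem_cons_self, ?_⟩
        rw [map_one, ← toMat_oneP]
        exact (toMat_eq distinct_subTwentySeven.2.2).symm
      mul_mem' := by
        rintro a b ⟨p, hp, ha⟩ ⟨q, hq, hb⟩
        have h := List.all_eq_true.1 (List.all_eq_true.1 closed_subTwentySeven p hp) q hq
        obtain ⟨r, hr, hr'⟩ := List.any_eq_true.1 h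
        exact ⟨r, hr, by rw [map_mul, ha, hb, ← toMat_mulP, toMat_eq hr']⟩ }
  let W' : Subgroup U :=
    { W with
      inv_mem' := fun {x} hx => by
        have e : x⁻¹ = x ^ (orderOf x - 1) := inv_eq_of_mul_eq_one_right (by
          rw [← pow_succ', Nat.sub_add_cancel (orderOf_pos x), pow_orderOf_eq_one])
        rw [e]
        exact W.pow_mem hx _ }
  let R : W' →* (Matrix (Fin 11) (Fin 11) (ZMod 2))ˣ := (Θ.comp W'.subtype).toHomUnits
  have hcard : Nat.card R.range = 27 := by
    let pts : List (Matrix (Fin 11) (Fin 11) (ZMod 2)) := subTwentySeven.map fun p => toMat p.2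
    have hnd : pts.Nodup := List.pairwise_map.2
      (distinct_subTwentySeven.1.imp fun h => toMat_ne h)
    have himg : (Units.val '' (R.range : Set (Matrix (Fin 11) (Fin 11) (ZMod 2))ˣ)) =
        (pts.toFinset : Set (Matrix (Fin 11) (Fin 11) (ZMod 2))) := by
      ext M
      simp only [Set.mem_image, SetLike.mem_coe, MonoidHom.mem_range, Finset.mem_coe,
        List.mem_toFinset, pts, List.mem_map]
      constructor
      · rintro ⟨_, ⟨⟨u, p, hp, hu⟩, rfl⟩, rfl⟩
        exact ⟨p, hp, hu.symm⟩
      · rintro ⟨p, hp, rfl⟩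
        have he : Θ (evalW z h v p.1) = toMat p.2 := by
          rw [map_evalW, hz, hh, hv, ← toMat_evalP]
          exact toMat_eq (List.all_eq_true.1 eval_subTwentySeven p hp)
        exact ⟨R ⟨evalW z h v p.1, p, hp, he⟩, ⟨_, rfl⟩, he⟩
    rw [← SetLike.coe_sort_coe, Nat.card_congr (Equiv.Set.image _ _ Units.val_injective), himg, Nat.card_coe_set_eq,
      Set.ncard_coe_finset, List.toFinset_card_of_nodup hnd, List.length_map,
      distinct_subTwentySeven.2.1]
  rw [← hcard]
  exact (Subgroup.card_range_dvd R).trans (Subgroup.card_subgroup_dvd_card W')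

theorem eight_dvd {U : Type*} [Group U] [Finite U]
    (Θ : U →* Matrix (Fin 11) (Fin 11) (ZMod 2)) {z h v : U} (hz : Θ z = toMat shiftP)
    (hh : Θ h = toMat tripleP) (hv : Θ v = toMat stdP) : 8 ∣ Nat.card U := by
  set u := evalW z h v wordEight
  have hu : Θ u = toMat (evalP shiftP tripleP stdP wordEight) := by
    rw [map_evalW, hz, hh, hv, toMat_evalP]
  have h4 : Θ u ^ 4 ≠ 1 := by
    have h := toMat_ne eval_wordEight.1
    simp only [toMat_mulP, toMat_oneP, ← hu] at h
    simpa [pow_succ, mul_assoc] using h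
  have h8 : Θ u ^ 8 = 1 := by
    have h := toMat_eq eval_wordEight.2
    simp only [toMat_mulP, toMat_oneP, ← hu] at h
    simpa [pow_succ, mul_assoc] using h
  have ho : orderOf (Θ u) = 8 := by
    have : Fact (Nat.Prime 2) := ⟨Nat.prime_two⟩
    exact orderOf_eq_prime_pow (p := 2) (n := 2) (by simpa using h4) (by simpa using h8)
  rw [← ho]
  exact (orderOf_map_dvd Θ u).trans (orderOf_dvd_natCard u)

variable {G : Type*} [Group G] [Fintype G] [IsSimpleGroup G] (hG : Nat.card G = 95040)
include hG

/-- A simple group of order `95040` is isomorphic to the standard group of matrices. -/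
theorem nonempty_mulEquiv_std : Nonempty (G ≃* stdMonoid) := by
  obtain ⟨z, h, v, ψ, hz, hho, hvo, hhv, hψz, hψh, hinj, hcent, h15, hN⟩ := exists_std hG
  have hψz' : ψ z = toMat shiftP := by rw [hψz, shiftMat, toMat_shiftP]
  have hψh' : ψ h = toMat tripleP := by rw [hψh, tripleMat, toMat_tripleP]
  have hv2 : v * v = 1 := by rw [← pow_two, ← hvo]; exact pow_orderOf_eq_one v
  obtain ⟨a, ha, b, hb, hab⟩ := exists_candidate (V := ψ v)
    (by rw [← map_mul, hv2, map_one])
    (by rw [← hψh']; exact hhv.map ψ)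
  set P := build a.1 (a.2.1 ^^^ b.1) (a.2.2 ^^^ b.2) with hP
  have hev : ∀ w, toMat (evalP shiftP tripleP P w) = ψ (evalW z h v w) := fun w => by
    rw [toMat_evalP, hab, ← hψz', ← hψh', map_evalW]
  have hchk : checkV P = true := List.all_eq_true.1 (checkA_all a ha) b hb
  simp only [checkV, Bool.or_eq_true] at hchk
  rcases hchk with ((((h1 | h1) | h1) | h1) | h1) | htarget
  · exfalso
    have e : ψ v = ψ 1 := by rw [map_one, ← hab, ← toMat_oneP]; exact toMat_eq h1
    rw [hinj e, orderOf_one] at hvo
    norm_num at hvo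
  · exfalso
    obtain ⟨w, -, hw⟩ := List.any_eq_true.1 h1
    rw [badOrder, Bool.not_eq_true'] at hw
    apply toMat_ne hw
    rw [toMat_pow95040, hev, toMat_oneP, ← map_pow, ← hG, pow_card_eq_one', map_one]
  · exfalso
    obtain ⟨w, -, hw⟩ := List.any_eq_true.1 h1
    simp only [badFifteen, Bool.and_eq_true, Bool.not_eq_true'] at hw
    obtain ⟨⟨e1, e2⟩, e3⟩ := hw
    have e := toMat_eq e1
    rw [toMat_pow5P, toMat_pow3P, ← pow_mul, hev, ← map_pow, toMat_oneP, ← map_one ψ] at e
    rcases h15 _ (hinj e) with e' | e'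
    · exact toMat_ne e2 (by rw [toMat_pow3P, hev, ← map_pow, e', map_one, toMat_oneP])
    · exact toMat_ne e3 (by rw [toMat_pow5P, hev, ← map_pow, e', map_one, toMat_oneP])
  · exfalso
    obtain ⟨w, -, hw⟩ := List.any_eq_true.1 h1
    simp only [badCentral, Bool.and_eq_true, Bool.not_eq_true', List.all_eq_true,
      List.mem_range] at hw
    obtain ⟨e1, e2⟩ := hw
    have e := toMat_eq e1
    rw [toMat_mulP, toMat_mulP, hev, ← hψh', ← map_mul, ← map_mul] at e
    obtain ⟨i, hi, e'⟩ := hcent _ (hinj e)
    have hrep : ∀ i, evalW z h v (List.replicate i 1) = h ^ i := fun i => by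
      induction i with
      | zero => simp [evalW]
      | succ i ih => rw [List.replicate_succ, evalW, ih, pow_succ']
    have hrep' : ∀ i, evalW z h v (List.replicate i 1 ++ [2]) = h ^ i * v := fun i => by
      induction i with
      | zero => simp [evalW]
      | succ i ih => rw [List.replicate_succ, List.cons_append, evalW, ih, pow_succ', mul_assoc]
    rcases e' with e' | e'
    · exact toMat_ne (e2 i hi).1 (by rw [hev, hev, e', hrep])
    · exact toMat_ne (e2 i hi).2 (by rw [hev, hev, e', hrep'])
  · exfalso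
    apply hN
    apply hinj
    have e := toMat_eq h1
    have hrep : evalW z h v (List.replicate 10 0) = z ^ 10 := by
      simp [List.replicate_succ, evalW, pow_succ', mul_assoc]
    rw [toMat_mulP, toMat_mulP, hev, hab, ← hψz', hrep] at e
    rw [map_mul, map_mul, mul_assoc]
    exact e
  simp only [isTarget, Bool.and_eq_true, Bool.or_eq_true, List.any_eq_true] at htarget
  obtain ⟨hinv, c, hc, hconj⟩ := htarget
  set E := toMat evenP with hE
  set O := toMat oddP with hO
  have hEE : E * E = E := by rw [hE, ← toMat_mulP]; exact toMat_eq (by decide +kernel)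
  have hEO : E * O = 0 := by rw [hE, hO, ← toMat_mulP]; decide +kernel
  have hOE : O * E = 0 := by rw [hE, hO, ← toMat_mulP]; decide +kernel
  have hOO : O * O = O := by rw [hO, ← toMat_mulP]; exact toMat_eq (by decide +kernel)
  have hEO1 : E + O = 1 := by
    rw [hE, hO, ← toMat_oneP, ← toMat_xor]; exact toMat_eq (by decide +kernel)
  have hEc : ∀ X, X = toMat shiftP ∨ X = toMat tripleP →
      E * X * E = E * X ∧ E * X * E = X * E := by
    rintro X (rfl | rfl) <;> constructor <;>
      (rw [hE, ← toMat_mulP, ← toMat_mulP]; try rw [← toMat_mulP]) <;>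
      exact toMat_eq (by decide +kernel)
  set C := toMat c.1 with hC
  set C' := toMat c.2 with hC'
  have hcf : C * C' = 1 ∧ C' * C = 1 ∧
      (C * toMat shiftP * C' = toMat shiftP) ∧ (C * toMat tripleP * C' = toMat tripleP) := by
    have hdec : ∀ p ∈ conjs, (eqP (mulP p.1 p.2) oneP && eqP (mulP p.2 p.1) oneP &&
        eqP (mulP (mulP p.1 shiftP) p.2) shiftP && eqP (mulP (mulP p.1 tripleP) p.2) tripleP) =
        true := by decide +kernel
    have h := hdec c hc
    simp only [Bool.and_eq_true] at h
    rw [hC, hC']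
    simp only [← toMat_mulP, ← toMat_oneP]
    exact ⟨toMat_eq h.1.1.1, toMat_eq h.1.1.2, toMat_eq h.1.2, toMat_eq h.2⟩
  have hVE : E * ψ v * E = E * ψ v ∨ E * ψ v * E = ψ v * E := by
    rw [hE, ← hab]
    simp only [← toMat_mulP]
    exact hinv.imp toMat_eq toMat_eq
  have hVT : C * (E * ψ v * E + O) * C' = toMat stdP := by
    have e := toMat_eq hconj
    simp only [toMat_xor, toMat_mulP, hab, ← hE, ← hO, ← hC, ← hC'] at e
    rw [e, show C * (C' * toMat stdP * C) * C' = C * C' * toMat stdP * (C * C') by
      simp only [mul_assoc], hcf.1, one_mul, mul_one]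
  let U := Subgroup.closure ({z, h, v} : Set G)
  have hUmul : ∀ g1 ∈ U, ∀ g2 ∈ U,
      E * ψ g1 * E * (E * ψ g2 * E) = E * ψ (g1 * g2) * E := by
    rcases hVE with hL | hR
    · let S : Submonoid G :=
        { carrier := {g | E * ψ g * E = E * ψ g}
          one_mem' := by simp [hEE]
          mul_mem' := by
            intro x y hx hy
            simp only [Set.mem_ofPred_eq] at hx hy ⊢
            calc E * ψ (x * y) * E = (E * ψ x) * ψ y * E := by rw [map_mul]; simp only [mul_assoc]
              _ = (E * ψ x * E) * ψ y * E := by rw [hx]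
              _ = E * ψ x * (E * ψ y * E) := by simp only [mul_assoc]
              _ = (E * ψ x * E) * ψ y := by rw [hy]; simp only [mul_assoc]
              _ = E * ψ (x * y) := by rw [hx, map_mul, mul_assoc] }
      intro g1 h1 g2 _
      have hS : g1 ∈ S := mem_of_gen (by
        rintro x (rfl | rfl | rfl)
        · exact (hEc _ (Or.inl hψz')).1
        · exact (hEc _ (Or.inr hψh')).1
        · exact hL) h1
      calc E * ψ g1 * E * (E * ψ g2 * E) = E * ψ g1 * (E * E) * ψ g2 * E := by simp only [mul_assoc]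
        _ = E * ψ g1 * E * ψ g2 * E := by rw [hEE]
        _ = E * ψ g1 * ψ g2 * E := by rw [show E * ψ g1 * E = E * ψ g1 from hS]
        _ = E * ψ (g1 * g2) * E := by rw [map_mul]; simp only [mul_assoc]
    · let S : Submonoid G :=
        { carrier := {g | E * ψ g * E = ψ g * E}
          one_mem' := by simp [hEE]
          mul_mem' := by
            intro x y hx hy
            simp only [Set.mem_ofPred_eq] at hx hy ⊢
            calc E * ψ (x * y) * E = E * ψ x * (ψ y * E) := by rw [map_mul]; simp only [mul_assoc]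
              _ = E * ψ x * (E * ψ y * E) := by rw [hy]
              _ = (E * ψ x * E) * ψ y * E := by simp only [mul_assoc]
              _ = ψ x * (E * ψ y * E) := by rw [hx]; simp only [mul_assoc]
              _ = ψ (x * y) * E := by rw [hy, map_mul, mul_assoc] }
      intro g1 _ g2 h2
      have hS : g2 ∈ S := mem_of_gen (by
        rintro x (rfl | rfl | rfl)
        · exact (hEc _ (Or.inl hψz')).2
        · exact (hEc _ (Or.inr hψh')).2
        · exact hR) h2
      calc E * ψ g1 * E * (E * ψ g2 * E) = E * ψ g1 * (E * E * ψ g2 * E) := by simp only [mul_assoc]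
        _ = E * ψ g1 * (E * ψ g2 * E) := by rw [hEE]
        _ = E * ψ g1 * (ψ g2 * E) := by rw [show E * ψ g2 * E = ψ g2 * E from hS]
        _ = E * ψ (g1 * g2) * E := by rw [map_mul]; simp only [mul_assoc]
  let Θ : U →* Matrix (Fin 11) (Fin 11) (ZMod 2) :=
    { toFun := fun g => C * (E * ψ g * E + O) * C'
      map_one' := by
        rw [Subgroup.coe_one, map_one, mul_one, hEE, hEO1, mul_one, hcf.1]
      map_mul' := fun g1 g2 => by
        have e : (E * ψ g1 * E + O) * (E * ψ g2 * E + O) = E * ψ (g1 * g2 : G) * E + O := by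
          rw [← hUmul _ g1.2 _ g2.2, add_mul, mul_add, mul_add, hOO,
            show E * ψ g1 * E * O = E * ψ g1 * (E * O) by simp only [mul_assoc], hEO,
            show O * (E * ψ g2 * E) = O * E * ψ g2 * E by simp only [mul_assoc], hOE]
          simp
        rw [Subgroup.coe_mul, ← e,
          show C * (E * ψ g1 * E + O) * C' * (C * (E * ψ g2 * E + O) * C') =
            C * (E * ψ g1 * E + O) * (C' * C) * (E * ψ g2 * E + O) * C' by simp only [mul_assoc],
          hcf.2.1, mul_one]
        simp only [mul_assoc] }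
  have hzU : z ∈ U := Subgroup.subset_closure (by simp)
  have hhU : h ∈ U := Subgroup.subset_closure (by simp)
  have hvU : v ∈ U := Subgroup.subset_closure (by simp)
  have hfix : ∀ X, X = toMat shiftP ∨ X = toMat tripleP → E * X * E + O = X := by
    rintro X (rfl | rfl) <;>
      (rw [hE, hO, ← toMat_mulP, ← toMat_mulP, ← toMat_xor]; exact toMat_eq (by decide +kernel))
  have hΘz : Θ ⟨z, hzU⟩ = toMat shiftP := by
    show C * (E * ψ z * E + O) * C' = _
    rw [hψz', hfix _ (Or.inl rfl), hcf.2.2.1]
  have hΘh : Θ ⟨h, hhU⟩ = toMat tripleP := by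
    show C * (E * ψ h * E + O) * C' = _
    rw [hψh', hfix _ (Or.inr rfl), hcf.2.2.2]
  have hΘv : Θ ⟨v, hvU⟩ = toMat stdP := hVT
  have hU : U = ⊤ := by
    have h8 := eight_dvd Θ hΘz hΘh hΘv
    have h27 := twentySeven_dvd Θ hΘz hΘh hΘv
    have h11 : 11 ∣ Nat.card U := by
      rw [← hz, ← Subgroup.orderOf_mk z hzU]; exact orderOf_dvd_natCard _
    have h5 : 5 ∣ Nat.card U := by
      rw [← hho, ← Subgroup.orderOf_mk h hhU]; exact orderOf_dvd_natCard _
    have hlcm : 11880 ∣ Nat.card U :=
      (by norm_num : Nat.Coprime (8 * 27 * 5) 11).mul_dvd_of_dvd_of_dvd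
        ((by norm_num : Nat.Coprime (8 * 27) 5).mul_dvd_of_dvd_of_dvd
          ((by norm_num : Nat.Coprime 8 27).mul_dvd_of_dvd_of_dvd h8 h27) h5) h11
    have hmul := U.index_mul_card
    rw [hG] at hmul
    have hidx : U.index ∣ 8 := by
      obtain ⟨k, hk⟩ := hlcm
      exact ⟨k, by rw [hk] at hmul; linarith⟩
    by_contra hne
    have hfaith : Function.Injective (MulAction.toPermHom G (G ⧸ U)) := by
      rw [← MonoidHom.ker_eq_bot_iff, ← Subgroup.normalCore_eq_ker]
      refine (Subgroup.normalCore_normal U).eq_bot_or_eq_top.resolve_right fun e => hne ?_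
      exact top_le_iff.1 (e ▸ Subgroup.normalCore_le U)
    have hd := Subgroup.card_dvd_of_injective _ hfaith
    rw [Nat.card_perm, ← Subgroup.index_eq_card, hG] at hd
    have h11' : 11 ∣ Nat.factorial 8 := ((by norm_num : (11 : ℕ) ∣ 95040).trans hd).trans
      (Nat.factorial_dvd_factorial (Nat.le_of_dvd (by norm_num) hidx))
    norm_num [Nat.factorial] at h11'
  let Φ : G →* Matrix (Fin 11) (Fin 11) (ZMod 2) :=
    Θ.comp ((MonoidHom.id G).codRestrict U fun g => by rw [hU]; trivial)
  have hΦ : ∀ g (hg : g ∈ U), Φ g = Θ ⟨g, hg⟩ := fun g hg => rfl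
  have hΦinj : Function.Injective Φ := by
    rw [injective_iff_map_eq_one]
    intro g hg
    rcases (inferInstance : (MonoidHom.ker Φ).Normal).eq_bot_or_eq_top with e | e
    · rw [← Subgroup.mem_bot, ← e]; exact hg
    · have h1 : Φ z = 1 := by rw [← MonoidHom.mem_ker, e]; trivial
      rw [hΦ z hzU, hΘz, toMat_shiftP] at h1
      exact absurd (congrFun (congrFun h1 0) 0) (by decide)
  have hrange : MonoidHom.mrange Φ = stdMonoid := by
    refine le_antisymm ?_ (Submonoid.closure_le.2 ?_)
    · rintro _ ⟨g, rfl⟩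
      have hg : g ∈ stdMonoid.comap Φ := mem_of_gen (s := {z, h, v}) (by
        rintro x (rfl | rfl | rfl)
        · exact Submonoid.subset_closure (by rw [hΦ _ hzU, hΘz]; simp)
        · exact Submonoid.subset_closure (by rw [hΦ _ hhU, hΘh]; simp)
        · exact Submonoid.subset_closure (by rw [hΦ _ hvU, hΘv]; simp))
        (show g ∈ U by rw [hU]; trivial)
      exact hg
    · rintro x (rfl | rfl | rfl)
      · exact ⟨z, by rw [hΦ _ hzU, hΘz]⟩
      · exact ⟨h, by rw [hΦ _ hhU, hΘh]⟩
      · exact ⟨v, by rw [hΦ _ hvU, hΘv]⟩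
  exact ⟨(MulEquiv.ofBijective Φ.mrangeRestrict
    ⟨fun x y e => hΦinj (congrArg Subtype.val e), Φ.mrangeRestrict_surjective⟩).trans
    (MulEquiv.submonoidCongr hrange)⟩

end CfsgLib.Blocks.Order95040
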