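import Cfsg.Agent.Lib.Blocks.Order95040.Degrees
import Cfsg.Agent.Lib.Blocks.Order95040.Field
import Cfsg.Agent.Lib.Blocks.Order95040.Fixed
import Cfsg.Agent.Lib.Char.ComplexAut

/-!
# Values of the two characters of degree eleven
-/

set_option autoImplicit false

namespace CfsgLib.Blocks.Order95040

open Cfsg CfsgLib CfsgLib.Char CfsgLib.CharIntegral Polynomial
open scoped Classical ComplexConjugate Pointwise

variable {G : Type*} [Group G] [Fintype G]

/-- A character value is an integer polynomial in a root of unity of the order of the element. -/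
theorem exists_poly_orderOf (χ : IrrCharacter G) (g : G) {ζ : ℂ}
    (hζ : IsPrimitiveRoot ζ (orderOf g)) :
    ∃ P : ℤ[X], aeval ζ P = (χ : G → ℂ) g := by
  obtain ⟨n, ρ, hρ, hρc⟩ := χ.2
  obtain ⟨ε, hε, -, hpow, -⟩ := exists_eigenvalues ρ g
  have : NeZero (orderOf g) := ⟨(orderOf_pos g).ne'⟩
  choose j hj using fun i => hζ.eq_pow_of_pow_eq_one (hε i)
  refine ⟨∑ i, X ^ j i, ?_⟩
  rw [← hρc, show ρ.character g = ρ.character (g ^ 1) by rw [pow_one], hpow]
  simp only [map_sum, map_pow, aeval_X, pow_one]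
  exact Finset.sum_congr rfl fun i _ => (hj i).2

omit [Fintype G] in
theorem val_of_conj {χ : IrrCharacter G} {g a : G} (h : IsConj g a) :
    (χ : G → ℂ) g = (χ : G → ℂ) a := by
  obtain ⟨c, rfl⟩ := isConj_iff.1 h
  exact (IsIrr.isClassFunction χ.2 g c).symm

variable [IsSimpleGroup G] (hG : Nat.card G = 95040)
include hG

omit [IsSimpleGroup G] in
/-- An element of order divisible by five is conjugate to `x` or to `x v`. -/
theorem conj_five {z : G} {D : ElevenData z} (F : FiveData D) {g : G} (hg : 5 ∣ orderOf g) :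
    (IsConj g F.x ∧ orderOf g = 5) ∨ IsConj g (F.x * F.v) := by
  have : Fact (Nat.Prime 5) := ⟨Nat.prime_five⟩
  obtain ⟨hq, hq6, hq5, hqm⟩ := ten_powers F.hx F.hv F.hxv F.hnx F.hnv
  set o := orderOf g with ho
  have hyo : orderOf (g ^ (o / 5)) = 5 := orderOf_pow_orderOf_div (orderOf_pos g).ne' hg
  obtain ⟨P, hP⟩ := exists_sylow_mem hyo
  obtain ⟨Q, hQ⟩ := exists_sylow_mem F.hx
  obtain ⟨c, hc⟩ := MulAction.exists_smul_eq G P Q
  have hmem : c * g ^ (o / 5) * c⁻¹ ∈ (Q : Subgroup G) := by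
    have h1 : MulAut.conj c • g ^ (o / 5) ∈ MulAut.conj c • (P : Subgroup G) :=
      Subgroup.smul_mem_pointwise_smul _ _ _ hP
    rw [← hc]
    exact h1
  have hQc : (Q : Subgroup G) = Subgroup.zpowers F.x :=
    (Subgroup.eq_of_le_of_card_ge (Subgroup.zpowers_le.2 hQ)
      (by rw [card_sylow hG (Or.inr rfl) Q, Nat.card_zpowers, F.hx])).symm
  rw [hQc] at hmem
  obtain ⟨k, hk⟩ := mem_powers_iff_mem_zpowers.2 hmem
  have hk' : F.x ^ (k % 5) = c * g ^ (o / 5) * c⁻¹ := by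
    rw [← hk, ← F.hx, pow_mod_orderOf]
  have hk0 : k % 5 ≠ 0 := fun e => by
    rw [e, pow_zero, ← conj_pow] at hk'
    have h1 : g ^ (o / 5) = 1 := by
      rw [conj_pow] at hk'
      exact conj_eq_one_iff.1 hk'.symm
    rw [h1, orderOf_one] at hyo
    norm_num at hyo
  obtain ⟨d, hd⟩ := isConj_iff.1 (five_powers F.hx F.hnx (k % 5) (Nat.pos_of_ne_zero hk0)
    (Nat.mod_lt _ (by norm_num)))
  set g' := d * c * g * (d * c)⁻¹ with hg'
  have hconj : IsConj g g' := isConj_iff.2 ⟨d * c, rfl⟩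
  have hx' : g' ^ (o / 5) = F.x := by
    rw [hg', conj_pow, ← hd, hk']; group
  have hoq : orderOf g' = o := by
    rw [ho, hg']
    exact orderOf_injective (MulAut.conj (d * c)).toMonoidHom (MulAut.conj (d * c)).injective g
  have hcent : g' ∈ Subgroup.centralizer ({F.x} : Set G) :=
    Subgroup.mem_centralizer_singleton_iff.2 (by rw [← hx', ← pow_succ', ← pow_succ])
  have hzp : Subgroup.zpowers (F.x * F.v) = Subgroup.centralizer ({F.x} : Set G) := by
    refine Subgroup.eq_of_le_of_card_ge (Subgroup.zpowers_le.2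
      (Subgroup.mem_centralizer_singleton_iff.2 ?_)) ?_
    · rw [mul_assoc, ← F.hxv.eq]
    · rw [Nat.card_zpowers, hq]; exact le_of_eq F.cent_x
  rw [← hzp] at hcent
  obtain ⟨m, hm⟩ := mem_powers_iff_mem_zpowers.2 hcent
  have hmo : o = 10 / Nat.gcd 10 m := by rw [← hoq, ← hm, orderOf_pow, hq]
  have hm' : (F.x * F.v) ^ (m % 10) = g' := by rw [← hm, ← hq, pow_mod_orderOf]
  have hmo' : o = 10 / Nat.gcd (m % 10) 10 := by rw [hmo, Nat.gcd_rec]
  rw [show orderOf g = o from rfl] at *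
  have hlt := Nat.mod_lt m (show 0 < 10 by norm_num)
  obtain ⟨r, hr⟩ : ∃ r, r = m % 10 := ⟨_, rfl⟩
  rw [← hr] at hm' hmo' hlt
  have hv2 : F.v ^ 2 = 1 := by rw [← F.hv]; exact pow_orderOf_eq_one _
  have heven : ∀ i, 0 < i → i < 5 → IsConj ((F.x * F.v) ^ (2 * i)) F.x := fun i hi0 hi5 => by
    rw [F.hxv.mul_pow, pow_mul F.v, hv2, one_pow, mul_one, pow_mul']
    obtain ⟨a, ha⟩ := isConj_iff.1 (five_powers F.hx F.hnx i hi0 hi5)
    exact (isConj_iff.2 ⟨a, by rw [← conj_pow, ha]⟩).trans (five_powers F.hx F.hnx 2 (by norm_num)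
      (by norm_num))
  interval_cases r
  · exfalso; norm_num at hmo'; omega
  · exact Or.inr (hconj.trans (hm' ▸ hqm 1 (by norm_num)))
  · exact Or.inl ⟨hconj.trans (hm' ▸ heven 1 (by norm_num) (by norm_num)), by norm_num [hmo']⟩
  · exact Or.inr (hconj.trans (hm' ▸ hqm 3 (by norm_num)))
  · exact Or.inl ⟨hconj.trans (hm' ▸ heven 2 (by norm_num) (by norm_num)), by norm_num [hmo']⟩
  · exfalso; norm_num at hmo'; omega
  · exact Or.inl ⟨hconj.trans (hm' ▸ heven 3 (by norm_num) (by norm_num)), by norm_num [hmo']⟩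
  · exact Or.inr (hconj.trans (hm' ▸ hqm 7 (by norm_num)))
  · exact Or.inl ⟨hconj.trans (hm' ▸ heven 4 (by norm_num) (by norm_num)), by norm_num [hmo']⟩
  · exact Or.inr (hconj.trans (hm' ▸ hqm 9 (by norm_num)))

variable {z : G} {D : ElevenData z} {F : FiveData D} (K : DegData F)

include K in
/-- The sum of a degree eleven character over the normalizer of `⟨z⟩`. -/
theorem sum_normalizer {χ : IrrCharacter G} (hχ : deg χ = 11)
    {B : Subgroup G} (hB : B = Subgroup.normalizer ((Subgroup.zpowers z : Subgroup G) : Set G)) :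
    ∑ b : B, (χ : G → ℂ) b = (Nat.card B : ℂ) := by
  have hB55 : Nat.card B = 55 := by rw [hB]; exact D.hnorm
  obtain ⟨m, hm⟩ := exists_sum_subgroup χ B
  have hcases : ∀ b : B, (11 ∣ orderOf (b : G) ∧ (χ : G → ℂ) b = ((0 : ℕ) : ℂ)) ∨
      ((b : G) = 1 ∧ (χ : G → ℂ) b = ((11 : ℕ) : ℂ)) ∨
      ((b : G) ≠ 1 ∧ (χ : G → ℂ) b = ((1 : ℕ) : ℂ)) := fun b => by
    have ho : orderOf (b : G) ∣ 55 := by
      rw [← hB55, Subgroup.orderOf_coe]
      exact orderOf_dvd_natCard b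
    rcases (Nat.dvd_mul.1 (show orderOf (b : G) ∣ 5 * 11 from ho)) with ⟨a, c, ha, hc, hac⟩
    rcases (Nat.dvd_prime Nat.prime_five).1 ha with rfl | rfl <;>
      rcases (Nat.dvd_prime (by norm_num : Nat.Prime 11)).1 hc with rfl | rfl
    · refine Or.inr (Or.inl ⟨orderOf_eq_one_iff.1 hac.symm, ?_⟩)
      rw [orderOf_eq_one_iff.1 hac.symm, deg_cast, hχ]
    · refine Or.inl ⟨by rw [← hac] <;> norm_num, ?_⟩
      rw [Nat.cast_zero]
      exact vanish hG (p := 11) (n := 1) (by norm_num) (by norm_num) (by norm_num)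
        (by rw [hχ]; norm_num) (by rw [← hac] <;> norm_num)
    · refine Or.inr (Or.inr ⟨fun e => by rw [e, orderOf_one] at hac; omega, ?_⟩)
      rcases conj_five hG F (g := (b : G)) (by rw [← hac] <;> norm_num) with ⟨h, -⟩ | h
      · rw [val_of_conj h, K.val_x χ hχ, Nat.cast_one]
      · have h1 : orderOf (b : G) = orderOf (F.x * F.v) := by
          obtain ⟨c, hc⟩ := isConj_iff.1 h
          rw [← hc]
          exact (orderOf_injective (MulAut.conj c).toMonoidHom (MulAut.conj c).injective _).symm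
        rw [(ten_powers F.hx F.hv F.hxv F.hnx F.hnv).1] at h1
        omega
    · refine Or.inl ⟨by rw [← hac] <;> norm_num, ?_⟩
      rw [Nat.cast_zero]
      exact vanish hG (p := 11) (n := 1) (by norm_num) (by norm_num) (by norm_num)
        (by rw [hχ]; norm_num) (by rw [← hac] <;> norm_num)
  have hval : ∀ b : B, (χ : G → ℂ) b =
      ((if 11 ∣ orderOf (b : G) then 0 else if (b : G) = 1 then 11 else 1 : ℕ) : ℂ) := fun b => by
    rcases hcases b with ⟨h1, h2⟩ | ⟨h1, h2⟩ | ⟨h1, h2⟩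
    · rw [if_pos h1, h2]
    · rw [if_neg (by rw [h1, orderOf_one]; norm_num), if_pos h1, h2]
    · rw [h2]
      congr 1
      by_cases h11 : 11 ∣ orderOf (b : G)
      · exfalso
        have h3 := vanish hG (p := 11) (n := 1) (by norm_num) (by norm_num) (by norm_num)
          (χ := χ) (by rw [hχ]; norm_num) h11
        rw [h2] at h3
        norm_num at h3
      · rw [if_neg h11, if_neg h1]
  rw [hB55] at hm ⊢
  rw [hm]
  have hnat : ∑ b : B, (if 11 ∣ orderOf (b : G) then 0 else if (b : G) = 1 then 11 else 1 : ℕ) =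
      55 * m := by
    apply Nat.cast_injective (R := ℂ)
    push_cast at hm ⊢
    rw [← hm]
    exact Finset.sum_congr rfl fun b _ => by rw [hval b]; push_cast; rfl
  have hlow : 11 ≤ 55 * m := by
    rw [← hnat]
    refine le_trans ?_ (Finset.single_le_sum (fun b _ => Nat.zero_le _) (Finset.mem_univ (1 : B)))
    simp
  have hzB : z ∈ B := hB ▸ Subgroup.le_normalizer (Subgroup.mem_zpowers z)
  have hup : 55 * m < 55 * 2 := by
    rw [← hnat]
    calc _ ≤ ∑ b : B, ((if b = 1 then 10 else 0) + 1) := Finset.sum_le_sum fun b _ => by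
          by_cases hb : b = 1
          · subst hb; simp
          · rw [if_neg hb, if_neg (fun e : (b : G) = 1 => hb (Subtype.ext e))]
            split_ifs <;> norm_num
      _ < 55 * 2 := by
        rw [Finset.sum_add_distrib, Finset.sum_ite_eq', if_pos (Finset.mem_univ _),
          Finset.sum_const, Finset.card_univ, ← Nat.card_eq_fintype_card, hB55]
        norm_num
  have : m = 1 := by omega
  subst this
  norm_num

theorem sum_int : ∀ g : G, ∃ k : ℤ, (K.c1 : G → ℂ) g + (K.c2 : G → ℂ) g = k ∧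
    ∀ h : G, ∃ l : ℤ, ((K.c1 : G → ℂ) g - (K.c2 : G → ℂ) g) *
      ((K.c1 : G → ℂ) h - (K.c2 : G → ℂ) h) = l := by
  intro g
  obtain ⟨ζ, hζ⟩ : ∃ ζ : ℂ, IsPrimitiveRoot ζ (Nat.card G) :=
    ⟨_, Complex.isPrimitiveRoot_exp _ Nat.card_pos.ne'⟩
  have hswap : ∀ m : ℕ, m.Coprime (Nat.card G) →
      (∀ a, (K.c1 : G → ℂ) (a ^ m) = (K.c1 : G → ℂ) a ∧ (K.c2 : G → ℂ) (a ^ m) = (K.c2 : G → ℂ) a) ∨
      (∀ a, (K.c1 : G → ℂ) (a ^ m) = (K.c2 : G → ℂ) a ∧ (K.c2 : G → ℂ) (a ^ m) = (K.c1 : G → ℂ) a) := by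
    intro m hm
    obtain ⟨a, ha⟩ := exists_powerMap hG K.c1 (hG ▸ hm)
    obtain ⟨b, hb⟩ := exists_powerMap hG K.c2 (hG ▸ hm)
    have hdeg : ∀ (c e : IrrCharacter G), (∀ y, (e : G → ℂ) y = (c : G → ℂ) (y ^ m)) →
        deg c = 11 → deg e = 11 := fun c e he hc =>
      charDegree_eq (by rw [he, one_pow, deg_cast, hc])
    have hne : a ≠ b := fun e => K.ne (irr_ext fun y => by
      obtain ⟨y', rfl⟩ := (powCoprime (G := G) hm.symm).surjective y
      show (K.c1 : G → ℂ) (y' ^ m) = (K.c2 : G → ℂ) (y' ^ m)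
      rw [← ha, ← hb, e])
    rcases K.only a (hdeg _ _ ha K.d1) with rfl | rfl <;>
      rcases K.only b (hdeg _ _ hb K.d2) with rfl | rfl
    · exact absurd rfl hne
    · exact Or.inl fun y => ⟨(ha y).symm, (hb y).symm⟩
    · exact Or.inr fun y => ⟨(ha y).symm, (hb y).symm⟩
    · exact absurd rfl hne
  obtain ⟨P1, hP1⟩ := ComplexAut.exists_intPoly (IsIrr.isCharacter K.c1.2) hζ g
  obtain ⟨P2, hP2⟩ := ComplexAut.exists_intPoly (IsIrr.isCharacter K.c2.2) hζ g
  obtain ⟨k, hk⟩ := exists_int_of_poly Nat.card_pos.ne' hζ (P1 + P2)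
    (c := (K.c1 : G → ℂ) g + (K.c2 : G → ℂ) g) fun m hm => by
      rw [map_add, ← hP1, ← hP2]
      rcases hswap m hm with h | h <;> rw [(h g).1, (h g).2]
      exact add_comm _ _
  refine ⟨k, hk, fun h => ?_⟩
  obtain ⟨Q1, hQ1⟩ := ComplexAut.exists_intPoly (IsIrr.isCharacter K.c1.2) hζ h
  obtain ⟨Q2, hQ2⟩ := ComplexAut.exists_intPoly (IsIrr.isCharacter K.c2.2) hζ h
  exact exists_int_of_poly Nat.card_pos.ne' hζ ((P1 - P2) * (Q1 - Q2)) fun m hm => by
    rw [map_mul, map_sub, map_sub, ← hP1, ← hP2, ← hQ1, ← hQ2]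
    rcases hswap m hm with e | e <;> rw [(e g).1, (e g).2, (e h).1, (e h).2]
    ring

/-- If the difference is not integral, it generates `ℚ(√2)`, `ℚ(√3)` or `ℚ(√6)`. -/
theorem exists_sqrt {g0 : G}
    (h0 : ¬ ∃ i : ℤ, (K.c1 : G → ℂ) g0 - (K.c2 : G → ℂ) g0 = i) :
    ∃ (m : ℕ) (r : ℂ), (m = 2 ∨ m = 3 ∨ m = 6) ∧ r ^ 2 = m ∧
      ∀ g, ∃ i : ℤ, r * ((K.c1 : G → ℂ) g - (K.c2 : G → ℂ) g) = i := by
  set δ : G → ℂ := fun g => (K.c1 : G → ℂ) g - (K.c2 : G → ℂ) g with hδ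
  have hzero : (5 ∣ orderOf g0 ∨ 11 ∣ orderOf g0) → False := fun h => h0 ⟨0, by
    rw [Int.cast_zero, sub_eq_zero]
    rcases h with h | h
    · rcases conj_five hG F h with ⟨e, -⟩ | e <;> rw [val_of_conj e, val_of_conj e]
      · rw [K.val_x _ K.d1, K.val_x _ K.d2]
      · rw [K.val_xv _ K.d1, K.val_xv _ K.d2]
    · rw [vanish hG (p := 11) (n := 1) (by norm_num) (by norm_num) (by norm_num)
          (χ := K.c1) (by rw [K.d1]; norm_num) h,
        vanish hG (p := 11) (n := 1) (by norm_num) (by norm_num) (by norm_num)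
          (χ := K.c2) (by rw [K.d2]; norm_num) h]⟩
  have ho : orderOf g0 ∣ 1728 := by
    refine Nat.Coprime.dvd_of_dvd_mul_right (n := 5 * 11) ?_
      (show orderOf g0 ∣ 1728 * (5 * 11) from (hG.trans (by norm_num : (95040 : ℕ) = 1728 * (5 * 11))) ▸
        orderOf_dvd_natCard g0)
    refine Nat.Coprime.mul_right ?_ ?_
    · exact ((Nat.Prime.coprime_iff_not_dvd Nat.prime_five).2 fun h => hzero (Or.inl h)).symm
    · exact ((Nat.Prime.coprime_iff_not_dvd (by norm_num : Nat.Prime 11)).2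
        fun h => hzero (Or.inr h)).symm
  obtain ⟨i, hi⟩ := (sum_int hG K g0).choose_spec.2 g0
  have hre : δ g0 = (((δ g0).re : ℝ) : ℂ) := Complex.ext (by simp) (by
    simp [hδ, K.real _ K.d1 g0, K.real _ K.d2 g0])
  have hi0 : 0 ≤ i := by
    have h : δ g0 * δ g0 = (i : ℂ) := hi
    rw [hre] at h
    have h' : (δ g0).re * (δ g0).re = (i : ℝ) := by exact_mod_cast h
    have h'' : (0 : ℝ) ≤ (i : ℝ) := h' ▸ mul_self_nonneg _
    exact_mod_cast h''
  obtain ⟨Dn, rfl⟩ := Int.eq_ofNat_of_zero_le hi0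
  have hD0 : Dn ≠ 0 := fun e => h0 ⟨0, by
    rw [e] at hi
    simpa [mul_self_eq_zero, sub_eq_zero] using hi⟩
  obtain ⟨ζ, hζ⟩ : ∃ ζ : ℂ, IsPrimitiveRoot ζ (orderOf g0) :=
    ⟨_, Complex.isPrimitiveRoot_exp _ (orderOf_pos g0).ne'⟩
  obtain ⟨P1, hP1⟩ := exists_poly_orderOf K.c1 g0 hζ
  obtain ⟨P2, hP2⟩ := exists_poly_orderOf K.c2 g0 hζ
  obtain ⟨m, k, hmk, hm, hprimes⟩ := squarefree_part_dvd (orderOf_pos g0).ne' hζ (P1 - P2) hD0
    (by rw [map_sub, hP1, hP2, pow_two, hi]; push_cast; rfl)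
  have hk0 : (k : ℂ) ≠ 0 := Nat.cast_ne_zero.2 fun e => hD0 (by rw [← hmk, e]; simp)
  have hsq : δ g0 ^ 2 = ((k ^ 2 * m : ℕ) : ℂ) := by
    rw [hmk, pow_two]
    exact hi.trans (by push_cast; rfl)
  have hm6 : m ∣ 6 := by
    rw [← Nat.prod_primeFactors_of_squarefree hm]
    refine (Finset.prod_dvd_prod_of_subset _ ({2, 3} : Finset ℕ) _ fun q hq => ?_).trans
      (by norm_num)
    obtain ⟨hqp, hqm, -⟩ := Nat.mem_primeFactors.1 hq
    have h := (hprimes q hqp hqm).trans ho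
    rw [show (1728 : ℕ) = 2 ^ 6 * 3 ^ 3 by norm_num] at h
    rcases hqp.dvd_mul.1 h with h | h
    · simp [(Nat.prime_dvd_prime_iff_eq hqp Nat.prime_two).1 (hqp.dvd_of_dvd_pow h)]
    · simp [(Nat.prime_dvd_prime_iff_eq hqp Nat.prime_three).1 (hqp.dvd_of_dvd_pow h)]
  have hm1 : m ≠ 1 := fun e => by
    rw [e, mul_one, Nat.cast_pow] at hsq
    rcases sq_eq_sq_iff_eq_or_eq_neg.1 hsq with h | h
    · exact h0 ⟨k, by simpa [hδ] using h⟩
    · exact h0 ⟨-(k : ℤ), by simpa [hδ] using h⟩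
  have hm236 : m = 2 ∨ m = 3 ∨ m = 6 := by
    have : m ∈ Nat.divisors 6 := Nat.mem_divisors.2 ⟨hm6, by norm_num⟩
    rw [show Nat.divisors 6 = {1, 2, 3, 6} by decide] at this
    simp only [Finset.mem_insert, Finset.mem_singleton] at this
    tauto
  have hr2 : (δ g0 / k) ^ 2 = (m : ℂ) := by
    rw [div_pow, hsq]; push_cast; field_simp
  refine ⟨m, δ g0 / k, hm236, hr2, fun g => ?_⟩
  obtain ⟨l, hl⟩ := (sum_int hG K g0).choose_spec.2 g
  have hval : δ g0 / k * δ g = algebraMap ℚ ℂ ((l : ℚ) / k) := by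
    rw [eq_ratCast]; push_cast; rw [← hl]; simp only [hδ]; ring
  have hint : IsIntegral ℤ (δ g0 / k * δ g) := by
    refine IsIntegral.mul (IsIntegral.of_pow (n := 2) (by norm_num) ?_) (IsIntegral.sub ?_ ?_)
    · rw [hr2]; exact_mod_cast isIntegral_algebraMap (R := ℤ) (x := (m : ℤ))
    all_goals
      obtain ⟨n, ρ, -, hρ⟩ := (Subtype.property _ : IsIrrCharacter G _)
      rw [← hρ]
      exact CfsgLib.CharIntegral.isIntegral_character ρ g
  rw [hval] at hint
  obtain ⟨j, hj⟩ := IsIntegrallyClosed.isIntegral_iff.mp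
    ((isIntegral_algebraMap_iff (algebraMap ℚ ℂ).injective).1 hint)
  exact ⟨j, by rw [hval, ← hj]; simp⟩

end CfsgLib.Blocks.Order95040
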